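import Mathlib
import Cfsg.Agent.ClassicalGeometry.SympBasic
import Cfsg.Agent.S0765
import Cfsg.Agent.FastGrp
import Cfsg.Agent.Prune
set_option linter.all false

section
prune_inst 0x7f00000000000000000000000000000000000000000000000000000000000000000000000000000000000000000000000000000000000000000000000000000000000000000000000000000000000000003fffffffffffffffffffffffffffbeffbdffffffff

-- part: H916/SpSixC
section
set_option linter.all false
open scoped Cfsg.Agent.FastGrp

/-!
# Seven involutions satisfying the Coxeter relations of type `E₇`: the 63 reflections, indexed by the nonzero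
vectors of the six-dimensional symplectic space over the field with two elements
-/

set_option autoImplicit false
set_option linter.unusedSectionVars false
set_option linter.unusedVariables false

namespace Cfsg.Agent.H916.SpSix

/-- the symplectic form on masks: bits 0-2 against bits 3-5 -/
def om (a b : ℕ) : Bool :=
  (((a.testBit 0 && b.testBit 3) ^^ (a.testBit 3 && b.testBit 0)) ^^
  ((a.testBit 1 && b.testBit 4) ^^ (a.testBit 4 && b.testBit 1))) ^^
  ((a.testBit 2 && b.testBit 5) ^^ (a.testBit 5 && b.testBit 2))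

/-- the transvection with direction `x` -/
def rf (x v : ℕ) : ℕ := if om x v then x ^^^ v else v

/-- simple roots of type `E₇` -/
def sr : Fin 7 → ℕ := ![1, 8, 3, 16, 6, 32, 48]

def wtab : List (List (Fin 7) × Fin 7) := [
  ([], 0),
  ([], 0),
  ([3,4,2,3,1,2,6,5,4,3,2,1], 0),
  ([], 2),
  ([6,2,3,1,2,6,4,3,2,1], 0),
  ([6,5,4,3], 2),
  ([], 4),
  ([1,2,6,5,4,3,2,1], 0),
  ([], 1),
  ([1], 0),
  ([2,1], 0),
  ([2], 1),
  ([6,5,4,3,2,1], 0),
  ([6,5,4,3,2], 1),
  ([2,6,5,4,3,2], 1),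
  ([2,6,5,4,3,2,1], 0),
  ([], 3),
  ([4,3,1,2,6,5,4,3,2,1], 0),
  ([4,2,3,1,2,6,5,4,3,2,1], 0),
  ([3], 2),
  ([2,3,1,2,6,5,4,3,2,1], 0),
  ([4,3], 2),
  ([4], 3),
  ([3,1,2,6,5,4,3,2,1], 0),
  ([4,3,2,6,5,4,3,2], 1),
  ([4,3,2,6,5,4,3,2,1], 0),
  ([3,2,1], 0),
  ([3,2], 1),
  ([4,3,2,1], 0),
  ([4,3,2], 1),
  ([3,2,6,5,4,3,2], 1),
  ([3,2,6,5,4,3,2,1], 0),
  ([], 5),
  ([1,2,6,3,2,1], 0),
  ([6,4,2,3,1,2,6,5,4,3,2,1], 0),
  ([6,3], 2),
  ([6,2,3,1,2,6,5,4,3,2,1], 0),
  ([6,4,3], 2),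
  ([5], 4),
  ([1,2,6,4,3,2,1], 0),
  ([2,6,3,2], 1),
  ([2,6,3,2,1], 0),
  ([6,3,2,1], 0),
  ([6,3,2], 1),
  ([6,4,3,2,1], 0),
  ([6,4,3,2], 1),
  ([2,6,4,3,2], 1),
  ([2,6,4,3,2,1], 0),
  ([], 6),
  ([2,6,3,4,2,3,1,2,6,5,4,3,2,1], 0),
  ([6,3,4,2,3,1,2,6,5,4,3,2,1], 0),
  ([6], 2),
  ([2,3,1,2,6,4,3,2,1], 0),
  ([5,4,3], 2),
  ([5,4], 3),
  ([3,1,2,6,4,3,2,1], 0),
  ([0,1,2,6,3,4,2,3,1,2,6,5,4,3,2,1], 0),
  ([1,2,6,3,4,2,3,1,2,6,5,4,3,2,1], 0),
  ([6,2,1], 0),
  ([6,2], 1),
  ([5,4,3,2,1], 0),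
  ([5,4,3,2], 1),
  ([3,2,6,4,3,2], 1),
  ([3,2,6,4,3,2,1], 0)]

def wd (v : ℕ) : List (Fin 7) := (wtab.getD v ([], 0)).1

def bs (v : ℕ) : Fin 7 := (wtab.getD v ([], 0)).2

section

variable {M : Type*} [Monoid M]

def cw (S : Fin 7 → M) : List (Fin 7) → M → M
  | [], x => x
  | i :: l, x => S i * cw S l x * S i

/-- the reflection with root `v` -/
def Ga (S : Fin 7 → M) (v : ℕ) : M := cw S (wd v) (S (bs v))

structure Cox (S : Fin 7 → M) : Prop where
  sq : ∀ i, S i * S i = 1
  comm : ∀ i j, om (sr i) (sr j) = false → S i * S j = S j * S i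
  braid : ∀ i j, om (sr i) (sr j) = true → S i * S j * S i = S j * S i * S j

def Fact (S : Fin 7 → M) (i : Fin 7) (v : ℕ) : Prop := S i * Ga S v * S i = Ga S (rf (sr i) v)

def ix (i : Fin 7) (v : ℕ) : ℕ := i * 64 + v

def base (i : Fin 7) (v : ℕ) : Bool :=
  let w := rf (sr i) v
  (decide (wd v = i :: wd w) && decide (bs v = bs w)) ||
  ((decide (wd w = i :: wd v) && decide (bs w = bs v)) ||
  ((decide (wd v = []) && (decide (w = v) && !(om (sr i) (sr (bs v))))) ||
  (decide (wd v = []) && (decide (wd w = [bs v]) && (decide (bs w = i) && om (sr i) (sr (bs v)))))))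

def rule (K : ℕ) (i : Fin 7) (v : ℕ) (j : Fin 7) : Bool :=
  if om (sr i) (sr j) then
    let u := rf (sr i) (rf (sr j) v)
    let iu := rf (sr i) u
    let ju := rf (sr j) u
    let iju := rf (sr i) ju
    (K.testBit (ix i u) && (K.testBit (ix j iu) && (K.testBit (ix i ju) &&
      (K.testBit (ix j iju) && (K.testBit (ix j u) &&
      (decide (rf (sr j) iu = v) && (decide (rf (sr j) iju = rf (sr i) v))))))))
  else
    let jv := rf (sr j) v
    let ijv := rf (sr i) jv
    (K.testBit (ix j jv) && (K.testBit (ix i jv) && (K.testBit (ix j ijv) &&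
      (decide (rf (sr j) jv = v) && decide (rf (sr j) ijv = rf (sr i) v)))))

def chk (K : ℕ) (i : Fin 7) (v : ℕ) : Bool :=
  base i v || ((K.testBit (ix i (rf (sr i) v)) && decide (rf (sr i) (rf (sr i) v) = v)) ||
    (List.finRange 7).any (rule K i v))

def upd (K : ℕ) (p : Fin 7 × ℕ) : ℕ :=
  if K.testBit (ix p.1 p.2) then K else if chk K p.1 p.2 then K ||| (2 ^ ix p.1 p.2) else K

def prs : List (Fin 7 × ℕ) := (List.finRange 7).flatMap fun i => (List.range' 1 63).map fun v => (i, v)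

/-- evaluation of a number before it is used -/
def frc {α : Type*} (n : ℕ) (f : ℕ → α) : α := Nat.rec (f 0) (fun k _ => f (k + 1)) n

theorem frc_eq {α : Type*} (n : ℕ) (f : ℕ → α) : frc n f = f n := by
  cases n <;> rfl

def rnd : List (Fin 7 × ℕ) → ℕ → ℕ
  | [], K => K
  | p :: l, K => frc (upd K p) (rnd l)

def rnds : ℕ → ℕ → ℕ
  | 0, K => K
  | n + 1, K => frc (rnd prs K) (rnds n)

def allb (K : ℕ) : Bool := prs.all fun p => K.testBit (ix p.1 p.2)

theorem clos_all : frc (rnds 12 0) allb = true := by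
  decide +kernel

theorem exists_K : ∃ K : ℕ, K = rnds 12 0 ∧ allb K = true := ⟨_, rfl, by rw [← frc_eq (rnds 12 0) allb, clos_all]⟩

theorem sr_lt : ∀ i, sr i < 64 := by decide

theorem rf_lt {x v : ℕ} (hx : x < 64) (hv : v < 64) : rf x v < 64 := by
  unfold rf
  split_ifs
  · exact Nat.xor_lt_two_pow (n := 6) hx hv
  · exact hv

theorem base_sound {S : Fin 7 → M} (C : Cox S) {i : Fin 7} {v : ℕ} (h : base i v = true) : Fact S i v := by
  unfold base at h
  simp only [Bool.or_eq_true, Bool.and_eq_true, decide_eq_true_eq, Bool.not_eq_true'] at h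
  unfold Fact Ga
  rcases h with h | h | h | h
  · obtain ⟨h1, h2⟩ := h
    rw [h1, h2, cw]
    calc S i * (S i * cw S (wd (rf (sr i) v)) (S (bs (rf (sr i) v))) * S i) * S i
        = (S i * S i) * cw S (wd (rf (sr i) v)) (S (bs (rf (sr i) v))) * (S i * S i) := by
          simp only [mul_assoc]
      _ = _ := by rw [C.sq, one_mul, mul_one]
  · obtain ⟨h1, h2⟩ := h
    rw [h1, h2, cw]
  · obtain ⟨h1, h2, h3⟩ := h
    rw [h2, h1, cw, C.comm i _ h3, mul_assoc, C.sq, mul_one]
  · obtain ⟨h1, h2, h3, h4⟩ := h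
    rw [h2, h3, h1, cw, cw, cw, C.braid i _ h4]

theorem rule_sound {S : Fin 7 → M} (C : Cox S) {K : ℕ}
    (hK : ∀ (i : Fin 7) (v : ℕ), v < 64 → K.testBit (ix i v) = true → Fact S i v)
    {i j : Fin 7} {v : ℕ} (hv : v < 64) (h : rule K i v j = true) : Fact S i v := by
  unfold rule at h
  by_cases ho : om (sr i) (sr j) = true
  · rw [if_pos ho] at h
    simp only [Bool.and_eq_true, decide_eq_true_eq] at h
    obtain ⟨h1, h2, h3, h4, h5, h6, h7⟩ := h
    have hi := sr_lt i
    have hj := sr_lt j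
    have hu := rf_lt hi (rf_lt hj hv)
    have f1 := hK _ _ hu h1
    have f2 := hK _ _ (rf_lt hi hu) h2
    have f3 := hK _ _ (rf_lt hj hu) h3
    have f4 := hK _ _ (rf_lt hi (rf_lt hj hu)) h4
    have f5 := hK _ _ hu h5
    unfold Fact at f1 f2 f3 f4 f5 ⊢
    rw [h6] at f2
    rw [h7] at f4
    rw [← f4, ← f3, ← f5, ← f2, ← f1]
    generalize Ga S (rf (sr i) (rf (sr j) v)) = X
    calc S i * (S j * (S i * X * S i) * S j) * S i = (S i * S j * S i) * X * (S i * S j * S i) := by
          simp only [mul_assoc]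
      _ = (S j * S i * S j) * X * (S j * S i * S j) := by rw [C.braid i j ho]
      _ = _ := by simp only [mul_assoc]
  · rw [if_neg ho] at h
    rw [Bool.not_eq_true] at ho
    simp only [Bool.and_eq_true, decide_eq_true_eq] at h
    obtain ⟨h1, h2, h3, h4, h5⟩ := h
    have hi := sr_lt i
    have hj := sr_lt j
    have hu := rf_lt hj hv
    have f1 := hK _ _ hu h1
    have f2 := hK _ _ hu h2
    have f3 := hK _ _ (rf_lt hi hu) h3
    unfold Fact at f1 f2 f3 ⊢
    rw [h4] at f1
    rw [h5] at f3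
    rw [← f3, ← f2, ← f1]
    generalize Ga S (rf (sr j) v) = X
    have hc := C.comm i j ho
    calc S i * (S j * X * S j) * S i = (S i * S j) * X * (S j * S i) := by simp only [mul_assoc]
      _ = (S j * S i) * X * (S i * S j) := by rw [← hc]
      _ = _ := by simp only [mul_assoc]

theorem chk_sound {S : Fin 7 → M} (C : Cox S) {K : ℕ}
    (hK : ∀ (i : Fin 7) (v : ℕ), v < 64 → K.testBit (ix i v) = true → Fact S i v)
    {i : Fin 7} {v : ℕ} (hv : v < 64) (h : chk K i v = true) : Fact S i v := by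
  unfold chk at h
  rw [Bool.or_eq_true, Bool.or_eq_true, Bool.and_eq_true, decide_eq_true_eq, List.any_eq_true] at h
  rcases h with h | ⟨h1, h2⟩ | ⟨j, -, h⟩
  · exact base_sound C h
  · have f := hK _ _ (rf_lt (sr_lt i) hv) h1
    unfold Fact at f ⊢
    rw [h2] at f
    rw [← f]
    generalize Ga S (rf (sr i) v) = X
    calc S i * (S i * X * S i) * S i = (S i * S i) * X * (S i * S i) := by simp only [mul_assoc]
      _ = X := by rw [C.sq, one_mul, mul_one]
  · exact rule_sound C hK hv h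

theorem ix_inj {i j : Fin 7} {v w : ℕ} (hv : v < 64) (hw : w < 64) (h : ix i v = ix j w) : i = j ∧ v = w := by
  unfold ix at h
  constructor
  · apply Fin.ext; omega
  · omega

theorem upd_sound {S : Fin 7 → M} (C : Cox S) {K : ℕ}
    (hK : ∀ (i : Fin 7) (v : ℕ), v < 64 → K.testBit (ix i v) = true → Fact S i v)
    {p : Fin 7 × ℕ} (hp : p.2 < 64) :
    ∀ (i : Fin 7) (v : ℕ), v < 64 → (upd K p).testBit (ix i v) = true → Fact S i v := by
  intro i v hv h
  unfold upd at h
  split_ifs at h with h1 h2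
  · exact hK i v hv h
  · rw [Nat.testBit_or, Bool.or_eq_true] at h
    rcases h with h | h
    · exact hK i v hv h
    · rw [Nat.testBit_two_pow, decide_eq_true_eq] at h
      obtain ⟨e1, e2⟩ := ix_inj hp hv h
      rw [← e1, ← e2]
      exact chk_sound C hK hp h2
  · exact hK i v hv h

theorem rnd_sound {S : Fin 7 → M} (C : Cox S) (l : List (Fin 7 × ℕ)) (hl : ∀ p ∈ l, p.2 < 64) : ∀ {K : ℕ},
    (∀ (i : Fin 7) (v : ℕ), v < 64 → K.testBit (ix i v) = true → Fact S i v) →
    ∀ (i : Fin 7) (v : ℕ), v < 64 → (rnd l K).testBit (ix i v) = true → Fact S i v := by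
  induction l with
  | nil => intro K hK; exact hK
  | cons p l ih =>
    intro K hK
    rw [rnd, frc_eq]
    exact ih (fun q hq => hl q (List.mem_cons_of_mem _ hq)) (upd_sound C hK (hl p List.mem_cons_self))

theorem prs_lt : ∀ p ∈ prs, p.2 < 64 := by decide +kernel

theorem mem_prs {i : Fin 7} {v : ℕ} (h0 : 0 < v) (hv : v < 64) : (i, v) ∈ prs := by
  rw [prs, List.mem_flatMap]
  refine ⟨i, List.mem_finRange i, ?_⟩
  rw [List.mem_map]
  exact ⟨v, List.mem_range'_1.2 ⟨h0, by omega⟩, rfl⟩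

theorem rnds_sound {S : Fin 7 → M} (C : Cox S) (n : ℕ) : ∀ {K : ℕ},
    (∀ (i : Fin 7) (v : ℕ), v < 64 → K.testBit (ix i v) = true → Fact S i v) →
    ∀ (i : Fin 7) (v : ℕ), v < 64 → (rnds n K).testBit (ix i v) = true → Fact S i v := by
  induction n with
  | zero => intro K hK; exact hK
  | succ n ih =>
    intro K hK
    rw [rnds, frc_eq]
    exact ih (rnd_sound C prs prs_lt hK)

/-- the simple reflections act on all reflections as they should -/
theorem fact_all {S : Fin 7 → M} (C : Cox S) (i : Fin 7) {v : ℕ} (h0 : 0 < v) (hv : v < 64) : Fact S i v := by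
  obtain ⟨K, hK, h⟩ := exists_K
  have h3 := rnds_sound C 12 (K := 0) (fun j w _ hj => by
    rw [Nat.zero_testBit] at hj; exact absurd hj (by simp))
  rw [← hK] at h3
  unfold allb at h
  rw [List.all_eq_true] at h
  exact h3 i v hv (h (i, v) (mem_prs h0 hv))

def mw : List (Fin 7) → ℕ → ℕ
  | [], x => x
  | i :: l, x => rf (sr i) (mw l x)

theorem wd_mw : ∀ v : Fin 64, v ≠ 0 → mw (wd v) (sr (bs v)) = v := by decide +kernel

theorem rf_pos {x v : ℕ} (h0 : 0 < v) : 0 < rf x v := by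
  unfold rf
  split_ifs with h
  · rw [Nat.pos_iff_ne_zero]
    intro h1
    rw [Nat.xor_eq_zero_iff] at h1
    rw [h1] at h
    unfold om at h
    revert h
    cases v.testBit 0 <;> cases v.testBit 1 <;> cases v.testBit 2 <;> cases v.testBit 3 <;>
      cases v.testBit 4 <;> cases v.testBit 5 <;> decide
  · exact h0

theorem sr_pos : ∀ i, 0 < sr i := by decide

theorem mw_pos (l : List (Fin 7)) {x : ℕ} (h0 : 0 < x) : 0 < mw l x := by
  induction l with
  | nil => exact h0
  | cons i l ih => exact rf_pos ih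

theorem mw_lt (l : List (Fin 7)) {x : ℕ} (h0 : x < 64) : mw l x < 64 := by
  induction l with
  | nil => exact h0
  | cons i l ih => exact rf_lt (sr_lt i) ih

/-- the table of `rf` -/
private noncomputable def rT : ℕ := 0xfc10bc13ae47236d4bccd3b042eb53ad55a89d96a472285f81e7636e59985e9a94b1246f3f1c8cd0a277e0617b0fdf8007ef42ec41f8276d4accc3f0bd04ec56aa569d86e476285e7e08dc95a6665e8ad4b5246ec4e3722f4dc8e4617a0fcfc00bef41ec7138dcb2343b2c4d4aeb51ad75289db6247a285d7e381c99a665a965694efb103f3c0cd8a275e861790fff00fc207c1fae44dca2743f2c4cbd246c5eaa549da6647e285c8de7606e6958ad65684eeb50cce3702f6d48ec61780fef4013ef47ec10b8dcd3b4232c4bbd55ac42aa5372695f8d96a091e7676e18985edb94a1246b3f5d8cc0a273f0617f0f9e80fc41fc07ae42dcc3f4272c4a56eb56ad04e876695e8d86e07e49dc85a6625ecbd4a5246ad4e3762f0cc8f4617e0f8ec0fc713c0bae413b6d4dccb230bd752c4aaa517a695d8db6207e791c89a661b9656d4eba103f7d0cc8a271f8617d0fbe001fef44ec20783f6d4ccca2705eeb54ad24687e695c8da6609de7646e2858bd656c4eaa50dce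3742f2c48fc617c0fae40209f7cefa38fdf6083105c70bee69b71da684119648e25977deaabb2d6588215544d29a7e3934c2cafbf1c6cb3d35040ffe2ca34ce78df60c2144c70658b6caea7de4509648e25d6a6875c6dabee8605544d29e63ceefaf7c2481c6cf2d74040ffe20938fe78083d74cf2105bee61979fa684939648e2515aab75c6dab2d5d68219a7450ebb34c2caf3d1c6c31db70402caf7cefa34c0c2d74cf21446dab6caea75c4d29648e25547dea68bee6585d68609e64503cee78ffe2481c6c70df6040ffe38f209e78105d74cf208371db6caea69b9e65974118607debafa296589255544d28a3f3d34c2caebb1c6db7c3104034cf7cefa2ca144d74cf20c2bee7de658a689e65d6450860b6c75c6daaea9645544d28e23ceffee782481c6df6c7004038ff7cefa209df6105083c7079fb6caea6199e6515493860baf75c6daa295d69258a3450fbf34c2cae391c6d35cb3040ffe34c2cae78df61440c2c70bee75c6daa689e65544d28607deb6caea6585d69648e24503cef7cefa2481c6d74cf204043e4bced5e57dd9d5b7327b0bc1b4312a1a82262a48cd84f7f1773d1ad98e16e944fd47f80e88c2e52671e916bb02b80fd0f5257a5f8dd8d5a7727f006e0ecac4a462662e48cc84ec5ecdc6f4676e56ed44fc47e3e036294a9c81e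816ab42bc0fd3f515ba5386b6634cdfc5dbc3b411aa1282a62248cf84dc9ec1c6f76755fb579f92f1088e80c2e72651eb169b82b004fe47ced6e546f6674cdec5c0ee06cac6a442e62648ce84c7f2770ddad585fa578fd2f503e23609ca9481ea168bc2b40fd5f5743a4b87367b4cd9c5b12e1acac1a439cd94f2222a07f5777c1ac98f16f944f947b90e98c2e12631ed16fa02a8057e5fced0e527767f4cd8c5abc4b4606a0e89cc94e2622e0d5eddc6f0672f56fd44f847a3e436684a8c81ec16ea42ac05be53ced3e51ddfd5d6b26301ae12cac3a419cf94d2a2220d9ed1c6f36715ff57de92e1098e90c2e32611ef16da82a00fd6f544fa478dded5c6f2670bc6b440ea0689ce94c2e22607f6774cdac585fe57ced2e503e63648ca8481ee16cac2a40ffef7c71d79f411493cf2c7020928baeaa689e6964105187e39ebb6da6585d6554d35db73ce34cb2dbaf8218a30c20406586daefae784504d2cf2c70beeb6c34c3ce9e69641441c67de75cf7cffe5d6554d74df6a68aea2ca2488608e20c204069b619efae78df6d7459751528b209aeaa689e69641871057de75cfbff3dcb3c314d24503ce34cbafb2d8a38210c2040ffef7c7de75cdf6d745d6554beeb6c3ce34c9e69641c6144efae786da658cf2c704d2450aeaa682ca2488e28600c20407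1d79fefae78df6d74411493beeb6c20928b1051878e2860f3dfbf6da6585d6554c31cb33ce34ca29aab9259a70c2040ffef7c6586dadf6d744504d234c3ceaeaa681441c68e28607de75ce78efa5d6554c70cf2b6cbee2ca2489649e60c2040ffef7c69b619597515cf2c70beeb6c28b2091871058e28607de75cebbe39db7d354d24503ce34caaba299a79250c20407de75cefae785d6554cf2c703ce34caeaa681c61448e2860ffef7c6da658df6d744d2450beeb6c2ca2489e69640c204083ef6393ae67de9ab4cedbb0bf1cacaf5da8e2697bf2287f7c109c6c519821654b31244f40e35350a2571d96840dd780fe08fcee49f8de8af4cecbf0c6eb72d6aa76e6697af6287e05e74215a64625654a35244e3d04cc2d45c81d86c40dc7c0fe383cee7938ab6d69bb2c6dbf3c2caf7d28ea6979fa287d09e74119a6455cb2144cf31048e35158a2551db6040df7008fef609fae64af6d68bf2c6cceeb70deaa74ee6978fe287c7c205c6c61585ca2544ce3503d244c2d65481da6440de740fe59bcee18b8b36d6fa32c6bd2eb77c2aa739fdfa48f9ea07c519c6c109831654f21244b50e35740a2531dd7840d968097ef6687ae62b76d6ea72c6abf4decaf0ce89fcfe48f8ee015e74605a64235654e25244a3d45cc2d04c81dc7c40d86c09bef658bae61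defb34ceba30daeb75caaa719fff248fbe2019e74509a6415cf3144cb21058e35548a2511df7040db600fe697cee2878deeb74ceaa70bf6d6caf2c689fef648fae607c615c6c20585ce3544ca2503d654c2d24481de7440da640ffeaabefabaf821d74925c70e39b6cf3da689e6cb38e2db720975c30d6585d60834d21873ce69b2ca79f411144515040a68f7cb6ce78860d74964c70beeefaaeaffe9e6cf28e2df67de2ca6da3ce5d60c24d21c665834c75c248450144554040aabf7cbafe78df6821cf2925ebbb6cfbfa689e6c318e2d357de2096da30d0835541874503ce6192ca71d493144597040ffea68efab6cdf6860cf2964beee78aeaf7c9e6c708e2d742ca75c3ce6580c25541c64506da34c7de2484d21445d6040b2df7ca29e78df69a7cf28a3beefbfaeaebbd35964c3186030d75c2096585d61874d20833ce79f2ca69b515144411040ffebeeefaaeadf69e6cf28e2f7cb6ce78a68d74964c708607de3ce6da2ca5d61c64d20c275c34c658248554144450040ffeb2defaa299a7d748a3c70beef3daeae39db7964cb38607de30d6da2091875540834503ce71d2ca619597144493040beef7caeae789e6d748e2c70ffeb6cefaa68df6964cf28603ce75c2ca6581c65540c24507de34c6da2485d61444d2040ff1f73ef5e77e36eb4f32fb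082e8ac92a9a89e996b8ed86f41e49c51a5985d955b4dd45f3c13432c5247206284302380c7ecfcd7adf8e76ef4f72ff0be0b62ae4a669e896a8ec86e7d07526d46565d855a4dc45e04e0cc14a1c82462c43423c0cbec3cdbad38dfbd79cffc7d8ae82c9aa9289eb9698ef86d7d37516d76556966147927103c33412c7245286204382300ff2f70ef6e74dfad78cfec7cbe2b60ae6a649ea9688ee86c4de45c5da5586d66547d27500ce04c1ca1482c62443c2340d3edbcc3acb8dfdd7fcf9c7bbe5b67ae1a63b26ba4a22aa051e59c41a4985dd55f4d945b3c53472c1243306384202280ff4f76ef0e72dfcd7ecf8c7a96e9ec86a8e8b66be4a62ae07d47566d06525dc55e4d845a14e1cc04a0c83463c42422c0ff7f75ef3e71fb6f34eb2e30be7b65ae3a61ba6b24aa2a207d77556d36517967146926103c73452c3241386304282200dfed7ccfac78ff6f74ef2e709ee96c8ea868be6b64ae2a605de55c4da4587d67546d26501ce14c0ca0483c63442c2240e39ebbf3dfbfdf6d74cf2c70beeb6caeaa688218a39259a77de75c6da65841149351559720928b30d38f1c61440c2040ffef7cefae78df6d74cf2c70a68aeab6cbee8608e29649e66586da75c7de4504d25545d63ce34c2ca2481c61440c2040ffef7cefae78cb3c31db7d35beeb6caeaa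688a38219a792569b61979f71d5d65544d245028b20938f30d1c61440c2040efae78ffef7ccf2c70df6d74aeaa68beeb6c8e28609e69647de75c6da6585d65544d24503ce34c2ca2481c61440c2040ffef7cefae78d35db7c31cb3b2dbafa29aab9e69648e28607de75c6da65851559741149330d38f20928b1c61440c2040f7cffee78efad74df6c70cf2beeb6caeaa689e69648e286075c7de6586da5545d64504d23ce34c2ca2481c61440c2040fbff3debbe39df6d74cf2c70bafb2daaba299e69648e286079f71d69b6195d65544d245038f30d28b2091c61440c2040ffef7cefae78df6d74cf2c70beeb6caeaa689e69648e28607de75c6da6585d65544d24503ce34c2ca2481c61440c2040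

private noncomputable def rF (x v : ℕ) : ℕ := Nat.land (Nat.shiftRight rT (Nat.mul 6 (Nat.add (Nat.mul 64 x) v))) 63

private noncomputable def alN (f : ℕ → Bool) (n : ℕ) : Bool := Nat.rec true (fun k ih => Bool.rec false ih (f k)) n

private theorem alN_spec {f : ℕ → Bool} : ∀ {n : ℕ}, alN f n = true → ∀ k < n, f k = true
  | 0, _, _, hk => absurd hk (Nat.not_lt_zero _)
  | n + 1, h, k, hk => by
    have h' : (Bool.rec false (alN f n) (f n) : Bool) = true := h
    cases h1 : f n with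
    | false => rw [h1] at h'; exact Bool.noConfusion h'
    | true =>
      rw [h1] at h'
      rcases (Nat.le_of_lt_succ hk).eq_or_lt with rfl | h2
      · exact h1
      · exact alN_spec h' k h2

private theorem rF_eq {x v : ℕ} (hx : x < 64) (hv : v < 64) : rf x v = rF x v :=
  Nat.eq_of_beq_eq_true (alN_spec (alN_spec (f := fun x => alN (fun v => Nat.beq (rf x v) (rF x v)) 64)
    (by decide +kernel) x hx) v hv)

theorem rf_conj : ∀ (i : Fin 7) (m v : Fin 64), rf (sr i) (rf m (rf (sr i) v)) = rf (rf (sr i) m) v := by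
  have h : ∀ i : Fin 7, (frc (sr i) fun s => alN (fun m => frc (rF s m) fun t =>
      alN (fun v => Nat.beq (rF s (rF m (rF s v))) (rF t v)) 64) 64) = true := by decide +kernel
  intro i m v
  have h1 := h i
  rw [frc_eq] at h1
  have h2 := alN_spec h1 m m.2
  rw [frc_eq] at h2
  rw [rF_eq (sr_lt i) (rf_lt m.2 (rf_lt (sr_lt i) v.2)), rF_eq m.2 (rf_lt (sr_lt i) v.2), rF_eq (sr_lt i) v.2,
    rF_eq (rf_lt (sr_lt i) m.2) v.2, rF_eq (sr_lt i) m.2]
  exact Nat.eq_of_beq_eq_true (alN_spec h2 v v.2)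

theorem cw_conj {S : Fin 7 → M} (C : Cox S) (j : Fin 7) (l : List (Fin 7)) : ∀ {v : ℕ}, 0 < v → v < 64 →
    cw S l (S j) * Ga S v * cw S l (S j) = Ga S (rf (mw l (sr j)) v) := by
  induction l with
  | nil => intro v h0 hv; exact fact_all C j h0 hv
  | cons i l ih =>
    intro v h0 hv
    have h1 := fact_all C i h0 hv
    have h2 := ih (rf_pos (x := sr i) h0) (rf_lt (sr_lt i) hv)
    have h3 := fact_all C i (rf_pos (x := mw l (sr j)) (rf_pos (x := sr i) h0))
      (rf_lt (mw_lt l (sr_lt j)) (rf_lt (sr_lt i) hv))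
    unfold Fact at h1 h3
    rw [← h2, ← h1] at h3
    have h4 := rf_conj i ⟨mw l (sr j), mw_lt l (sr_lt j)⟩ ⟨v, hv⟩
    simp only at h4
    rw [h4] at h3
    rw [cw, mw, ← h3]
    simp only [mul_assoc]

/-- **The 63 reflections.** -/
theorem ga_conj {S : Fin 7 → M} (C : Cox S) {w v : ℕ} (hw0 : 0 < w) (hw : w < 64) (h0 : 0 < v) (hv : v < 64) :
    Ga S w * Ga S v * Ga S w = Ga S (rf w v) := by
  have h := cw_conj C (bs w) (wd w) h0 hv
  have h1 := wd_mw ⟨w, hw⟩ (by intro h; rw [Fin.ext_iff] at h; simp at h; omega)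
  simp only at h1
  rw [h1] at h
  exact h

theorem cw_sq {S : Fin 7 → M} (C : Cox S) (l : List (Fin 7)) {x : M} (hx : x * x = 1) :
    cw S l x * cw S l x = 1 := by
  induction l with
  | nil => exact hx
  | cons i l ih =>
    rw [cw]
    calc S i * cw S l x * S i * (S i * cw S l x * S i) = S i * cw S l x * (S i * S i) * cw S l x * S i := by
          simp only [mul_assoc]
      _ = S i * (cw S l x * cw S l x) * S i := by rw [C.sq, mul_one]; simp only [mul_assoc]
      _ = 1 := by rw [ih, mul_one, C.sq]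

theorem ga_sq {S : Fin 7 → M} (C : Cox S) (w : ℕ) : Ga S w * Ga S w = 1 := cw_sq C _ (C.sq _)

theorem ga_sr (S : Fin 7 → M) (i : Fin 7) : Ga S (sr i) = S i := by
  fin_cases i <;> rfl

end

end Cfsg.Agent.H916.SpSix

private theorem dce_1d93a817d739 : _root_.True := by
  try have : _root_.True := by simp only [_root_.Cfsg.Agent.H916.SpSix.mw.eq_def]
  try have : _root_.True := by simp only [_root_.Cfsg.Agent.H916.SpSix.rnd.eq_2]
  try have : _root_.True := by simp only [_root_.Cfsg.Agent.H916.SpSix.rnds.eq_1]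
  try have : _root_.True := by simp only [_root_.Cfsg.Agent.H916.SpSix.mw.eq_2]
  try have : _root_.True := by simp only [_root_.Cfsg.Agent.H916.SpSix.prs.eq_1]
  try have : _root_.True := by simp only [_root_.Cfsg.Agent.H916.SpSix.mw.eq_1]
  try have : _root_.True := by simp only [_root_.Cfsg.Agent.H916.SpSix.cw.eq_1]
  try have : _root_.True := by simp only [_root_.Cfsg.Agent.H916.SpSix.cw.eq_def]
  try have : _root_.True := by simp only [_root_.Cfsg.Agent.H916.SpSix.cw.eq_2]
  try have : _root_.True := by simp only [_root_.Cfsg.Agent.H916.SpSix.rnd.eq_1]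
  try have : _root_.True := by simp only [_root_.Cfsg.Agent.H916.SpSix.rnds.eq_def]
  try have : _root_.True := by simp only [_root_.Cfsg.Agent.H916.SpSix.rnds.eq_2]
  try have : _root_.True := by simp only [_root_.Cfsg.Agent.H916.SpSix.rnd.eq_def]
  exact _root_.True.intro
end

-- part: H916/SpSixD
section
set_option linter.all false
open scoped Cfsg.Agent.FastGrp

/-!
# Projective representations and the transvections of `Sp₆(2)`: signs
-/

set_option autoImplicit false
set_option linter.unusedSectionVars false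
set_option linter.unusedVariables false

namespace Cfsg.Agent.H916.SpSix

/-- a faithful projective representation, given by the sets of lifts -/
structure PRep (T k V : Type*) [Group T] [Field k] [AddCommGroup V] [Module k V] where
  L : T → Set (Module.End k V)
  mul : ∀ {s t : T} {A B : Module.End k V}, A ∈ L s → B ∈ L t → A * B ∈ L (s * t)
  smul : ∀ {t : T} {A : Module.End k V} {c : k}, c ≠ 0 → A ∈ L t → c • A ∈ L t
  ex : ∀ t, (L t).Nonempty
  one : ∀ {A : Module.End k V}, A ∈ L 1 → ∃ c : k, c ≠ 0 ∧ A = c • 1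
  inj : ∀ {t : T} {c : k}, (c • (1 : Module.End k V)) ∈ L t → t = 1

/-- the transvections of `Sp₆(2)` -/
structure SpData {T : Type*} [Group T] (t : ℕ → T) : Prop where
  sq : ∀ {v : ℕ}, 0 < v → v < 64 → t v * t v = 1
  cj : ∀ {v w : ℕ}, 0 < v → v < 64 → 0 < w → w < 64 → t v * t w * t v = t (rf v w)
  fano : t 1 * t 2 * t 3 * t 4 * t 5 * t 6 * t 7 = 1
  ne : t 1 * t 2 * t 3 ≠ 1

section paths

def fz (p : ℕ → Bool) : ℕ := ((List.range 64).find? p).getD 0

def toOne (v : ℕ) : List ℕ :=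
  if v = 1 then [] else if om 1 v then [1 ^^^ v] else
    [v ^^^ fz (fun z => om z 1 && om z v), fz (fun z => om z 1 && om z v) ^^^ 1]

def toTwo (w : ℕ) : List ℕ :=
  if w = 2 then [] else if om 2 w then [2 ^^^ w] else
    [w ^^^ fz (fun z => !(om z 1) && (om z 2 && om z w)), fz (fun z => !(om z 1) && (om z 2 && om z w)) ^^^ 2]

def act : List ℕ → ℕ → ℕ
  | [], v => v
  | x :: l, v => act l (rf x v)

def pth (v w : ℕ) : List ℕ := toOne v ++ toTwo (act (toOne v) w)

private theorem om_xl (a b c : ℕ) : om (a ^^^ b) c = (om a c ^^ om b c) := by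
  have k1 : ∀ p q r s : Bool, ((p ^^ q) ^^ (r ^^ s)) = ((p ^^ r) ^^ (q ^^ s)) := by decide
  have k2 : ∀ p q r : Bool, ((p ^^ q) && r) = ((p && r) ^^ (q && r)) := by decide
  unfold om
  simp only [Nat.testBit_xor, k2]
  rw [k1 (a.testBit 0 && _), k1 (a.testBit 1 && _), k1 (a.testBit 2 && _), k1 ((a.testBit 0 && _) ^^ _),
    k1 (((a.testBit 0 && _) ^^ _) ^^ _)]

private theorem om_cm (a b : ℕ) : om a b = om b a := by
  have key : ∀ x y z w : Bool, ((x && y) ^^ (z && w)) = ((w && z) ^^ (y && x)) := by decide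
  unfold om
  rw [key (a.testBit 0), key (a.testBit 1), key (a.testBit 2)]

private theorem om_sf (a : ℕ) : om a a = false := by
  have key : ∀ x y : Bool, ((x && y) ^^ (y && x)) = false := by decide
  unfold om
  rw [key, key, key]
  rfl

private theorem om_rf (x v w : ℕ) : om (rf x v) (rf x w) = om v w := by
  have e : ∀ a, om a (x ^^^ w) = (om x a ^^ om a w) := fun a => by rw [om_cm, om_xl, om_cm w]
  unfold rf
  cases h1 : om x v <;> cases h2 : om x w
  · rfl
  · rw [if_neg Bool.false_ne_true, if_pos rfl, e, h1, Bool.false_xor]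
  · rw [if_neg Bool.false_ne_true, if_pos rfl, om_xl, h2, Bool.false_xor]
  · rw [if_pos rfl, if_pos rfl, om_xl, e, e, om_sf, h1, h2]
    cases om v w <;> rfl

private theorem rf_rf (x v : ℕ) : rf x (rf x v) = v := by
  cases h : om x v
  · have e : rf x v = v := if_neg (by rw [h]; exact Bool.false_ne_true)
    rw [e, e]
  · have e : rf x v = x ^^^ v := if_pos h
    have h2 : om x (x ^^^ v) = true := by rw [om_cm, om_xl, om_sf, om_cm, h]; rfl
    rw [e, rf, if_pos h2, ← Nat.xor_assoc, Nat.xor_self, Nat.zero_xor]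

private theorem act_app : ∀ (l m : List ℕ) (v : ℕ), act (l ++ m) v = act m (act l v)
  | [], _, _ => rfl
  | x :: l, m, v => act_app l m (rf x v)

private theorem act_keep : ∀ (l : List ℕ), (∀ x ∈ l, x < 64) → ∀ {v w : ℕ}, 0 < w → w < 64 → v ≠ w →
    0 < act l w ∧ act l w < 64 ∧ act l v ≠ act l w ∧ om (act l v) (act l w) = om v w
  | [], _, _, _, h0, h1, h2 => ⟨h0, h1, h2, rfl⟩
  | x :: l, h, v, w, h0, h1, h2 => by
    have h3 := act_keep l (fun y hy => h y (List.mem_cons_of_mem _ hy)) (v := rf x v) (rf_pos (x := x) h0)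
      (rf_lt (h x List.mem_cons_self) h1) fun e => h2 (by rw [← rf_rf x v, e, rf_rf])
    rw [om_rf] at h3
    exact h3

theorem pth_ok : ∀ v w : Fin 64, v ≠ 0 → w ≠ 0 → v ≠ w → om v w = false →
    act (pth v w) v = 1 ∧ act (pth v w) w = 2 ∧ (pth v w).all (fun x => decide (0 < x ∧ x < 64)) = true := by
  have k1 : ∀ v < 64, 0 < v → act (toOne v) v = 1 ∧ (toOne v).all (fun x => decide (0 < x ∧ x < 64)) = true := by
    decide +kernel
  have k2 : ∀ u < 64, 0 < u → 1 ≠ u → om 1 u = false → act (toTwo u) 1 = 1 ∧ act (toTwo u) u = 2 ∧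
      (toTwo u).all (fun x => decide (0 < x ∧ x < 64)) = true := by
    decide +kernel
  intro v w hv hw hvw ho
  obtain ⟨h1, h2⟩ := k1 v v.2 (Fin.pos_iff_ne_zero.2 hv)
  obtain ⟨h3, h4, h5, h6⟩ := act_keep (toOne v) (fun x hx => (of_decide_eq_true (List.all_eq_true.1 h2 x hx)).2)
    (v := v) (Fin.pos_iff_ne_zero.2 hw) w.2 fun e => hvw (Fin.ext e)
  rw [h1] at h5 h6
  obtain ⟨h7, h8, h9⟩ := k2 _ h4 h3 h5 (h6.trans ho)
  rw [pth, act_app, act_app, h1, List.all_append, h2, h9]
  exact ⟨h7, h8, rfl⟩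

end paths

section PR

variable {T k V : Type*} [Group T] [Field k] [AddCommGroup V] [Module k V] (R : PRep T k V)

include R in
theorem PRep.prop_of {t : T} {A B : Module.End k V} (hA : A ∈ R.L t) (hB : B ∈ R.L t) :
    ∃ c : k, c ≠ 0 ∧ A = c • B := by
  obtain ⟨C, hC⟩ := R.ex t⁻¹
  have h1 := R.mul hC hA
  have h2 := R.mul hC hB
  have h3 := R.mul hB hC
  rw [inv_mul_cancel] at h1 h2
  rw [mul_inv_cancel] at h3
  obtain ⟨a, ha, h1⟩ := R.one h1
  obtain ⟨b, hb, h2⟩ := R.one h2
  obtain ⟨d, hd, h3⟩ := R.one h3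
  refine ⟨a / d, div_ne_zero ha hd, ?_⟩
  have h4 : d • A = a • B := by
    calc d • A = (B * C) * A := by rw [h3, smul_mul_assoc, one_mul]
      _ = B * (C * A) := by rw [mul_assoc]
      _ = a • B := by rw [h1, mul_smul_comm, mul_one]
  rw [div_eq_inv_mul, mul_smul, ← h4, smul_smul, inv_mul_cancel₀ hd, one_smul]

include R in
theorem PRep.ne_zero [Nontrivial V] {t : T} {A : Module.End k V} (hA : A ∈ R.L t) : A ≠ 0 := by
  obtain ⟨C, hC⟩ := R.ex t⁻¹
  have h1 := R.mul hC hA
  rw [inv_mul_cancel] at h1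
  obtain ⟨a, ha, h1⟩ := R.one h1
  intro h0
  rw [h0, mul_zero] at h1
  exact ha (by
    have := smul_eq_zero.1 h1.symm
    rcases this with h | h
    · exact h
    · exact absurd h one_ne_zero)

include R in
theorem PRep.exists_inv [IsAlgClosed k] {t : T} (ht : t * t = 1) : ∃ A ∈ R.L t, A * A = 1 := by
  obtain ⟨A, hA⟩ := R.ex t
  have h1 := R.mul hA hA
  rw [ht] at h1
  obtain ⟨c, hc, h1⟩ := R.one h1
  obtain ⟨d, hd⟩ := IsAlgClosed.exists_pow_nat_eq c⁻¹ (n := 2) (by norm_num)
  have hd0 : d ≠ 0 := by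
    rintro rfl
    rw [zero_pow (by norm_num)] at hd
    exact inv_ne_zero hc hd.symm
  refine ⟨d • A, R.smul hd0 hA, ?_⟩
  rw [smul_mul_smul_comm, h1, smul_smul, ← sq, hd, inv_mul_cancel₀ hc, one_smul]

theorem smul_one_inj [Nontrivial V] {a b : k} (h : a • (1 : Module.End k V) = b • 1) : a = b := by
  obtain ⟨v, hv⟩ := exists_ne (0 : V)
  have := LinearMap.congr_fun h v
  simp only [LinearMap.smul_apply, Module.End.one_apply] at this
  exact smul_left_injective k hv this

theorem eq_or_neg_of_smul [Nontrivial V] {c : k} {A B : Module.End k V} (hA : A * A = 1) (hB : B * B = 1)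
    (h : A = c • B) : A = B ∨ A = -B := by
  have h1 : (c * c) • (1 : Module.End k V) = (1 : k) • 1 := by
    calc (c * c) • (1 : Module.End k V) = (c * c) • (B * B) := by rw [hB]
      _ = A * A := by rw [h, smul_mul_smul_comm]
      _ = (1 : k) • 1 := by rw [hA, one_smul]
  have h2 := smul_one_inj h1
  rcases mul_self_eq_one_iff.1 h2 with h3 | h3
  · left; rw [h, h3, one_smul]
  · right; rw [h, h3, neg_one_smul]

include R in
theorem PRep.unique [Nontrivial V] {t : T} {A B : Module.End k V} (hA : A ∈ R.L t) (hB : B ∈ R.L t)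
    (hA2 : A * A = 1) (hB2 : B * B = 1) : A = B ∨ A = -B := by
  obtain ⟨c, -, h⟩ := R.prop_of hA hB
  exact eq_or_neg_of_smul hA2 hB2 h

/-- the lifts commute -/
def PRep.CommL (s t : T) : Prop := ∀ A ∈ R.L s, ∀ B ∈ R.L t, A * B = B * A

/-- the lifts anticommute -/
def PRep.AntiL (s t : T) : Prop := ∀ A ∈ R.L s, ∀ B ∈ R.L t, A * B = -(B * A)

theorem PRep.comm_of {s t : T} {A B : Module.End k V} (hA : A ∈ R.L s) (hB : B ∈ R.L t) (h : A * B = B * A) :
    R.CommL s t := by
  intro A' hA' B' hB'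
  obtain ⟨a, -, rfl⟩ := R.prop_of hA' hA
  obtain ⟨b, -, rfl⟩ := R.prop_of hB' hB
  rw [smul_mul_smul_comm, smul_mul_smul_comm, h, mul_comm a b]

theorem PRep.anti_of {s t : T} {A B : Module.End k V} (hA : A ∈ R.L s) (hB : B ∈ R.L t) (h : A * B = -(B * A)) :
    R.AntiL s t := by
  intro A' hA' B' hB'
  obtain ⟨a, -, rfl⟩ := R.prop_of hA' hA
  obtain ⟨b, -, rfl⟩ := R.prop_of hB' hB
  rw [smul_mul_smul_comm, smul_mul_smul_comm, h, mul_comm a b, smul_neg]

theorem PRep.comm_or_anti [IsAlgClosed k] [Nontrivial V] {s t : T} (hs : s * s = 1) (ht : t * t = 1)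
    (hst : s * t * s = t) : R.CommL s t ∨ R.AntiL s t := by
  obtain ⟨A, hA, hA2⟩ := R.exists_inv hs
  obtain ⟨B, hB, hB2⟩ := R.exists_inv ht
  have h1 := R.mul (R.mul hA hB) hA
  rw [hst] at h1
  have h2 : (A * B * A) * (A * B * A) = 1 := by
    calc (A * B * A) * (A * B * A) = A * B * (A * A) * B * A := by simp only [mul_assoc]
      _ = A * (B * B) * A := by rw [hA2, mul_one]; simp only [mul_assoc]
      _ = 1 := by rw [hB2, mul_one, hA2]
  rcases R.unique h1 hB h2 hB2 with h | h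
  · left
    apply R.comm_of hA hB
    calc A * B = A * B * (A * A) := by rw [hA2, mul_one]
      _ = (A * B * A) * A := by simp only [mul_assoc]
      _ = B * A := by rw [h]
  · right
    apply R.anti_of hA hB
    calc A * B = A * B * (A * A) := by rw [hA2, mul_one]
      _ = (A * B * A) * A := by simp only [mul_assoc]
      _ = -(B * A) := by rw [h, neg_mul]

theorem PRep.comm_conj [IsAlgClosed k] {s t x : T} (hx : x * x = 1) (h : R.CommL (x * s * x) (x * t * x)) :
    R.CommL s t := by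
  intro A hA B hB
  obtain ⟨X, hX, hX2⟩ := R.exists_inv hx
  have h1 := h _ (R.mul (R.mul hX hA) hX) _ (R.mul (R.mul hX hB) hX)
  have h2 : X * (A * B) * X = X * (B * A) * X := by
    calc X * (A * B) * X = X * A * (X * X) * B * X := by rw [hX2, mul_one]; simp only [mul_assoc]
      _ = (X * A * X) * (X * B * X) := by simp only [mul_assoc]
      _ = (X * B * X) * (X * A * X) := h1
      _ = X * B * (X * X) * A * X := by simp only [mul_assoc]
      _ = X * (B * A) * X := by rw [hX2, mul_one]; simp only [mul_assoc]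
  calc A * B = (X * X) * (A * B) * (X * X) := by rw [hX2, mul_one, one_mul]
    _ = X * (X * (A * B) * X) * X := by simp only [mul_assoc]
    _ = X * (X * (B * A) * X) * X := by rw [h2]
    _ = (X * X) * (B * A) * (X * X) := by simp only [mul_assoc]
    _ = B * A := by rw [hX2, mul_one, one_mul]

theorem PRep.anti_conj [IsAlgClosed k] {s t x : T} (hx : x * x = 1) (h : R.AntiL (x * s * x) (x * t * x)) :
    R.AntiL s t := by
  intro A hA B hB
  obtain ⟨X, hX, hX2⟩ := R.exists_inv hx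
  have h1 := h _ (R.mul (R.mul hX hA) hX) _ (R.mul (R.mul hX hB) hX)
  have h2 : X * (A * B) * X = -(X * (B * A) * X) := by
    calc X * (A * B) * X = X * A * (X * X) * B * X := by rw [hX2, mul_one]; simp only [mul_assoc]
      _ = (X * A * X) * (X * B * X) := by simp only [mul_assoc]
      _ = -((X * B * X) * (X * A * X)) := h1
      _ = -(X * B * (X * X) * A * X) := by simp only [mul_assoc]
      _ = -(X * (B * A) * X) := by rw [hX2, mul_one]; simp only [mul_assoc]
  calc A * B = (X * X) * (A * B) * (X * X) := by rw [hX2, mul_one, one_mul]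
    _ = X * (X * (A * B) * X) * X := by simp only [mul_assoc]
    _ = X * (-(X * (B * A) * X)) * X := by rw [h2]
    _ = -((X * X) * (B * A) * (X * X)) := by rw [mul_neg, neg_mul]; simp only [mul_assoc]
    _ = -(B * A) := by rw [hX2, mul_one, one_mul]

end PR

section Sp

variable {T k V : Type*} [Group T] [Field k] [IsAlgClosed k] [AddCommGroup V] [Module k V] (R : PRep T k V)
  {t : ℕ → T} (D : SpData t)

include D

theorem SpData.comm_path (l : List ℕ) (hl : ∀ x ∈ l, 0 < x ∧ x < 64) : ∀ {v w : ℕ}, 0 < v → v < 64 → 0 < w →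
    w < 64 → R.CommL (t (act l v)) (t (act l w)) → R.CommL (t v) (t w) := by
  induction l with
  | nil => intro v w _ _ _ _ h; exact h
  | cons x l ih =>
    intro v w hv0 hv hw0 hw h
    obtain ⟨hx0, hx⟩ := hl x List.mem_cons_self
    apply R.comm_conj (D.sq hx0 hx)
    rw [D.cj hx0 hx hv0 hv, D.cj hx0 hx hw0 hw]
    exact ih (fun y hy => hl y (List.mem_cons_of_mem _ hy)) (rf_pos hv0) (rf_lt hx hv) (rf_pos hw0)
      (rf_lt hx hw) h

theorem SpData.anti_path (l : List ℕ) (hl : ∀ x ∈ l, 0 < x ∧ x < 64) : ∀ {v w : ℕ}, 0 < v → v < 64 → 0 < w →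
    w < 64 → R.AntiL (t (act l v)) (t (act l w)) → R.AntiL (t v) (t w) := by
  induction l with
  | nil => intro v w _ _ _ _ h; exact h
  | cons x l ih =>
    intro v w hv0 hv hw0 hw h
    obtain ⟨hx0, hx⟩ := hl x List.mem_cons_self
    apply R.anti_conj (D.sq hx0 hx)
    rw [D.cj hx0 hx hv0 hv, D.cj hx0 hx hw0 hw]
    exact ih (fun y hy => hl y (List.mem_cons_of_mem _ hy)) (rf_pos hv0) (rf_lt hx hv) (rf_pos hw0)
      (rf_lt hx hw) h

theorem SpData.comm_all (hc : R.CommL (t 1) (t 2)) {v w : ℕ} (hv0 : 0 < v) (hv : v < 64) (hw0 : 0 < w)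
    (hw : w < 64) (ho : om v w = false) : R.CommL (t v) (t w) := by
  by_cases hvw : v = w
  · subst hvw
    obtain ⟨A, hA⟩ := R.ex (t v)
    exact R.comm_of hA hA rfl
  · obtain ⟨h1, h2, h3⟩ := pth_ok ⟨v, hv⟩ ⟨w, hw⟩ (by rw [Ne, Fin.ext_iff]; simp; omega)
      (by rw [Ne, Fin.ext_iff]; simp; omega) (by rw [Ne, Fin.ext_iff]; exact hvw) ho
    simp only at h1 h2 h3
    rw [List.all_eq_true] at h3
    apply D.comm_path R (pth v w) (fun x hx => by simpa using h3 x hx) hv0 hv hw0 hw
    rw [h1, h2]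
    exact hc

theorem SpData.anti_all (hc : R.AntiL (t 1) (t 2)) {v w : ℕ} (hv0 : 0 < v) (hv : v < 64) (hw0 : 0 < w)
    (hw : w < 64) (hvw : v ≠ w) (ho : om v w = false) : R.AntiL (t v) (t w) := by
  obtain ⟨h1, h2, h3⟩ := pth_ok ⟨v, hv⟩ ⟨w, hw⟩ (by rw [Ne, Fin.ext_iff]; simp; omega)
    (by rw [Ne, Fin.ext_iff]; simp; omega) (by rw [Ne, Fin.ext_iff]; exact hvw) ho
  simp only at h1 h2 h3
  rw [List.all_eq_true] at h3
  apply D.anti_path R (pth v w) (fun x hx => by simpa using h3 x hx) hv0 hv hw0 hw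
  rw [h1, h2]
  exact hc

/-- commuting or anticommuting -/
theorem SpData.dichotomy [Nontrivial V] : R.CommL (t 1) (t 2) ∨ R.AntiL (t 1) (t 2) :=
  R.comm_or_anti (D.sq (by norm_num) (by norm_num)) (D.sq (by norm_num) (by norm_num)) (by
    rw [D.cj (by norm_num) (by norm_num) (by norm_num) (by norm_num)]; rfl)

omit [IsAlgClosed k] in
/-- the next simple reflection, with the right sign -/
theorem SpData.next [IsAlgClosed k] [Nontrivial V] {v w : ℕ} (hv0 : 0 < v) (hv : v < 64) (hw0 : 0 < w) (hw : w < 64)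
    (ho : om v w = true) (hvw : rf v w = rf w v) {A : Module.End k V} (hA : A ∈ R.L (t v)) (hA2 : A * A = 1) :
    ∃ B ∈ R.L (t w), B * B = 1 ∧ A * B * A = B * A * B := by
  obtain ⟨B, hB, hB2⟩ := R.exists_inv (D.sq hw0 hw)
  have h1 := R.mul (R.mul hA hB) hA
  have h2 := R.mul (R.mul hB hA) hB
  rw [D.cj hv0 hv hw0 hw] at h1
  rw [D.cj hw0 hw hv0 hv, ← hvw] at h2
  have h3 : ∀ {X Y : Module.End k V}, X * X = 1 → Y * Y = 1 → (X * Y * X) * (X * Y * X) = 1 := by
    intro X Y hX hY
    calc (X * Y * X) * (X * Y * X) = X * Y * (X * X) * Y * X := by simp only [mul_assoc]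
      _ = X * (Y * Y) * X := by rw [hX, mul_one]; simp only [mul_assoc]
      _ = 1 := by rw [hY, mul_one, hX]
  rcases R.unique h1 h2 (h3 hA2 hB2) (h3 hB2 hA2) with h | h
  · exact ⟨B, hB, hB2, h⟩
  · refine ⟨-B, ?_, by rw [neg_mul_neg, hB2], ?_⟩
    · have := R.smul (c := (-1 : k)) (by norm_num) hB
      rwa [neg_one_smul] at this
    · rw [mul_neg, neg_mul, h, neg_neg, neg_mul, neg_mul_neg]

/-- Coxeter generators -/
theorem SpData.exists_cox [Nontrivial V] (hc : R.CommL (t 1) (t 2)) :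
    ∃ S : Fin 7 → Module.End k V, Cox S ∧ ∀ i, S i ∈ R.L (t (sr i)) := by
  obtain ⟨S0, h0, q0⟩ := R.exists_inv (D.sq (v := 1) (by norm_num) (by norm_num))
  obtain ⟨S1, h1, q1, b1⟩ := D.next R (v := 1) (w := 8) (by norm_num) (by norm_num) (by norm_num) (by norm_num)
    rfl rfl h0 q0
  obtain ⟨S2, h2, q2, b2⟩ := D.next R (v := 8) (w := 3) (by norm_num) (by norm_num) (by norm_num) (by norm_num)
    rfl rfl h1 q1
  obtain ⟨S3, h3, q3, b3⟩ := D.next R (v := 3) (w := 16) (by norm_num) (by norm_num) (by norm_num) (by norm_num)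
    rfl rfl h2 q2
  obtain ⟨S4, h4, q4, b4⟩ := D.next R (v := 16) (w := 6) (by norm_num) (by norm_num) (by norm_num) (by norm_num)
    rfl rfl h3 q3
  obtain ⟨S5, h5, q5, b5⟩ := D.next R (v := 6) (w := 32) (by norm_num) (by norm_num) (by norm_num) (by norm_num)
    rfl rfl h4 q4
  obtain ⟨S6, h6, q6, b6⟩ := D.next R (v := 3) (w := 48) (by norm_num) (by norm_num) (by norm_num) (by norm_num)
    rfl rfl h2 q2
  have hL : ∀ i : Fin 7, (![S0, S1, S2, S3, S4, S5, S6] : Fin 7 → Module.End k V) i ∈ R.L (t (sr i)) := by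
    intro i
    fin_cases i
    exacts [h0, h1, h2, h3, h4, h5, h6]
  refine ⟨![S0, S1, S2, S3, S4, S5, S6], ⟨?_, ?_, ?_⟩, hL⟩
  · intro i
    fin_cases i
    exacts [q0, q1, q2, q3, q4, q5, q6]
  · intro i j hij
    exact D.comm_all R hc (sr_pos i) (sr_lt i) (sr_pos j) (sr_lt j) hij _ (hL i) _ (hL j)
  · intro i j hij
    fin_cases i <;> fin_cases j <;> first
      | exact absurd hij (by decide)
      | exact b1 | exact b2 | exact b3 | exact b4 | exact b5 | exact b6
      | exact b1.symm | exact b2.symm | exact b3.symm | exact b4.symm | exact b5.symm | exact b6.symm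

omit [IsAlgClosed k] in
theorem SpData.cw_mem {S : Fin 7 → Module.End k V} (hS : ∀ i, S i ∈ R.L (t (sr i))) (j : Fin 7)
    (l : List (Fin 7)) : cw S l (S j) ∈ R.L (t (mw l (sr j))) := by
  induction l with
  | nil => exact hS j
  | cons i l ih =>
    have h := R.mul (R.mul (hS i) ih) (hS i)
    rw [D.cj (sr_pos i) (sr_lt i) (mw_pos l (sr_pos j)) (mw_lt l (sr_lt j))] at h
    exact h

omit [IsAlgClosed k] in
theorem SpData.ga_mem {S : Fin 7 → Module.End k V} (hS : ∀ i, S i ∈ R.L (t (sr i))) {v : ℕ} (h0 : 0 < v)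
    (hv : v < 64) : Ga S v ∈ R.L (t v) := by
  have h := D.cw_mem R hS (bs v) (wd v)
  have h1 := wd_mw ⟨v, hv⟩ (by intro h; rw [Fin.ext_iff] at h; simp at h; omega)
  simp only at h1
  rw [h1] at h
  exact h

end Sp

section neg

variable {A : Type*} [Ring A]

theorem cw_neg (S : Fin 7 → A) (l : List (Fin 7)) (x : A) : cw (fun i => -S i) l (-x) = -cw S l x := by
  induction l with
  | nil => rfl
  | cons i l ih => rw [cw, cw, ih]; simp [mul_assoc]

theorem ga_neg (S : Fin 7 → A) (v : ℕ) : Ga (fun i => -S i) v = -Ga S v := cw_neg S _ _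

theorem Cox.neg {S : Fin 7 → A} (C : Cox S) : Cox (fun i => -S i) where
  sq i := by rw [neg_mul_neg, C.sq]
  comm i j h := by rw [neg_mul_neg, neg_mul_neg, C.comm i j h]
  braid i j h := by rw [neg_mul_neg, neg_mul_neg, mul_neg, mul_neg, C.braid i j h]

theorem comm_sq {a b : A} (ha : a * a = 1) (hb : b * b = 1) (h : Commute a b) : (a * b) * (a * b) = 1 := by
  calc (a * b) * (a * b) = a * (b * a) * b := by simp only [mul_assoc]
    _ = a * (a * b) * b := by rw [h.eq]
    _ = (a * a) * (b * b) := by simp only [mul_assoc]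
    _ = 1 := by rw [ha, hb, one_mul]

end neg

section Ga

variable {M : Type*} [Monoid M] {S : Fin 7 → M} (C : Cox S)

include C in
theorem ga_comm {v w : ℕ} (hv0 : 0 < v) (hv : v < 64) (hw0 : 0 < w) (hw : w < 64) (ho : om v w = false) :
    Commute (Ga S v) (Ga S w) := by
  have h := ga_conj C hv0 hv hw0 hw
  rw [rf, if_neg (by rw [ho]; simp)] at h
  show Ga S v * Ga S w = Ga S w * Ga S v
  calc Ga S v * Ga S w = Ga S v * Ga S w * (Ga S v * Ga S v) := by rw [ga_sq C, mul_one]
    _ = (Ga S v * Ga S w * Ga S v) * Ga S v := by simp only [mul_assoc]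
    _ = _ := by rw [h]

include C in
theorem ga_move {v w : ℕ} (hv0 : 0 < v) (hv : v < 64) (hw0 : 0 < w) (hw : w < 64) :
    Ga S v * Ga S w = Ga S (rf v w) * Ga S v := by
  rw [← ga_conj C hv0 hv hw0 hw, mul_assoc, ga_sq C, mul_one]

end Ga

/-- the normalised data in the commuting case -/
structure CA {T k V : Type*} [Group T] [Field k] [AddCommGroup V] [Module k V] (R : PRep T k V)
    (t : ℕ → T) (S : Fin 7 → Module.End k V) : Prop where
  cox : Cox S
  mem : ∀ i, S i ∈ R.L (t (sr i))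
  prod : Ga S 1 * Ga S 2 * Ga S 3 * Ga S 4 * Ga S 5 * Ga S 6 * Ga S 7 = 1

theorem SpData.exists_CA {T k V : Type*} [Group T] [Field k] [IsAlgClosed k] [AddCommGroup V] [Module k V]
    [Nontrivial V] (R : PRep T k V) {t : ℕ → T} (D : SpData t) (hc : R.CommL (t 1) (t 2)) :
    ∃ S : Fin 7 → Module.End k V, CA R t S := by
  obtain ⟨S, C, hS⟩ := D.exists_cox R hc
  have hm : ∀ {v}, 0 < v → v < 64 → Ga S v ∈ R.L (t v) := fun h0 h => D.ga_mem R hS h0 h
  have h1 : Ga S 1 * Ga S 2 * Ga S 3 * Ga S 4 * Ga S 5 * Ga S 6 * Ga S 7 ∈ R.L 1 := by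
    rw [← D.fano]
    exact R.mul (R.mul (R.mul (R.mul (R.mul (R.mul (hm (by norm_num) (by norm_num))
      (hm (by norm_num) (by norm_num))) (hm (by norm_num) (by norm_num))) (hm (by norm_num) (by norm_num)))
      (hm (by norm_num) (by norm_num))) (hm (by norm_num) (by norm_num))) (hm (by norm_num) (by norm_num))
  obtain ⟨c, hc0, h1⟩ := R.one h1
  have cm : ∀ {v w : ℕ}, 0 < v → v < 8 → 0 < w → w < 8 → Commute (Ga S v) (Ga S w) := by
    intro v w hv0 hv hw0 hw
    apply ga_comm C hv0 (by omega) hw0 (by omega)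
    interval_cases v <;> interval_cases w <;> rfl
  have c12 := cm (v := 1) (w := 2) (by norm_num) (by norm_num) (by norm_num) (by norm_num)
  have q := ga_sq C
  have h2 : (Ga S 1 * Ga S 2 * Ga S 3 * Ga S 4 * Ga S 5 * Ga S 6 * Ga S 7) *
      (Ga S 1 * Ga S 2 * Ga S 3 * Ga S 4 * Ga S 5 * Ga S 6 * Ga S 7) = 1 := by
    have cc : ∀ {w : ℕ}, 0 < w → w < 8 → ∀ {v}, 0 < v → v < 8 → Commute (Ga S v) (Ga S w) :=
      fun a b _ c d => cm c d a b
    have e2 := comm_sq (q 1) (q 2) (cm (by norm_num) (by norm_num) (by norm_num) (by norm_num))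
    have e3 := comm_sq e2 (q 3) (Commute.mul_left (cm (by norm_num) (by norm_num) (by norm_num) (by norm_num))
      (cm (by norm_num) (by norm_num) (by norm_num) (by norm_num)))
    have e4 := comm_sq e3 (q 4) (Commute.mul_left (Commute.mul_left
      (cm (by norm_num) (by norm_num) (by norm_num) (by norm_num))
      (cm (by norm_num) (by norm_num) (by norm_num) (by norm_num)))
      (cm (by norm_num) (by norm_num) (by norm_num) (by norm_num)))
    have e5 := comm_sq e4 (q 5) (Commute.mul_left (Commute.mul_left (Commute.mul_left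
      (cm (by norm_num) (by norm_num) (by norm_num) (by norm_num))
      (cm (by norm_num) (by norm_num) (by norm_num) (by norm_num)))
      (cm (by norm_num) (by norm_num) (by norm_num) (by norm_num)))
      (cm (by norm_num) (by norm_num) (by norm_num) (by norm_num)))
    have e6 := comm_sq e5 (q 6) (Commute.mul_left (Commute.mul_left (Commute.mul_left (Commute.mul_left
      (cm (by norm_num) (by norm_num) (by norm_num) (by norm_num))
      (cm (by norm_num) (by norm_num) (by norm_num) (by norm_num)))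
      (cm (by norm_num) (by norm_num) (by norm_num) (by norm_num)))
      (cm (by norm_num) (by norm_num) (by norm_num) (by norm_num)))
      (cm (by norm_num) (by norm_num) (by norm_num) (by norm_num)))
    exact comm_sq e6 (q 7) (Commute.mul_left (Commute.mul_left (Commute.mul_left (Commute.mul_left
      (Commute.mul_left
      (cm (by norm_num) (by norm_num) (by norm_num) (by norm_num))
      (cm (by norm_num) (by norm_num) (by norm_num) (by norm_num)))
      (cm (by norm_num) (by norm_num) (by norm_num) (by norm_num)))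
      (cm (by norm_num) (by norm_num) (by norm_num) (by norm_num)))
      (cm (by norm_num) (by norm_num) (by norm_num) (by norm_num)))
      (cm (by norm_num) (by norm_num) (by norm_num) (by norm_num)))
  have h3 : c = 1 ∨ c = -1 := by
    rw [h1, smul_mul_smul_comm, one_mul] at h2
    have := smul_one_inj (k := k) (V := V) (a := c * c) (b := 1) (by rw [h2, one_smul])
    exact mul_self_eq_one_iff.1 this
  rcases h3 with h3 | h3
  · exact ⟨S, C, hS, by rw [h1, h3, one_smul]⟩
  · refine ⟨fun i => -S i, C.neg, fun i => ?_, ?_⟩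
    · have := R.smul (c := (-1 : k)) (by norm_num) (hS i)
      rwa [neg_one_smul] at this
    · simp only [ga_neg]
      have : -Ga S 1 * -Ga S 2 * -Ga S 3 * -Ga S 4 * -Ga S 5 * -Ga S 6 * -Ga S 7 =
          -(Ga S 1 * Ga S 2 * Ga S 3 * Ga S 4 * Ga S 5 * Ga S 6 * Ga S 7) := by
        simp only [mul_neg, neg_mul, neg_neg]
      rw [this, h1, h3, neg_one_smul, neg_neg]

end Cfsg.Agent.H916.SpSix

private theorem dce_595d01f5dd41 : _root_.True := by
  try have : _root_.True := by simp only [_root_.Cfsg.Agent.H916.SpSix.rf.eq_1]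
  exact _root_.True.intro
end

-- part: H916/SpSixJ_mg
section
set_option linter.all false
open scoped Cfsg.Agent.FastGrp

-- part: H916/SpSixJ
section
/-!
# The transvections of `PSp₆(2)` indexed by masks
-/

set_option autoImplicit false
set_option linter.unusedSectionVars false
set_option linter.unusedVariables false

namespace Cfsg.Agent.H916.SpSix

open Cfsg Matrix Cfsg.Agent.ClassicalGeometry.SympBasic

section bits

variable {K : Type*} [Field K] (hK : ∀ x : K, x = 0 ∨ x = 1)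

/-- bit to field element -/
def cb (K : Type*) [Field K] (b : Bool) : K := if b then 1 else 0

include hK in
theorem one_add_one : (1 : K) + 1 = 0 := by
  rcases hK (1 + 1) with h | h
  · exact h
  · exact absurd (add_eq_left.1 h) one_ne_zero

include hK in
theorem neg_eq' (x : K) : -x = x := by
  have h := one_add_one hK
  linear_combination -x * h

theorem cb_mul (a b : Bool) : cb K a * cb K b = cb K (a && b) := by
  cases a <;> cases b <;> simp [cb]

include hK in
theorem cb_add (a b : Bool) : cb K a + cb K b = cb K (a ^^ b) := by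
  cases a <;> cases b <;> simp [cb, one_add_one hK]

theorem cb_inj {a b : Bool} (h : cb K a = cb K b) : a = b := by
  cases a <;> cases b <;> simp_all [cb]

/-- the vector of a mask -/
def vec (K : Type*) [Field K] (v : ℕ) : Fin 3 ⊕ Fin 3 → K :=
  Sum.elim (fun i => cb K (v.testBit i)) (fun i => cb K (v.testBit (i + 3)))

include hK in
theorem form_vec (a b : ℕ) : sympForm 3 K (vec K a) (vec K b) = cb K (om a b) := by
  rw [sympForm_eq_sum, Fin.sum_univ_three]
  simp only [vec, Sum.elim_inl, Sum.elim_inr, cb_mul, sub_eq_add_neg, neg_eq' hK, cb_add hK]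
  congr 1
  show ((((a.testBit 3 && b.testBit 0) ^^ (a.testBit 0 && b.testBit 3)) ^^
    ((a.testBit 4 && b.testBit 1) ^^ (a.testBit 1 && b.testBit 4))) ^^
    ((a.testBit 5 && b.testBit 2) ^^ (a.testBit 2 && b.testBit 5))) = _
  rw [om]
  rw [Bool.xor_comm (a.testBit 3 && b.testBit 0), Bool.xor_comm (a.testBit 4 && b.testBit 1),
    Bool.xor_comm (a.testBit 5 && b.testBit 2)]

include hK in
theorem vec_add (a b : ℕ) : vec K a + vec K b = vec K (a ^^^ b) := by
  funext i
  rcases i with i | i <;> simp [vec, cb_add hK, Nat.testBit_xor]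

theorem om_comm (a b : ℕ) : om a b = om b a := by
  have key : ∀ x y z w : Bool, ((x && y) ^^ (z && w)) = ((w && z) ^^ (y && x)) := by decide
  unfold om
  rw [key (a.testBit 0), key (a.testBit 1), key (a.testBit 2)]

include hK in
theorem transv_vec (v w : ℕ) : sympTransvection 3 (vec K v) 1 *ᵥ vec K w = vec K (rf v w) := by
  rw [sympTransvection_mulVec, form_vec hK, one_mul, rf, om_comm w v]
  cases h : om v w
  · simp [cb]
  · rw [cb, if_pos rfl, if_pos rfl, one_smul, add_comm, vec_add hK]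

theorem exists_mask6 : ∀ ε : Fin 6 → Bool, ∃ m : Fin 64, ∀ i : Fin 6, (m : ℕ).testBit i = ε i := by
  decide +kernel

include hK in
theorem exists_vec (x : Fin 3 ⊕ Fin 3 → K) : ∃ v : ℕ, v < 64 ∧ x = vec K v := by
  classical
  obtain ⟨m, hm⟩ := exists_mask6 (fun i => if h : (i : ℕ) < 3 then decide (x (Sum.inl ⟨i, h⟩) = 1) else
    decide (x (Sum.inr ⟨(i : ℕ) - 3, by omega⟩) = 1))
  refine ⟨m, m.2, ?_⟩
  have hc : ∀ y : K, y = cb K (decide (y = 1)) := by
    intro y
    rcases hK y with h | h <;> simp [cb, h]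
  funext j
  rcases j with j | j
  · have h1 := hm ⟨j, by omega⟩
    simp only [j.2, dif_pos, Fin.eta] at h1
    rw [vec, Sum.elim_inl, h1]
    exact hc _
  · have h1 := hm ⟨j + 3, by omega⟩
    simp only [Nat.not_lt.2 (Nat.le_add_left 3 (j : ℕ)), dif_neg, not_false_eq_true] at h1
    rw [vec, Sum.elim_inr, h1]
    have h2 : (⟨(j : ℕ) + 3 - 3, by omega⟩ : Fin 3) = j := by ext; simp
    rw [h2]
    exact hc _

theorem vec_inj {a b : ℕ} (ha : a < 64) (hb : b < 64) (h : vec K a = vec K b) : a = b := by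
  have h1 : ∀ i : Fin 3, a.testBit i = b.testBit i := fun i => cb_inj (congrFun h (Sum.inl i))
  have h2 : ∀ i : Fin 3, a.testBit (i + 3) = b.testBit (i + 3) := fun i => cb_inj (congrFun h (Sum.inr i))
  apply Nat.eq_of_testBit_eq
  intro j
  by_cases hj : j < 3
  · exact h1 ⟨j, hj⟩
  by_cases hj' : j < 6
  · have := h2 ⟨j - 3, by omega⟩
    simp only at this
    rwa [Nat.sub_add_cancel (by omega)] at this
  · rw [Nat.testBit_lt_two_pow (lt_of_lt_of_le ha (by
      calc 64 = 2 ^ 6 := by norm_num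
        _ ≤ 2 ^ j := Nat.pow_le_pow_right (by norm_num) (by omega))),
      Nat.testBit_lt_two_pow (lt_of_lt_of_le hb (by
      calc 64 = 2 ^ 6 := by norm_num
        _ ≤ 2 ^ j := Nat.pow_le_pow_right (by norm_num) (by omega)))]

end bits

section group

variable {K : Type*} [Field K] (hK : ∀ x : K, x = 0 ∨ x = 1)

/-- the transvection of a mask -/
def tr0 (K : Type*) [Field K] (v : ℕ) : Matrix.symplecticGroup (Fin 3) K := transv (vec K v) 1

include hK in
theorem tr0_sq (v : ℕ) : tr0 K v * tr0 K v = 1 := by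
  apply Subtype.ext
  show sympTransvection 3 (vec K v) 1 * sympTransvection 3 (vec K v) 1 = 1
  rw [sympTransvection_mul, one_add_one hK, sympTransvection_zero]

include hK in
theorem tr0_cj (v w : ℕ) : tr0 K v * tr0 K w * tr0 K v = tr0 K (rf v w) := by
  have h : tr0 K v * tr0 K w = tr0 K (rf v w) * tr0 K v := by
    apply Subtype.ext
    show sympTransvection 3 (vec K v) 1 * sympTransvection 3 (vec K w) 1 = sympTransvection 3 (vec K (rf v w)) 1 *
      sympTransvection 3 (vec K v) 1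
    rw [mul_sympTransvection (sympTransvection_mem (vec K v) 1), transv_vec hK]
  rw [h, mul_assoc, tr0_sq hK, mul_one]

theorem fano_check : ∀ x : Fin 64, rf 1 (rf 2 (rf 3 (rf 4 (rf 5 (rf 6 (rf 7 x)))))) = x := by decide +kernel

include hK in
theorem ext_vec {A B : Matrix.symplecticGroup (Fin 3) K}
    (h : ∀ v : ℕ, v < 64 → (A : Matrix (Fin 3 ⊕ Fin 3) (Fin 3 ⊕ Fin 3) K) *ᵥ vec K v =
      (B : Matrix (Fin 3 ⊕ Fin 3) (Fin 3 ⊕ Fin 3) K) *ᵥ vec K v) : A = B := by
  apply Subtype.ext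
  rw [← Matrix.mulVec_injective.eq_iff]
  funext x
  obtain ⟨v, hv, rfl⟩ := exists_vec hK x
  exact h v hv

include hK in
theorem tr0_mulVec (v w : ℕ) : ((tr0 K v : Matrix.symplecticGroup (Fin 3) K) : Matrix _ _ K) *ᵥ vec K w = vec K (rf v w) :=
  transv_vec hK v w

include hK in
theorem tr0_fano : tr0 K 1 * tr0 K 2 * tr0 K 3 * tr0 K 4 * tr0 K 5 * tr0 K 6 * tr0 K 7 = 1 := by
  apply ext_vec hK
  intro v hv
  simp only [coe_mul_mulVec, tr0_mulVec hK]
  rw [fano_check ⟨v, hv⟩]
  rw [Submonoid.coe_one, Matrix.one_mulVec]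

include hK in
theorem tr0_ne : tr0 K 1 * tr0 K 2 * tr0 K 3 ∉ Subgroup.center (Matrix.symplecticGroup (Fin 3) K) := by
  intro h
  have h1 := Subgroup.mem_center_iff.1 h (tr0 K 16)
  have h2 : (tr0 K 1 * tr0 K 2 * tr0 K 3) * tr0 K 16 = tr0 K 17 * (tr0 K 1 * tr0 K 2 * tr0 K 3) := by
    apply Subtype.ext
    show ((tr0 K 1 * tr0 K 2 * tr0 K 3 : Matrix.symplecticGroup (Fin 3) K) : Matrix _ _ K) *
      sympTransvection 3 (vec K 16) 1 = sympTransvection 3 (vec K 17) 1 * _
    rw [mul_sympTransvection (tr0 K 1 * tr0 K 2 * tr0 K 3).2]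
    congr 2
    show ((tr0 K 1 * tr0 K 2 * tr0 K 3 : Matrix.symplecticGroup (Fin 3) K) : Matrix _ _ K) *ᵥ (vec K 16) = vec K 17
    simp only [coe_mul_mulVec, tr0_mulVec hK]
    rfl
  rw [← h1] at h2
  have h3 := mul_right_cancel h2
  have h4 := tr0_mulVec hK 16 2
  rw [h3, tr0_mulVec hK] at h4
  have h5 := vec_inj (by decide) (by decide) h4
  revert h5
  decide

/-- the transvection in the simple group -/
def trP (K : Type*) [Field K] (v : ℕ) : PSp 3 K := QuotientGroup.mk (tr0 K v)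

include hK in
theorem spData : SpData (trP K) where
  sq {v} _ _ := by
    show QuotientGroup.mk (tr0 K v * tr0 K v) = _
    rw [tr0_sq hK]; rfl
  cj {v w} _ _ _ _ := by
    show QuotientGroup.mk (tr0 K v * tr0 K w * tr0 K v) = QuotientGroup.mk _
    rw [tr0_cj hK]
  fano := by
    show QuotientGroup.mk (tr0 K 1 * tr0 K 2 * tr0 K 3 * tr0 K 4 * tr0 K 5 * tr0 K 6 * tr0 K 7) = _
    rw [tr0_fano hK]; rfl
  ne := by
    intro h
    apply tr0_ne hK
    rw [← QuotientGroup.eq_one_iff]
    exact h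

include hK in
theorem spGen : Subgroup.closure {x : PSp 3 K | ∃ v, 0 < v ∧ v < 64 ∧ x = trP K v} = ⊤ := by
  rw [eq_top_iff]
  intro x hx
  clear hx
  induction x using QuotientGroup.induction_on with
  | H g =>
    have hg : g ∈ transvGroup 3 K := by
      have h : transvGroup 3 K = ⊤ := Cfsg.Agent.S0765.result 3
      rw [h]; trivial
    induction hg using Subgroup.closure_induction with
    | mem A hA =>
      obtain ⟨w, c, hw⟩ := hA
      obtain ⟨v, hv, rfl⟩ := exists_vec hK w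
      rcases hK c with rfl | rfl
      · have : A = 1 := by
          apply Subtype.ext
          rw [hw, sympTransvection_zero]; rfl
        rw [this]
        exact Subgroup.one_mem _
      · by_cases h0 : v = 0
        · have : A = 1 := by
            apply Subtype.ext
            rw [hw, h0]
            have hz : vec K 0 = 0 := by funext i; rcases i with i | i <;> simp [vec, cb]
            rw [hz, sympTransvection_def]
            simp
          rw [this]
          exact Subgroup.one_mem _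
        · apply Subgroup.subset_closure
          refine ⟨v, Nat.pos_of_ne_zero h0, hv, ?_⟩
          show QuotientGroup.mk A = QuotientGroup.mk _
          congr 1
          exact Subtype.ext hw
    | one => exact Subgroup.one_mem _
    | mul a b _ _ ha hb => exact Subgroup.mul_mem _ ha hb
    | inv a _ ha => exact Subgroup.inv_mem _ ha

end group

end Cfsg.Agent.H916.SpSix
end

-- part: H916/OmA
section
/-!
# `Ω₈⁺(2)`: products of two reflections, indexed by masks
-/

set_option autoImplicit false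
set_option linter.unusedSectionVars false
set_option linter.unusedVariables false

namespace Cfsg.Agent.H916.Om

open SpSix

/-- the quadratic form on masks: bits 0-3 against bits 4-7 -/
def qf (v : ℕ) : Bool :=
  ((v.testBit 0 && v.testBit 4) ^^ (v.testBit 1 && v.testBit 5)) ^^
  ((v.testBit 2 && v.testBit 6) ^^ (v.testBit 3 && v.testBit 7))

/-- its polar form -/
def bf (v w : ℕ) : Bool :=
  (((v.testBit 0 && w.testBit 4) ^^ (v.testBit 4 && w.testBit 0)) ^^
  ((v.testBit 1 && w.testBit 5) ^^ (v.testBit 5 && w.testBit 1))) ^^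
  (((v.testBit 2 && w.testBit 6) ^^ (v.testBit 6 && w.testBit 2)) ^^
  ((v.testBit 3 && w.testBit 7) ^^ (v.testBit 7 && w.testBit 3)))

/-- reflection -/
def rr (y x : ℕ) : ℕ := if bf y x then y ^^^ x else x

/-- nonsingular masks -/
def ns (v : ℕ) : Prop := v < 256 ∧ qf v = true

instance (v : ℕ) : Decidable (ns v) := inferInstanceAs (Decidable (_ ∧ _))

/-- the base point -/
def n0 : ℕ := 136

def emb (v : ℕ) : ℕ := (v &&& 7) ||| ((v >>> 3) <<< 4)

def lift (v : ℕ) : ℕ := if qf (emb v) then emb v else emb v ^^^ 136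

private def zm (b : Bool) (i : ℕ) : ℕ :=
  Bool.rec 0 (Nat.mod (Nat.shiftRight 0xffffffffffffffffffffffffffffffff00000000000000000000000000000000ffffffffffffffff0000000000000000ffffffffffffffff0000000000000000ffffffff00000000ffffffff00000000ffffffff00000000ffffffff00000000ffff0000ffff0000ffff0000ffff0000ffff0000ffff0000ffff0000ffff0000ff00ff00ff00ff00ff00ff00ff00ff00ff00ff00ff00ff00ff00ff00ff00ff00f0f0f0f0f0f0f0f0f0f0f0f0f0f0f0f0f0f0f0f0f0f0f0f0f0f0f0f0f0f0f0f0ccccccccccccccccccccccccccccccccccccccccccccccccccccccccccccccccaaaaaaaaaaaaaaaaaaaaaaaaaaaaaaaaaaaaaaaaaaaaaaaaaaaaaaaaaaaaaaaa (Nat.mul 256 i)) (Nat.pow 2 256)) b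

private theorem zm_bit (b : Bool) (i : ℕ) (hi : i < 8) (w : ℕ) : (zm b i).testBit (w % 256) = (b && w.testBit i) := by
  have h : ∀ i < 8, ∀ z < 256, (zm true i).testBit z = z.testBit i := by decide +kernel
  cases b
  · exact Nat.zero_testBit _
  · rw [h i hi _ (Nat.mod_lt _ (by decide)), show 256 = 2 ^ 8 from rfl, Nat.testBit_mod_two_pow, decide_eq_true hi]

private def bm (v : ℕ) : ℕ :=
  Nat.xor (Nat.xor (Nat.xor (zm (v.testBit 0) 4) (zm (v.testBit 4) 0)) (Nat.xor (zm (v.testBit 1) 5) (zm (v.testBit 5) 1))) (Nat.xor (Nat.xor (zm (v.testBit 2) 6) (zm (v.testBit 6) 2)) (Nat.xor (zm (v.testBit 3) 7) (zm (v.testBit 7) 3)))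

private theorem bm_bit (v w : ℕ) : (bm v).testBit (w % 256) = bf v w := by
  have e : ∀ x y : ℕ, Nat.xor x y = x ^^^ y := fun _ _ => rfl
  unfold bm bf
  simp only [e, Nat.testBit_xor]
  rw [zm_bit _ 0 (by decide), zm_bit _ 1 (by decide), zm_bit _ 2 (by decide), zm_bit _ 3 (by decide),
    zm_bit _ 4 (by decide), zm_bit _ 5 (by decide), zm_bit _ 6 (by decide), zm_bit _ 7 (by decide)]

private def frcO {α : Type} (x : ℕ) (f : ℕ → α) : α := Nat.rec (f 0) (fun k _ => f k) (Nat.succ x)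

private def rrF (y x : ℕ) : ℕ := frcO y fun y => frcO x fun x => Bool.rec x (Nat.xor y x) ((bm y).testBit (x % 256))

private theorem rr_fast : rr = rrF := by
  funext y x
  change _ = (Bool.rec x (y ^^^ x) ((bm y).testBit (x % 256)) : ℕ)
  rw [bm_bit, rr]
  cases bf y x <;> rfl

private theorem bf_comm' (a b : ℕ) : bf a b = bf b a := by
  have key : ∀ x y z w : Bool, ((x && y) ^^ (z && w)) = ((w && z) ^^ (y && x)) := by decide
  unfold bf
  rw [key (a.testBit 0), key (a.testBit 1), key (a.testBit 2), key (a.testBit 3)]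

theorem lift_ok : ∀ v : Fin 64, v ≠ 0 → ns (lift v) ∧ bf n0 (lift v) = false ∧ lift v ≠ n0 := by decide +kernel

theorem lift_rf : ∀ v w : Fin 64, v ≠ 0 → w ≠ 0 → rr (lift v) (lift w) = lift (rf v w) := by
  rw [rr_fast]
  decide +kernel

theorem lift_surj : ∀ m : Fin 256, ns m → bf n0 m = false → (m : ℕ) ≠ n0 →
    ∃ v : Fin 64, v ≠ 0 ∧ lift v = m := by decide +kernel

private theorem mid_gen (Q : ℕ) (g : ℕ → ℕ) (h : ((List.range 256).all fun n => !(Q.testBit n) || frcO (g n) fun B => frcO (Nat.land Q B) fun C =>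
        (List.range 256).all fun m => !(Q.testBit m) || (B.testBit m || !(Nat.beq (Nat.land C (g m)) 0))) = true)
    (n m : ℕ) (hn : n < 256) (hm : m < 256) (qn : Q.testBit n = true) (qm : Q.testBit m = true) (hb : (g n).testBit m = false) :
    ∃ z, Q.testBit z = true ∧ (g n).testBit z = true ∧ (g m).testBit z = true := by
  have h1 := List.all_eq_true.1 h n (List.mem_range.2 hn)
  rw [qn, Bool.not_true, Bool.false_or] at h1
  have h2 : (!(Q.testBit m) || ((g n).testBit m || !(Nat.beq (Q &&& g n &&& g m) 0))) = true :=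
    List.all_eq_true.1 h1 m (List.mem_range.2 hm)
  rw [qm, hb, Bool.not_true, Bool.false_or, Bool.false_or, Bool.not_eq_true'] at h2
  obtain ⟨z, hz⟩ := Nat.exists_testBit_of_ne_zero (Nat.ne_of_beq_eq_false h2)
  rw [Nat.testBit_and, Nat.testBit_and, Bool.and_eq_true, Bool.and_eq_true] at hz
  exact ⟨z, hz.1.1, hz.1.2, hz.2⟩

theorem exists_mid : ∀ n m : Fin 256, ns n → ns m → bf n m = false →
    ∃ z : Fin 256, ns z ∧ bf n z = true ∧ bf z m = true := by
  obtain ⟨Q, hQ, hq, h⟩ : ∃ Q : ℕ, Q < 2 ^ 256 ∧ (∀ z < 256, Q.testBit z = qf z) ∧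
      ((List.range 256).all fun n => !(Q.testBit n) || frcO (bm n) fun B => frcO (Nat.land Q B) fun C =>
        (List.range 256).all fun m => !(Q.testBit m) || (B.testBit m || !(Nat.beq (Nat.land C (bm m)) 0))) = true :=
    ⟨0x6996c33ca55a0ff0996633cc55aaff0096963c3c5a5af0f06666ccccaaaa0000, by decide +kernel, by decide +kernel, by decide +kernel⟩
  intro n m hn hm hnm
  have hb : ∀ v z : ℕ, z < 256 → (bm v).testBit z = bf v z := fun v z hz =>
    (congrArg (bm v).testBit (Nat.mod_eq_of_lt hz)).symm.trans (bm_bit v z)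
  obtain ⟨z, h1, h2, h3⟩ := mid_gen Q bm h n m n.2 m.2 ((hq n n.2).trans hn.2) ((hq m m.2).trans hm.2) ((hb n m m.2).trans hnm)
  have hz' : z < 256 := by
    by_contra hc
    rw [Nat.testBit_lt_two_pow (lt_of_lt_of_le hQ (Nat.pow_le_pow_right (by decide) (not_lt.1 hc)))] at h1
    exact Bool.noConfusion h1
  exact ⟨⟨z, hz'⟩, ⟨hz', (hq z hz').symm.trans h1⟩, (hb n z hz').symm.trans h2, (bf_comm' z m).trans ((hb m z hz').symm.trans h3)⟩

theorem ns_n0 : ns n0 := by decide

theorem fano_check : ∀ x : Fin 256, rr n0 (rr (lift 1) (rr n0 (rr (lift 2) (rr n0 (rr (lift 3) (rr n0 (rr (lift 4)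
    (rr n0 (rr (lift 5) (rr n0 (rr (lift 6) (rr n0 (rr (lift 7) x))))))))))))) = x := by
  rw [rr_fast]
  decide +kernel

section forms

theorem bf_comm (a b : ℕ) : bf a b = bf b a := by
  have key : ∀ x y z w : Bool, ((x && y) ^^ (z && w)) = ((w && z) ^^ (y && x)) := by decide
  unfold bf
  rw [key (a.testBit 0), key (a.testBit 1), key (a.testBit 2), key (a.testBit 3)]

theorem bf_self (a : ℕ) : bf a a = false := by
  unfold bf
  cases a.testBit 0 <;> cases a.testBit 1 <;> cases a.testBit 2 <;> cases a.testBit 3 <;>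
  cases a.testBit 4 <;> cases a.testBit 5 <;> cases a.testBit 6 <;> cases a.testBit 7 <;> rfl

theorem bf_xor (a b c : ℕ) : bf a (b ^^^ c) = (bf a b ^^ bf a c) := by
  have key : ∀ x y z w y' w' : Bool, ((x && (y ^^ y')) ^^ (z && (w ^^ w'))) =
    (((x && y) ^^ (z && w)) ^^ ((x && y') ^^ (z && w'))) := by decide
  have key2 : ∀ x y z w x' y' z' w' : Bool, (((x ^^ x') ^^ (y ^^ y')) ^^ ((z ^^ z') ^^ (w ^^ w'))) =
    (((x ^^ y) ^^ (z ^^ w)) ^^ ((x' ^^ y') ^^ (z' ^^ w'))) := by decide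
  unfold bf
  simp only [Nat.testBit_xor]
  rw [key (a.testBit 0), key (a.testBit 1), key (a.testBit 2), key (a.testBit 3), key2]

theorem qf_xor (b c : ℕ) : qf (b ^^^ c) = ((qf b ^^ qf c) ^^ bf b c) := by
  have key : ∀ x y x' y' : Bool, ((x ^^ x') && (y ^^ y')) = (((x && y) ^^ (x' && y')) ^^ ((x && y') ^^ (y && x'))) := by
    decide
  have key2 : ∀ a1 a2 a3 b1 b2 b3 c1 c2 c3 d1 d2 d3 : Bool,
    (((((a1 ^^ a2) ^^ a3) ^^ ((b1 ^^ b2) ^^ b3)) ^^ (((c1 ^^ c2) ^^ c3) ^^ ((d1 ^^ d2) ^^ d3)))) =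
    (((((a1 ^^ b1) ^^ (c1 ^^ d1)) ^^ ((a2 ^^ b2) ^^ (c2 ^^ d2))) ^^ ((a3 ^^ b3) ^^ (c3 ^^ d3)))) := by
    intro a1 a2 a3 b1 b2 b3 c1 c2 c3 d1 d2 d3
    cases a1 <;> cases a2 <;> cases a3 <;> cases b1 <;> cases b2 <;> cases b3 <;> revert c1 c2 c3 d1 d2 d3 <;> decide
  unfold qf bf
  simp only [Nat.testBit_xor]
  rw [key (b.testBit 0), key (b.testBit 1), key (b.testBit 2), key (b.testBit 3), key2]

theorem rr_lt {y x : ℕ} (hy : y < 256) (hx : x < 256) : rr y x < 256 := by
  unfold rr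
  split_ifs
  · exact Nat.xor_lt_two_pow (n := 8) hy hx
  · exact hx

theorem rr_ns {y x : ℕ} (hy : ns y) (hx : ns x) : ns (rr y x) := by
  refine ⟨rr_lt hy.1 hx.1, ?_⟩
  unfold rr
  split_ifs with h
  · rw [qf_xor, hy.2, hx.2, h]; rfl
  · exact hx.2

theorem rr_of_orth {y x : ℕ} (h : bf y x = false) : rr y x = x := by
  rw [rr, if_neg (by rw [h]; simp)]

theorem rr_of_not {y x : ℕ} (h : bf y x = true) : rr y x = y ^^^ x := by
  rw [rr, if_pos h]

theorem rr_self (y : ℕ) : rr y y = y := rr_of_orth (bf_self y)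

theorem bf_rr (y a b : ℕ) : bf (rr y a) (rr y b) = bf a b := by
  cases h1 : bf y a <;> cases h2 : bf y b
  · rw [rr_of_orth h1, rr_of_orth h2]
  · rw [rr_of_orth h1, rr_of_not h2, bf_xor, bf_comm a y, h1]; simp
  · rw [rr_of_not h1, rr_of_orth h2, bf_comm, bf_xor, bf_comm b y, h2, bf_comm b a]; simp
  · rw [rr_of_not h1, rr_of_not h2, bf_xor, bf_comm (y ^^^ a) y, bf_xor, bf_self, h1, bf_comm (y ^^^ a) b, bf_xor,
      bf_comm b y, h2, bf_comm b a]; simp

theorem rr_rr (y x : ℕ) : rr y (rr y x) = x := by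
  cases h : bf y x
  · rw [rr_of_orth h, rr_of_orth h]
  · rw [rr_of_not h, rr_of_not (by rw [bf_xor, bf_self, h]; rfl), ← Nat.xor_assoc, Nat.xor_self, Nat.zero_xor]

end forms

/-- the data: `τ n m` is the product of the reflections in `n` and `m` -/
structure OmData {T : Type*} [Group T] (τ : ℕ → ℕ → T) : Prop where
  mul : ∀ {n m y : ℕ}, ns n → ns m → ns y → τ n m * τ m y = τ n y
  cj : ∀ {n m y : ℕ}, ns n → ns m → ns y → τ m n * τ m y = τ (rr m n) y
  fano : τ n0 (lift 1) * τ n0 (lift 2) * τ n0 (lift 3) * τ n0 (lift 4) * τ n0 (lift 5) * τ n0 (lift 6) *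
    τ n0 (lift 7) = 1
  ne : τ n0 (lift 1) * τ n0 (lift 2) * τ n0 (lift 3) ≠ 1

section data

variable {T : Type*} [Group T] {τ : ℕ → ℕ → T} (D : OmData τ)

include D

theorem OmData.self {n : ℕ} (hn : ns n) : τ n n = 1 := by
  have h := D.mul hn hn hn
  exact mul_eq_left.1 h

theorem OmData.inv {n m : ℕ} (hn : ns n) (hm : ns m) : (τ n m)⁻¹ = τ m n := by
  rw [inv_eq_iff_mul_eq_one, D.mul hn hm hn, D.self hn]

theorem OmData.symm {n m : ℕ} (hn : ns n) (hm : ns m) (h : bf n m = false) : τ n m = τ m n := by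
  have h1 := D.cj (n := n) (m := m) (y := m) hn hm hm
  rw [D.self hm, mul_one, rr_of_orth (by rw [bf_comm]; exact h)] at h1
  exact h1.symm

theorem OmData.sq {n m : ℕ} (hn : ns n) (hm : ns m) (h : bf n m = false) : τ n m * τ n m = 1 := by
  nth_rewrite 2 [D.symm hn hm h]
  rw [D.mul hn hm hn, D.self hn]

/-- `t_a t_b t_n t_b = t_a t_{rr b n}` -/
theorem OmData.conjR {a b n : ℕ} (ha : ns a) (hb : ns b) (hn : ns n) : τ a b * τ n b = τ a (rr b n) := by
  have h := D.cj hn hb ha
  have h2 := congrArg (·⁻¹) h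
  simp only [mul_inv_rev] at h2
  rw [D.inv hb ha, D.inv hb hn, D.inv (rr_ns hb hn) ha] at h2
  exact h2

/-- conjugation -/
theorem OmData.conj {a b n m : ℕ} (ha : ns a) (hb : ns b) (hn : ns n) (hm : ns m) :
    τ a b * τ n m * τ b a = τ (rr a (rr b n)) (rr a (rr b m)) := by
  have hp := rr_ns hb hn
  have hq := rr_ns hb hm
  calc τ a b * τ n m * τ b a = (τ a b * τ n b) * (τ b m * τ b a) := by
        rw [← D.mul hn hb hm]; simp only [mul_assoc]
    _ = τ a (rr b n) * τ (rr b m) a := by rw [D.conjR ha hb hn, D.cj hm hb ha]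
    _ = (τ a (rr b n) * τ a a) * (τ a a * τ (rr b m) a) := by rw [D.self ha, mul_one, one_mul]
    _ = τ (rr a (rr b n)) a * τ a (rr a (rr b m)) := by rw [D.cj hp ha ha, D.conjR ha ha hq]
    _ = _ := D.mul (rr_ns ha hp) ha (rr_ns ha hq)

theorem OmData.spData : SpData (fun v => τ n0 (lift v)) where
  sq {v} h0 hv := by
    obtain ⟨h1, h2, -⟩ := lift_ok ⟨v, hv⟩ (by intro h; rw [Fin.ext_iff] at h; simp at h; omega)
    exact D.sq ns_n0 h1 h2
  cj {v w} hv0 hv hw0 hw := by
    have hv' : (⟨v, hv⟩ : Fin 64) ≠ 0 := by intro h; rw [Fin.ext_iff] at h; simp at h; omega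
    have hw' : (⟨w, hw⟩ : Fin 64) ≠ 0 := by intro h; rw [Fin.ext_iff] at h; simp at h; omega
    obtain ⟨h1, h2, -⟩ := lift_ok _ hv'
    obtain ⟨h3, h4, -⟩ := lift_ok _ hw'
    have h5 := lift_rf _ _ hv' hw'
    simp only at h1 h2 h3 h4 h5
    have h6 := D.conj ns_n0 h1 ns_n0 h3
    rw [← D.symm ns_n0 h1 h2, rr_of_orth (by rw [bf_comm]; exact h2 : bf (lift v) n0 = false), rr_self, h5,
      rr_of_orth (x := lift (rf v w)) (y := n0)] at h6
    · exact h6
    · rw [← h5, show bf n0 (rr (lift v) (lift w)) = bf (rr (lift v) n0) (rr (lift v) (lift w)) by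
        rw [rr_of_orth (by rw [bf_comm]; exact h2 : bf (lift v) n0 = false)], bf_rr, h4]
  fano := D.fano
  ne := D.ne

end data

end Cfsg.Agent.H916.Om
end

private theorem dce_67998a3cb347 : _root_.True := by
  try have : _root_.True := by simp only [_root_.Cfsg.Agent.H916.SpSix.om.eq_1]
  try have : _root_.True := by simp only [_root_.Cfsg.Agent.H916.SpSix.cb.eq_1]
  try have : _root_.True := by simp only [_root_.Cfsg.Agent.H916.SpSix.vec.eq_1]
  try have : _root_.True := by simp only [_root_.Cfsg.Agent.H916.Om.rr.eq_1]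
  exact _root_.True.intro
end
end
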