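import Cfsg.Agent.H916.SpSixK_mg
import Cfsg.Agent.H916.SpSixJ_mg
import Cfsg.Agent.FastGrp
import Cfsg.Agent.Prune
set_option linter.all false
prune_inst 0x7ffee8ffebfe39dfdfff7e7faf9edffdfbbd9fffe6fff9cbbfe029efbbbf738a4dc5f9ad8fe0e8fe1fc3e2b490b87853fb7eeeffeb6fd87ffffdbff41ffbee0ff5f7b50951dc88b41fbc2ff603f0778e7f3fffffffffffffffffffffffffffbefffdffffffff
open scoped Cfsg.Agent.FastGrp

-- part: H916/PauliTwo
section
/-!
# Anticommuting involutions in dimension two
-/

set_option autoImplicit false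
set_option linter.unusedSectionVars false
set_option linter.unusedVariables false

namespace Cfsg.Agent.H916.Pauli

open Halving

/-- anticommuting -/
def An {A : Type*} [Ring A] (x y : A) : Prop := x * y = -(y * x)

theorem An.symm {A : Type*} [Ring A] {x y : A} (h : An x y) : An y x := by
  unfold An at h ⊢
  rw [h, neg_neg]

section two

variable {k W : Type*} [Field k] [AddCommGroup W] [Module k W]

theorem An.of_smul {x y : Module.End k W} {c : k} (hc : c ≠ 0) (h : An x (c • y)) : An x y := by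
  unfold An at h ⊢
  rw [mul_smul_comm, smul_mul_assoc, ← smul_neg] at h
  exact smul_right_injective _ hc h

variable [FiniteDimensional k W] (h2 : (2 : k) ≠ 0) (hW : Module.finrank k W = 2)

include h2 hW

/-- an eigenvector -/
theorem exists_e {a b : Module.End k W} (ha : a * a = 1) (hb : b * b = 1) (hab : An a b) :
    ∃ e : W, a e = e ∧ (∀ x, a x = x → ∃ c : k, x = c • e) ∧ ∀ x, ∃ α β : k, x = α • e + β • b e := by
  have h := finrank_half h2 (W := ⊤) (A := a) (B := b) (a := 1) (b := 1) one_ne_zero one_ne_zero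
    (fun _ _ => trivial) (fun _ _ => trivial) (by rw [ha, mul_one, one_smul]) (by rw [hb, one_smul]) hab
  rw [finrank_top, hW] at h
  have h1 : Module.finrank k (eig ⊤ a 1) = 1 := by omega
  rw [finrank_eq_one_iff'] at h1
  obtain ⟨e, -, hall⟩ := h1
  have he := e.2
  rw [mem_eig, one_smul] at he
  have hall' : ∀ x, a x = x → ∃ c : k, x = c • (e : W) := by
    intro x hx
    obtain ⟨c, hc⟩ := hall ⟨x, by rw [mem_eig, one_smul]; exact ⟨trivial, hx⟩⟩
    exact ⟨c, (congrArg Subtype.val hc).symm⟩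
  refine ⟨e, he.2, hall', fun x => ?_⟩
  have haa : ∀ x, a (a x) = x := fun x => by rw [← Module.End.mul_apply, ha, Module.End.one_apply]
  have hbb : ∀ x, b (b x) = x := fun x => by rw [← Module.End.mul_apply, hb, Module.End.one_apply]
  have habx : ∀ x, a (b x) = -b (a x) := fun x => by
    rw [← Module.End.mul_apply, hab, LinearMap.neg_apply, Module.End.mul_apply]
  obtain ⟨α, hα⟩ := hall' (x + a x) (by rw [map_add, haa, add_comm])
  obtain ⟨β, hβ⟩ := hall' (b (x - a x)) (by rw [habx, map_sub, haa, ← map_neg, neg_sub])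
  refine ⟨2⁻¹ * α, 2⁻¹ * β, ?_⟩
  have h3 : x - a x = β • b e := by rw [← map_smul, ← hβ, hbb]
  rw [mul_smul, mul_smul, ← hα, ← h3, ← smul_add, show x + a x + (x - a x) = (2 : k) • x by rw [two_smul]; abel,
    smul_smul, inv_mul_cancel₀ h2, one_smul]

/-- the operators anticommuting with `b` -/
theorem span_of_anti {a b c X : Module.End k W} (ha : a * a = 1) (hb : b * b = 1) (hc : c * c = 1) (hab : An a b)
    (hac : An a c) (hbc : An b c) (hX : An X b) : ∃ α β : k, X = α • a + β • c := by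
  obtain ⟨e, he, hall, hsp⟩ := exists_e h2 hW ha hb hab
  have hbb : ∀ x, b (b x) = x := fun x => by rw [← Module.End.mul_apply, hb, Module.End.one_apply]
  have hcc : ∀ x, c (c x) = x := fun x => by rw [← Module.End.mul_apply, hc, Module.End.one_apply]
  have habx : ∀ x, a (b x) = -b (a x) := fun x => by
    rw [← Module.End.mul_apply, hab, LinearMap.neg_apply, Module.End.mul_apply]
  have hacx : ∀ x, a (c x) = -c (a x) := fun x => by
    rw [← Module.End.mul_apply, hac, LinearMap.neg_apply, Module.End.mul_apply]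
  have hcbx : ∀ x, c (b x) = -b (c x) := fun x => by
    rw [← Module.End.mul_apply, hbc.symm, LinearMap.neg_apply, Module.End.mul_apply]
  have hXbx : ∀ x, X (b x) = -b (X x) := fun x => by
    rw [← Module.End.mul_apply, hX, LinearMap.neg_apply, Module.End.mul_apply]
  -- `c e = γ b e`
  obtain ⟨γ, hγ⟩ := hall (b (c e)) (by rw [habx, hacx, he, map_neg, neg_neg])
  have hce : c e = γ • b e := by rw [← map_smul, ← hγ, hbb]
  have hγ0 : γ ≠ 0 := by
    rintro rfl
    rw [zero_smul] at hce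
    have he0 : e = 0 := by rw [← hcc e, hce, map_zero]
    have h0 : ∀ x : W, x = 0 := by
      intro x
      obtain ⟨α, β, h⟩ := hsp x
      rw [h, he0, map_zero, smul_zero, smul_zero, add_zero]
    have : Subsingleton W := ⟨fun x y => by rw [h0 x, h0 y]⟩
    rw [Module.finrank_zero_of_subsingleton] at hW
    omega
  obtain ⟨α, β, hXe⟩ := hsp (X e)
  refine ⟨α, β * γ⁻¹, ?_⟩
  have h1 : X e = (α • a + (β * γ⁻¹) • c) e := by
    rw [LinearMap.add_apply, LinearMap.smul_apply, LinearMap.smul_apply, he, hce, smul_smul, mul_assoc,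
      inv_mul_cancel₀ hγ0, mul_one]
    exact hXe
  have h3 : X (b e) = (α • a + (β * γ⁻¹) • c) (b e) := by
    rw [hXbx, h1, LinearMap.add_apply, LinearMap.add_apply, LinearMap.smul_apply, LinearMap.smul_apply,
      LinearMap.smul_apply, LinearMap.smul_apply, habx, hcbx, map_add, map_smul, map_smul, smul_neg, smul_neg]
    abel
  ext x
  obtain ⟨μ, ν, rfl⟩ := hsp x
  rw [map_add, map_smul, map_smul, h1, h3, map_add, map_smul, map_smul]

theorem prop_of_anti {a b c X : Module.End k W} (ha : a * a = 1) (hb : b * b = 1) (hc : c * c = 1) (hab : An a b)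
    (hac : An a c) (hbc : An b c) (hXa : An X a) (hXb : An X b) : ∃ γ : k, X = γ • c := by
  obtain ⟨α, β, h⟩ := span_of_anti h2 hW ha hb hc hab hac hbc hXb
  refine ⟨β, ?_⟩
  have h1 : X * a + a * X = 0 := by rw [hXa]; abel
  have h3 : (2 * α) • (1 : Module.End k W) = 0 := by
    rw [← h1, h, add_mul, mul_add, smul_mul_assoc, smul_mul_assoc, mul_smul_comm, mul_smul_comm, ha,
      show a * c = -(c * a) from hac, smul_neg, two_mul, add_smul]
    abel
  have : Nontrivial W := Module.nontrivial_of_finrank_pos (R := k) (by rw [hW]; norm_num)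
  rcases smul_eq_zero.1 h3 with h4 | h4
  · have : α = 0 := by
      rcases mul_eq_zero.1 h4 with h5 | h5
      · exact absurd h5 h2
      · exact h5
    rw [h, this, zero_smul, zero_add]
  · exact absurd h4 one_ne_zero

theorem ne_zero_of_sq {X Y : Module.End k W} {γ : k} (hX : X * X = 1) (h : X = γ • Y) : γ ≠ 0 := by
  rintro rfl
  have : Nontrivial W := Module.nontrivial_of_finrank_pos (R := k) (by rw [hW]; norm_num)
  rw [h, zero_smul, mul_zero] at hX
  exact zero_ne_one hX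

/-- a line disjoint from `{a, b, c}` -/
theorem trio {a b c u v z : Module.End k W} (ha : a * a = 1) (hb : b * b = 1) (hc : c * c = 1) (hab : An a b)
    (hac : An a c) (hbc : An b c) (hu : u * u = 1) (hv : v * v = 1) (hz : z * z = 1) (hub : An u b) (hva : An v a)
    (hzc : An z c) (huv : An u v) (huz : An u z) (hvz : An v z) :
    ((∃ γ : k, u = γ • a) ∧ (∃ γ : k, v = γ • c) ∧ ∃ γ : k, z = γ • b) ∨
      ((∃ γ : k, u = γ • c) ∧ (∃ γ : k, v = γ • b) ∧ ∃ γ : k, z = γ • a) := by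
  obtain ⟨α, β, h⟩ := span_of_anti h2 hW ha hb hc hab hac hbc hub
  obtain ⟨γ, δ, h'⟩ := span_of_anti h2 hW hb ha hc hab.symm hbc hac hva
  have : Nontrivial W := Module.nontrivial_of_finrank_pos (R := k) (by rw [hW]; norm_num)
  have h0 : u * v + v * u = 0 := by rw [huv]; abel
  have hbd : (2 * (β * δ)) • (1 : Module.End k W) = 0 := by
    rw [← h0, h, h']
    simp only [add_mul, mul_add, smul_mul_assoc, mul_smul_comm, hc]
    rw [show a * b = -(b * a) from hab, show a * c = -(c * a) from hac, show b * c = -(c * b) from hbc]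
    module
  have hbd0 : β * δ = 0 := by
    rcases smul_eq_zero.1 hbd with h4 | h4
    · rcases mul_eq_zero.1 h4 with h5 | h5
      · exact absurd h5 h2
      · exact h5
    · exact absurd h4 one_ne_zero
  rcases mul_eq_zero.1 hbd0 with h5 | h5
  · left
    rw [h5, zero_smul, add_zero] at h
    have hα := ne_zero_of_sq h2 hW hu h
    have hza : An z a := An.of_smul hα (by rw [← h]; exact huz.symm)
    obtain ⟨ζ, hζ⟩ := prop_of_anti h2 hW ha hc hb hac hab hbc.symm hza hzc
    have hζ0 := ne_zero_of_sq h2 hW hz hζ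
    have hvb : An v b := An.of_smul hζ0 (by rw [← hζ]; exact hvz)
    exact ⟨⟨α, h⟩, prop_of_anti h2 hW ha hb hc hab hac hbc hva hvb, ζ, hζ⟩
  · right
    rw [h5, zero_smul, add_zero] at h'
    have hγ := ne_zero_of_sq h2 hW hv h'
    have hzb : An z b := An.of_smul hγ (by rw [← h']; exact hvz.symm)
    obtain ⟨ζ, hζ⟩ := prop_of_anti h2 hW hb hc ha hbc hab.symm hac.symm hzb hzc
    have hζ0 := ne_zero_of_sq h2 hW hz hζ
    have hua : An u a := An.of_smul hζ0 (by rw [← hζ]; exact huz)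
    exact ⟨prop_of_anti h2 hW ha hb hc hab hac hbc hua hub, ⟨γ, h'⟩, ζ, hζ⟩

theorem not_prop {a b u : Module.End k W} {γ δ : k} (hb : b * b = 1) (hab : An a b) (hu : u * u = 1)
    (h1 : u = γ • a) (h3 : u = δ • b) : False := by
  have : Nontrivial W := Module.nontrivial_of_finrank_pos (R := k) (by rw [hW]; norm_num)
  have hγ := ne_zero_of_sq h2 hW hu h1
  have h4 : a * b = b * a := by
    have h5 : γ • (a * b) = γ • (b * a) := by
      rw [← smul_mul_assoc, ← mul_smul_comm, ← h1, h3, smul_mul_assoc, mul_smul_comm]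
    exact smul_right_injective _ hγ h5
  have h5 : (2 : k) • (b * a) = 0 := by
    rw [two_smul]
    nth_rewrite 1 [← h4]
    rw [show a * b = -(b * a) from hab]
    abel
  rcases smul_eq_zero.1 h5 with h6 | h6
  · exact h2 h6
  · have h7 : a = 0 := by rw [← one_mul a, ← hb, mul_assoc, h6, mul_zero]
    rw [h1, h7, smul_zero, mul_zero] at hu
    exact zero_ne_one hu

theorem not_same {a u v : Module.End k W} {γ δ : k} (hu : u * u = 1) (hv : v * v = 1) (huv : An u v)
    (h1 : u = γ • a) (h3 : v = δ • a) : False := by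
  have hδ := ne_zero_of_sq h2 hW hv h3
  exact not_prop (γ := γ * δ⁻¹) (δ := 1) h2 hW hu huv.symm hu (by
    rw [h3, smul_smul, mul_assoc, inv_mul_cancel₀ hδ, mul_one]; exact h1) (by rw [one_smul])

/-- **No projective representation of `Sp₄(2)` with anticommuting lifts in dimension two.** -/
theorem no_rep {a b c u1 v1 z1 u2 z2 u3 v3 : Module.End k W} (ha : a * a = 1) (hb : b * b = 1) (hc : c * c = 1)
    (hab : An a b) (hac : An a c) (hbc : An b c)
    (hu1 : u1 * u1 = 1) (hv1 : v1 * v1 = 1) (hz1 : z1 * z1 = 1) (hu2 : u2 * u2 = 1) (hz2 : z2 * z2 = 1)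
    (hu3 : u3 * u3 = 1) (hv3 : v3 * v3 = 1)
    (hu1b : An u1 b) (hv1a : An v1 a) (hz1c : An z1 c) (hu2b : An u2 b) (hz2c : An z2 c) (hu3b : An u3 b)
    (hv3a : An v3 a) (h11 : An u1 v1) (h12 : An u1 z1) (h13 : An v1 z1)
    (h21 : An u2 v1) (h22 : An u2 z2) (h23 : An v1 z2) (h31 : An u3 v3) (h32 : An u3 z2) (h33 : An v3 z2)
    (h13' : An u1 u3) : False := by
  have t1 := trio h2 hW ha hb hc hab hac hbc hu1 hv1 hz1 hu1b hv1a hz1c h11 h12 h13
  have t2 := trio h2 hW ha hb hc hab hac hbc hu2 hv1 hz2 hu2b hv1a hz2c h21 h22 h23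
  have t3 := trio h2 hW ha hb hc hab hac hbc hu3 hv3 hz2 hu3b hv3a hz2c h31 h32 h33
  rcases t1 with ⟨⟨γ, p1⟩, ⟨δ, p2⟩, -⟩ | ⟨⟨γ, p1⟩, ⟨δ, p2⟩, -⟩
  · rcases t2 with ⟨-, -, ε, q3⟩ | ⟨-, ⟨δ', q2⟩, -⟩
    · rcases t3 with ⟨⟨ζ, r1⟩, -, -⟩ | ⟨-, -, ε', r3⟩
      · exact not_same h2 hW hu1 hu3 h13' p1 r1
      · exact not_prop h2 hW ha hab.symm hz2 q3 r3
    · exact not_prop h2 hW hb hbc.symm hv1 p2 q2
  · rcases t2 with ⟨-, ⟨δ', q2⟩, -⟩ | ⟨-, -, ε, q3⟩
    · exact not_prop h2 hW hb hbc.symm hv1 q2 p2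
    · rcases t3 with ⟨-, -, ε', r3⟩ | ⟨⟨ζ, r1⟩, -, -⟩
      · exact not_prop h2 hW ha hab.symm hz2 r3 q3
      · exact not_same h2 hW hu1 hu3 h13' p1 r1

end two

end Cfsg.Agent.H916.Pauli
end

-- part: H916/SpEightA
section
/-!
# Dimension eight, anticommuting case: the anticommutators of the lifted transvections are scalars
-/

set_option autoImplicit false
set_option linter.unusedSectionVars false
set_option linter.unusedVariables false

namespace Cfsg.Agent.H916.SpEight

open SpSix Halving Pauli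

section half

variable {k V : Type*} [Field k] [AddCommGroup V] [Module k V] [FiniteDimensional k V]

/-- pointwise halving -/
theorem finrank_half' (h2 : (2 : k) ≠ 0) {W : Submodule k V} {A B : Module.End k V} {a b : k} (ha : a ≠ 0)
    (hb : b ≠ 0) (hA : ∀ x ∈ W, A x ∈ W) (hB : ∀ x ∈ W, B x ∈ W) (hA2 : ∀ x ∈ W, A (A x) = (a * a) • x)
    (hB2 : ∀ x ∈ W, B (B x) = b • x) (hAB : ∀ x ∈ W, A (B x) = -(B (A x))) :
    Module.finrank k W = 2 * Module.finrank k (eig W A a) := by
  have h := finrank_half h2 (W := ⊤) (A := A.restrict hA) (B := B.restrict hB) ha hb (fun _ _ => trivial)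
    (fun _ _ => trivial) (LinearMap.ext fun x => Subtype.ext (hA2 x x.2)) (LinearMap.ext fun x => Subtype.ext (hB2 x x.2))
    (LinearMap.ext fun x => Subtype.ext (hAB x x.2))
  rw [finrank_top] at h
  have h3 : (eig ⊤ (A.restrict hA) a).map W.subtype = eig W A a := by
    ext x
    rw [Submodule.mem_map]
    constructor
    · rintro ⟨y, hy, rfl⟩
      rw [mem_eig] at hy ⊢
      exact ⟨y.2, congrArg Subtype.val hy.2⟩
    · intro hx
      rw [mem_eig] at hx
      exact ⟨⟨x, hx.1⟩, by rw [mem_eig]; exact ⟨trivial, Subtype.ext hx.2⟩, rfl⟩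
  rw [← h3, Submodule.finrank_map_subtype_eq]
  exact h

/-- four anticommuting involutions on a subspace -/
theorem four_dvd (h2 : (2 : k) ≠ 0) {i : k} (hi : i * i = -1) {W : Submodule k V} {g0 g1 g2 g3 : Module.End k V}
    (s0 : g0 * g0 = 1) (s1 : g1 * g1 = 1) (s2 : g2 * g2 = 1) (s3 : g3 * g3 = 1)
    (w0 : ∀ x ∈ W, g0 x ∈ W) (w1 : ∀ x ∈ W, g1 x ∈ W) (w2 : ∀ x ∈ W, g2 x ∈ W) (w3 : ∀ x ∈ W, g3 x ∈ W)
    (a01 : An g0 g1) (a02 : An g0 g2) (a03 : An g0 g3) (a12 : An g1 g2) (a13 : An g1 g3) (a23 : An g2 g3) :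
    4 ∣ Module.finrank k W := by
  have hi0 : i ≠ 0 := by rintro rfl; rw [mul_zero] at hi; exact absurd hi.symm (neg_ne_zero.2 one_ne_zero)
  have hsq : ∀ {x y : Module.End k V}, x * x = 1 → y * y = 1 → An x y → (x * y) * (x * y) = (-1 : k) • 1 := by
    intro x y hx hy hxy
    calc (x * y) * (x * y) = x * (y * x) * y := by simp only [mul_assoc]
      _ = -((x * x) * (y * y)) := by
        rw [show y * x = -(x * y) from hxy.symm, mul_neg, neg_mul]; simp only [mul_assoc]
      _ = (-1 : k) • 1 := by rw [hx, hy, one_mul, neg_one_smul]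
  have hcm : ∀ {x y z : Module.End k V}, An x y → An x z → x * (y * z) = (y * z) * x := by
    intro x y z hxy hxz
    calc x * (y * z) = (x * y) * z := by rw [mul_assoc]
      _ = -(y * (x * z)) := by rw [show x * y = -(y * x) from hxy, neg_mul, mul_assoc]
      _ = (y * z) * x := by rw [show x * z = -(z * x) from hxz, mul_neg, neg_neg, mul_assoc]
  have hanti : (g1 * g2) * (g1 * g3) = -((g1 * g3) * (g1 * g2)) := by
    have e : ∀ {y z : Module.End k V}, An g1 y → (g1 * y) * (g1 * z) = -(y * z) := by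
      intro y z hy
      calc (g1 * y) * (g1 * z) = g1 * (y * g1) * z := by simp only [mul_assoc]
        _ = -((g1 * g1) * (y * z)) := by
          rw [show y * g1 = -(g1 * y) from hy.symm, mul_neg, neg_mul]; simp only [mul_assoc]
        _ = _ := by rw [s1, one_mul]
    rw [e a12, e a13, show g2 * g3 = -(g3 * g2) from a23, neg_neg]
  have e1 := finrank_half h2 (W := W) (A := g0) (B := g1) (a := 1) (b := 1) one_ne_zero one_ne_zero w0 w1
    (by rw [s0, mul_one, one_smul]) (by rw [s1, one_smul]) a01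
  have e2 := finrank_half h2 (W := eig W g0 1) (A := g1 * g2) (B := g1 * g3) (a := i) (b := -1) hi0
    (neg_ne_zero.2 one_ne_zero)
    (eig_inv (fun x hx => w1 _ (w2 _ hx)) (hcm a01 a02)) (eig_inv (fun x hx => w1 _ (w3 _ hx)) (hcm a01 a03))
    (by rw [hsq s1 s2 a12, hi]) (hsq s1 s3 a13) hanti
  rw [e1, e2]
  exact ⟨Module.finrank k (eig (eig W g0 1) (g1 * g2) i), by ring⟩

end half

/-- the masks orthogonal to 1 and 8 -/
def Pm (v : ℕ) : Prop := (0 < v ∧ v < 64) ∧ om 1 v = false ∧ om 8 v = false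

instance (v : ℕ) : Decidable (Pm v) := inferInstanceAs (Decidable (_ ∧ _))

section core

variable {k V : Type*} [Field k] [IsAlgClosed k] [AddCommGroup V] [Module k V] [FiniteDimensional k V]

theorem anticomm (h2 : (2 : k) ≠ 0) (hV : Module.finrank k V = 8) {A B : Module.End k V} (hA : A * A = 1)
    (hB : B * B = 1) (hbr : A * B * A = B * A * B) (hne : A ≠ B) {γ : ℕ → Module.End k V}
    (hγ : ∀ {v}, Pm v → γ v * γ v = 1) (hγA : ∀ {v}, Pm v → An (γ v) A) (hγB : ∀ {v}, Pm v → An (γ v) B)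
    (hγγ : ∀ {v w}, Pm v → Pm w → v ≠ w → om v w = false → An (γ v) (γ w)) : A * B + B * A = -1 := by
  have i1 : (A * B) * (A * B) = B * A := by
    calc (A * B) * (A * B) = (A * B * A) * B := by simp only [mul_assoc]
      _ = B * A := by rw [hbr, mul_assoc, hB, mul_one]
  have i2 : (B * A) * (B * A) = A * B := by
    calc (B * A) * (B * A) = (B * A * B) * A := by simp only [mul_assoc]
      _ = A * B := by rw [← hbr, mul_assoc, hA, mul_one]
  have i3 : (A * B) * (B * A) = 1 := by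
    calc (A * B) * (B * A) = A * (B * B) * A := by simp only [mul_assoc]
      _ = 1 := by rw [hB, mul_one, hA]
  have i4 : (B * A) * (A * B) = 1 := by
    calc (B * A) * (A * B) = B * (A * A) * B := by simp only [mul_assoc]
      _ = 1 := by rw [hA, mul_one, hB]
  set Q : Module.End k V := A * B + B * A + 1 with hQ
  have hQ1 : Q * (A * B - 1) = 0 := by
    rw [hQ, mul_sub, add_mul, add_mul, i1, i4, one_mul, mul_one]; abel
  have hQ2 : (A * B - 1) * Q = 0 := by
    rw [hQ, sub_mul, mul_add, mul_add, i1, i3, one_mul, mul_one]; abel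
  have hAQ : A * Q = Q * A := by
    rw [hQ, mul_add, mul_add, add_mul, add_mul, ← mul_assoc A A B, hA, mul_assoc B A A, hA, ← mul_assoc A B A]
    simp only [one_mul, mul_one]
    abel
  have hcm : ∀ {x y z : Module.End k V}, An x y → An x z → x * (y * z) = (y * z) * x := by
    intro x y z hxy hxz
    calc x * (y * z) = (x * y) * z := by rw [mul_assoc]
      _ = -(y * (x * z)) := by rw [show x * y = -(y * x) from hxy, neg_mul, mul_assoc]
      _ = (y * z) * x := by rw [show x * z = -(z * x) from hxz, mul_neg, neg_neg, mul_assoc]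
  have hγQ : ∀ {v}, Pm v → γ v * Q = Q * γ v := by
    intro v hv
    rw [hQ, mul_add, mul_add, add_mul, add_mul, hcm (hγA hv) (hγB hv), hcm (hγB hv) (hγA hv), one_mul, mul_one]
  have hr : ∀ {X : Module.End k V}, X * Q = Q * X → ∀ x ∈ LinearMap.range Q, X x ∈ LinearMap.range Q := by
    rintro X hX _ ⟨y, rfl⟩
    exact ⟨X y, by rw [← Module.End.mul_apply, ← hX, Module.End.mul_apply]⟩
  have hk : ∀ {X : Module.End k V}, X * Q = Q * X → ∀ x ∈ LinearMap.ker Q, X x ∈ LinearMap.ker Q := by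
    intro X hX x hx
    rw [LinearMap.mem_ker] at hx ⊢
    rw [← Module.End.mul_apply, ← hX, Module.End.mul_apply, hx, map_zero]
  obtain ⟨i, hi⟩ := IsAlgClosed.exists_pow_nat_eq (-1 : k) (n := 2) (by norm_num)
  rw [sq] at hi
  have p2 : Pm 2 := by decide
  have p4 : Pm 4 := by decide
  have p6 : Pm 6 := by decide
  have a24 := hγγ p2 p4 (by decide) (by decide)
  have a26 := hγγ p2 p6 (by decide) (by decide)
  have a46 := hγγ p4 p6 (by decide) (by decide)
  have hdim := four_dvd h2 hi (W := LinearMap.range Q) hA (hγ p2) (hγ p4) (hγ p6) (hr hAQ) (hr (hγQ p2))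
    (hr (hγQ p4)) (hr (hγQ p6)) (hγA p2).symm (hγA p4).symm (hγA p6).symm a24 a26 a46
  obtain ⟨m, hm⟩ := hdim
  have hrk := LinearMap.finrank_range_add_finrank_ker Q
  rw [hV] at hrk
  have hmle : m = 0 ∨ m = 1 ∨ m = 2 := by omega
  rcases hmle with rfl | rfl | rfl
  · have h0 : LinearMap.range Q = ⊥ := by
      apply Submodule.finrank_eq_zero.1
      omega
    rw [LinearMap.range_eq_bot] at h0
    rw [hQ] at h0
    exact eq_neg_of_add_eq_zero_left h0
  · exfalso
    have hkr : Module.finrank k (LinearMap.ker Q) = 4 := by omega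
    by_cases h3 : (3 : k) = 0
    · have hn : (A * B - 1) * (A * B - 1) = Q := by
        have h3' : (3 : k) • (A * B) = 0 := by rw [h3, zero_smul]
        rw [mul_sub, sub_mul, i1, mul_one, one_mul, hQ]
        have : A * B + B * A + 1 = B * A - A * B - (A * B - 1) + (3 : k) • (A * B) := by module
        rw [this, h3', add_zero]
      have hle1 : LinearMap.range (A * B - 1) ≤ LinearMap.ker Q := by
        rintro _ ⟨y, rfl⟩
        rw [LinearMap.mem_ker, ← Module.End.mul_apply, hQ1, LinearMap.zero_apply]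
      have hle2 : LinearMap.range Q ≤ LinearMap.range (A * B - 1) := by
        rintro _ ⟨y, rfl⟩
        exact ⟨(A * B - 1) y, by rw [← Module.End.mul_apply, hn]⟩
      have h4 := Submodule.finrank_mono hle1
      have heq := Submodule.eq_of_le_of_finrank_le hle2 (by omega)
      have hbot : LinearMap.range Q = ⊥ := by
        rw [eq_bot_iff]
        rintro _ ⟨y, rfl⟩
        have h5 : (A * B - 1) y ∈ LinearMap.range Q := by rw [heq]; exact ⟨y, rfl⟩
        obtain ⟨z, hz⟩ := h5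
        rw [Submodule.mem_bot, ← hn, Module.End.mul_apply, ← hz, ← Module.End.mul_apply, hQ2, LinearMap.zero_apply]
      rw [hbot, finrank_bot] at hm
      omega
    · obtain ⟨a, ha⟩ := IsAlgClosed.exists_pow_nat_eq (-3 : k) (n := 2) (by norm_num)
      rw [sq] at ha
      have ha0 : a ≠ 0 := by
        rintro rfl
        rw [mul_zero] at ha
        exact h3 (by linear_combination ha)
      set E : Module.End k V := A * B - B * A with hE
      have hEE : E * E = A * B + B * A - (2 : k) • 1 := by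
        rw [hE, mul_sub, sub_mul, sub_mul, i1, i2, i3, i4]
        module
      have hAE : E * A = -(A * E) := by
        rw [hE, mul_sub, sub_mul, ← mul_assoc A A B, hA, mul_assoc B A A, hA, ← mul_assoc A B A]
        simp only [one_mul, mul_one]
        abel
      have hγE : ∀ {v}, Pm v → E * γ v = γ v * E := by
        intro v hv
        rw [hE, mul_sub, sub_mul, hcm (hγA hv) (hγB hv), hcm (hγB hv) (hγA hv)]
      have hEQ : E * Q = Q * E := by
        rw [hE, hQ, mul_add, mul_add, sub_mul, sub_mul, mul_sub, add_mul, add_mul, add_mul, add_mul, i1, i2, i3, i4]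
        simp only [one_mul, mul_one]
        abel
      have hN := finrank_half' h2 (W := LinearMap.ker Q) (A := E) (B := A) ha0 one_ne_zero (hk hEQ) (hk hAQ)
        (fun x hx => by
          rw [← Module.End.mul_apply, hEE, ha]
          rw [LinearMap.mem_ker, hQ, LinearMap.add_apply, Module.End.one_apply] at hx
          rw [LinearMap.sub_apply, LinearMap.smul_apply, Module.End.one_apply, eq_neg_of_add_eq_zero_left hx]
          module)
        (fun x hx => by rw [← Module.End.mul_apply, hA, one_smul, Module.End.one_apply])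
        (fun x hx => by rw [← Module.End.mul_apply, hAE, LinearMap.neg_apply, Module.End.mul_apply])
      have hN2 : Module.finrank k (eig (LinearMap.ker Q) E a) = 2 := by omega
      have hinv : ∀ {v}, Pm v → ∀ x ∈ eig (LinearMap.ker Q) E a, γ v x ∈ eig (LinearMap.ker Q) E a := by
        intro v hv
        exact eig_inv (hk (hγQ hv)) (hγE hv)
      have rs : ∀ {v} (hv : Pm v), (γ v).restrict (hinv hv) * (γ v).restrict (hinv hv) = 1 := by
        intro v hv
        refine LinearMap.ext fun x => Subtype.ext ?_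
        show γ v (γ v x) = x
        rw [← Module.End.mul_apply, hγ hv, Module.End.one_apply]
      have ra : ∀ {v w} (hv : Pm v) (hw : Pm w), v ≠ w → om v w = false →
          An ((γ v).restrict (hinv hv)) ((γ w).restrict (hinv hw)) := by
        intro v w hv hw hvw ho
        refine LinearMap.ext fun x => Subtype.ext ?_
        show γ v (γ w x) = -(γ w (γ v x))
        rw [← Module.End.mul_apply, hγγ hv hw hvw ho, LinearMap.neg_apply, Module.End.mul_apply]
      have p16 : Pm 16 := by decide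
      have p32 : Pm 32 := by decide
      have p48 : Pm 48 := by decide
      have p18 : Pm 18 := by decide
      have p50 : Pm 50 := by decide
      have p20 : Pm 20 := by decide
      have p38 : Pm 38 := by decide
      exact no_rep h2 hN2 (rs p2) (rs p4) (rs p6) (ra p2 p4 (by decide) (by decide)) (ra p2 p6 (by decide) (by decide))
        (ra p4 p6 (by decide) (by decide)) (rs p16) (rs p32) (rs p48) (rs p18) (rs p50) (rs p20) (rs p38)
        (ra p16 p4 (by decide) (by decide)) (ra p32 p2 (by decide) (by decide)) (ra p48 p6 (by decide) (by decide))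
        (ra p18 p4 (by decide) (by decide)) (ra p50 p6 (by decide) (by decide)) (ra p20 p4 (by decide) (by decide))
        (ra p38 p2 (by decide) (by decide)) (ra p16 p32 (by decide) (by decide)) (ra p16 p48 (by decide) (by decide))
        (ra p32 p48 (by decide) (by decide)) (ra p18 p32 (by decide) (by decide)) (ra p18 p50 (by decide) (by decide))
        (ra p32 p50 (by decide) (by decide)) (ra p20 p38 (by decide) (by decide)) (ra p20 p50 (by decide) (by decide))
        (ra p38 p50 (by decide) (by decide)) (ra p16 p20 (by decide) (by decide))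
  · exfalso
    have h0 : LinearMap.range Q = ⊤ := Submodule.eq_top_of_finrank_eq (by omega)
    have h1 : A * B = 1 := by
      apply sub_eq_zero.1
      ext x
      have hx : x ∈ LinearMap.range Q := by rw [h0]; trivial
      obtain ⟨y, rfl⟩ := hx
      rw [← Module.End.mul_apply, hQ2, LinearMap.zero_apply, LinearMap.zero_apply]
    apply hne
    calc A = A * (B * B) := by rw [hB, mul_one]
      _ = B := by rw [← mul_assoc, h1, one_mul]

end core

end Cfsg.Agent.H916.SpEight
end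

-- part: H916/CliffTrace
section
/-!
# Traces of even words in operators with scalar anticommutators
-/

set_option autoImplicit false
set_option linter.unusedSectionVars false
set_option linter.unusedVariables false

namespace Cfsg.Agent.H916.CliffTrace

open TreeTrace

section perfect

variable {k V : Type*} [Field k] [AddCommGroup V] [Module k V] {ι : Type*} {S : ι → Module.End k V}

/-- a perfect group of scalar multiples of words consists of words of even length -/
theorem even_of_perfect {L : Type*} [Group L] (ρ : L →* Module.End k V) (hperf : commutator L = ⊤)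
    (hS : ∀ i, S i * S i = 1) (h : ∀ g, ∃ c : k, c ≠ 0 ∧ ∃ l, ρ g = c • pS S l) :
    ∀ g, ∃ l : List ι, Even l.length ∧ ρ g = pS S l := by
  let H : Subgroup L :=
    { carrier := {g | ∃ l : List ι, Even l.length ∧ ρ g = pS S l}
      mul_mem' := by
        rintro a b ⟨l, e, hl⟩ ⟨l', e', hl'⟩
        exact ⟨l ++ l', by rw [List.length_append]; exact e.add e', by rw [map_mul, hl, hl', pS_append]⟩
      one_mem' := ⟨[], ⟨0, rfl⟩, by rw [map_one]; rfl⟩
      inv_mem' := by
        rintro a ⟨l, e, hl⟩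
        exact ⟨l.reverse, by rw [List.length_reverse]; exact e,
          eq_rev hS (by rw [← hl, ← map_mul, inv_mul_cancel, map_one])⟩ }
  have hinv : ∀ {g : L} {c : k} {l : List ι}, c ≠ 0 → ρ g = c • pS S l → ρ g⁻¹ = c⁻¹ • pS S l.reverse := by
    intro g c l hc hg
    have h1 : ρ g⁻¹ * ρ g = 1 := by rw [← map_mul, inv_mul_cancel, map_one]
    rw [hg, mul_smul_comm, ← smul_mul_assoc] at h1
    have h2 := eq_rev hS h1
    rw [← h2, smul_smul, inv_mul_cancel₀ hc, one_smul]
  have hH : commutator L ≤ H := by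
    rw [commutator_def, Subgroup.commutator_le]
    intro a _ b _
    obtain ⟨c, hc, l, hl⟩ := h a
    obtain ⟨c', hc', l', hl'⟩ := h b
    refine ⟨l ++ l' ++ l.reverse ++ l'.reverse, ?_, ?_⟩
    · simp only [List.length_append, List.length_reverse]
      exact ⟨l.length + l'.length, by ring⟩
    rw [commutatorElement_def, map_mul, map_mul, map_mul, hinv hc hl, hinv hc' hl', hl, hl', pS_append, pS_append,
      pS_append]
    simp only [smul_mul_assoc, mul_smul_comm, smul_smul]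
    rw [show c'⁻¹ * (c⁻¹ * (c' * c)) = 1 by field_simp, one_smul]
  intro g
  have : g ∈ H := hH (by rw [hperf]; trivial)
  exact this

end perfect

section cliff

variable {k V : Type*} [Field k] [AddCommGroup V] [Module k V] {ι : Type*} {S : ι → Module.End k V}
  {c : ι → ι → k}

/-- moving a letter to the right -/
def mvR (S : ι → Module.End k V) (c : ι → ι → k) (i : ι) : List ι → List ι → Module.End k V
  | _, [] => 0
  | p, j :: l => c i j • pS S (p ++ l) - mvR S c i (p ++ [j]) l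

/-- moving a letter to the left, in the reversed word -/
def mvL (S : ι → Module.End k V) (c : ι → ι → k) (i : ι) : List ι → List ι → Module.End k V
  | _, [] => 0
  | p, j :: l => c i j • pS S (p ++ l).reverse - mvL S c i (p ++ [j]) l

theorem mvR_eq (h : ∀ i j, S i * S j + S j * S i = c i j • 1) (i : ι) (l : List ι) : ∀ p : List ι,
    pS S p * S i * pS S l = mvR S c i p l + (-1 : k) ^ l.length • (pS S (p ++ l) * S i) := by
  induction l with
  | nil =>
    intro p
    rw [mvR, pS, mul_one, List.append_nil, List.length_nil, pow_zero, one_smul, zero_add]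
  | cons j l ih =>
    intro p
    have h1 := ih (p ++ [j])
    have h2 : S i * S j = c i j • 1 - S j * S i := eq_sub_of_add_eq (h i j)
    rw [mvR, pS, List.length_cons, pow_succ]
    calc pS S p * S i * (S j * pS S l) = pS S p * (S i * S j) * pS S l := by simp only [mul_assoc]
      _ = c i j • (pS S p * pS S l) - (pS S p * S j) * S i * pS S l := by
        rw [h2, mul_sub, sub_mul, mul_smul_comm, mul_one, smul_mul_assoc]; simp only [mul_assoc]
      _ = c i j • pS S (p ++ l) - pS S (p ++ [j]) * S i * pS S l := by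
        rw [pS_append, pS_append, pS, pS, mul_one]
      _ = _ := by
        rw [h1, List.append_assoc, List.singleton_append, mul_neg_one, neg_smul]
        abel

theorem mvL_eq (h : ∀ i j, S i * S j + S j * S i = c i j • 1) (i : ι) (l : List ι) : ∀ p : List ι,
    pS S l.reverse * S i * pS S p.reverse = mvL S c i p l + (-1 : k) ^ l.length • (S i * pS S (p ++ l).reverse) := by
  induction l with
  | nil =>
    intro p
    rw [mvL, List.reverse_nil, pS, one_mul, List.append_nil, List.length_nil, pow_zero, one_smul, zero_add]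
  | cons j l ih =>
    intro p
    have h1 := ih (p ++ [j])
    have h2 : S j * S i = c i j • 1 - S i * S j := eq_sub_of_add_eq (by rw [add_comm]; exact h i j)
    rw [mvL, List.length_cons, pow_succ]
    calc pS S (j :: l).reverse * S i * pS S p.reverse = pS S l.reverse * (S j * S i) * pS S p.reverse := by
          rw [List.reverse_cons, pS_append, pS, pS, mul_one]; simp only [mul_assoc]
      _ = c i j • (pS S l.reverse * pS S p.reverse) - pS S l.reverse * S i * (S j * pS S p.reverse) := by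
        rw [h2, mul_sub, sub_mul, mul_smul_comm, mul_one, smul_mul_assoc]; simp only [mul_assoc]
      _ = c i j • pS S (p ++ l).reverse - pS S l.reverse * S i * pS S (p ++ [j]).reverse := by
        rw [List.reverse_append, pS_append, List.reverse_append, pS_append, List.reverse_singleton, pS, pS, mul_one]
      _ = _ := by
        rw [h1, List.append_assoc, List.singleton_append, mul_neg_one, neg_smul]
        abel

variable (K : Subfield k)

/-- **Traces of even words.** -/
theorem trace_even (h2 : (2 : k) ≠ 0) (h : ∀ i j, S i * S j + S j * S i = c i j • 1) (hc : ∀ i j, c i j ∈ K)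
    (h1 : LinearMap.trace k V 1 ∈ K) (n : ℕ) : ∀ l : List ι, l.length = 2 * n →
    LinearMap.trace k V (pS S l) ∈ K ∧ LinearMap.trace k V (pS S l.reverse) = LinearMap.trace k V (pS S l) := by
  induction n with
  | zero =>
    intro l hl
    obtain rfl := List.length_eq_zero_iff.1 hl
    exact ⟨h1, rfl⟩
  | succ n ih =>
    intro l hl
    obtain ⟨i, l, rfl⟩ : ∃ i l', l = i :: l' := by
      cases l with
      | nil => simp at hl
      | cons i l => exact ⟨i, l, rfl⟩
    rw [List.length_cons] at hl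
    have key : ∀ (m p : List ι), p.length + m.length = 2 * n + 1 →
        LinearMap.trace k V (mvR S c i p m) ∈ K ∧
        LinearMap.trace k V (mvL S c i p m) = LinearMap.trace k V (mvR S c i p m) := by
      intro m
      induction m with
      | nil => intro p _; rw [mvR, mvL, map_zero]; exact ⟨K.zero_mem, rfl⟩
      | cons j m ihm =>
        intro p hp
        rw [List.length_cons] at hp
        obtain ⟨a1, a2⟩ := ih (p ++ m) (by rw [List.length_append]; omega)
        obtain ⟨b1, b2⟩ := ihm (p ++ [j]) (by rw [List.length_append, List.length_singleton]; omega)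
        rw [mvR, mvL, map_sub, map_sub, map_smul, map_smul, a2, b2]
        exact ⟨K.sub_mem (K.mul_mem (hc i j) a1) b1, rfl⟩
    obtain ⟨k1, k2⟩ := key l [] (by rw [List.length_nil]; omega)
    have hodd : (-1 : k) ^ l.length = -1 := Odd.neg_one_pow ⟨n, by omega⟩
    have e1 := mvR_eq h i l []
    have e2 := mvL_eq h i l []
    rw [pS, one_mul, List.nil_append, hodd, neg_one_smul] at e1
    rw [List.reverse_nil, pS, mul_one, List.nil_append, hodd, neg_one_smul] at e2
    have t1 := congrArg (LinearMap.trace k V) e1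
    have t2 := congrArg (LinearMap.trace k V) e2
    rw [map_add, map_neg, LinearMap.trace_mul_comm k (pS S l) (S i)] at t1
    rw [map_add, map_neg, LinearMap.trace_mul_comm k (S i) (pS S l.reverse)] at t2
    have q1 : LinearMap.trace k V (pS S (i :: l)) = 2⁻¹ * LinearMap.trace k V (mvR S c i [] l) := by
      rw [pS, eq_inv_mul_iff_mul_eq₀ h2]
      linear_combination t1
    have q2 : LinearMap.trace k V (pS S (i :: l).reverse) = 2⁻¹ * LinearMap.trace k V (mvL S c i [] l) := by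
      rw [List.reverse_cons, pS_append, pS, pS, mul_one, eq_inv_mul_iff_mul_eq₀ h2]
      linear_combination t2
    rw [q1, q2, k2]
    exact ⟨K.mul_mem (K.inv_mem (ofNat_mem K 2)) k1, rfl⟩

end cliff

end Cfsg.Agent.H916.CliffTrace
end

-- part: H916/SpEightB
section
/-!
# `Sp₆(2)` in dimension eight: traces in the prime field, self-duality
-/

set_option autoImplicit false
set_option linter.unusedSectionVars false
set_option linter.unusedVariables false

namespace Cfsg.Agent.H916.SpEight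

open SpSix Halving Pauli TreeTrace CliffTrace Cfsg Cfsg.Geo Cfsg.Agent.H915.LD Matrix

section na

variable {T k V : Type*} [Group T] [Field k] [AddCommGroup V] [Module k V] (R : PRep T k V)

/-- involutive lifts have anticommutator `± 1` -/
def NA (s t : T) : Prop :=
  ∀ A ∈ R.L s, ∀ B ∈ R.L t, A * A = 1 → B * B = 1 → A * B + B * A = 1 ∨ A * B + B * A = -1

theorem NA.of [Nontrivial V] {s t : T} {A B : Module.End k V} (hA : A ∈ R.L s) (hB : B ∈ R.L t) (hA2 : A * A = 1)
    (hB2 : B * B = 1) (h : A * B + B * A = 1 ∨ A * B + B * A = -1) : NA R s t := by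
  intro A' hA' B' hB' hA2' hB2'
  rcases R.unique hA' hA hA2' hA2 with rfl | rfl <;> rcases R.unique hB' hB hB2' hB2 with rfl | rfl
  · exact h
  · rw [mul_neg, neg_mul, ← neg_add]
    rcases h with h | h
    · right; rw [h]
    · left; rw [h, neg_neg]
  · rw [mul_neg, neg_mul, ← neg_add]
    rcases h with h | h
    · right; rw [h]
    · left; rw [h, neg_neg]
  · rw [neg_mul_neg, neg_mul_neg]
    exact h

theorem NA.conj [IsAlgClosed k] {x s t : T} (hx : x * x = 1) (h : NA R (x * s * x) (x * t * x)) : NA R s t := by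
  intro A hA B hB hA2 hB2
  obtain ⟨X, hX, hX2⟩ := R.exists_inv hx
  have hs : ∀ {Y : Module.End k V}, Y * Y = 1 → (X * Y * X) * (X * Y * X) = 1 := by
    intro Y hY
    calc (X * Y * X) * (X * Y * X) = X * Y * (X * X) * Y * X := by simp only [mul_assoc]
      _ = X * (Y * Y) * X := by rw [hX2, mul_one]; simp only [mul_assoc]
      _ = 1 := by rw [hY, mul_one, hX2]
  have h1 := h _ (R.mul (R.mul hX hA) hX) _ (R.mul (R.mul hX hB) hX) (hs hA2) (hs hB2)
  have h2 : (X * A * X) * (X * B * X) + (X * B * X) * (X * A * X) = X * (A * B + B * A) * X := by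
    have : ∀ Y Z : Module.End k V, (X * Y * X) * (X * Z * X) = X * (Y * Z) * X := by
      intro Y Z
      calc (X * Y * X) * (X * Z * X) = X * Y * (X * X) * Z * X := by simp only [mul_assoc]
        _ = _ := by rw [hX2, mul_one]; simp only [mul_assoc]
    rw [this, this, ← add_mul, ← mul_add]
  have h3 : A * B + B * A = X * (X * (A * B + B * A) * X) * X := by
    calc A * B + B * A = (X * X) * (A * B + B * A) * (X * X) := by rw [hX2, mul_one, one_mul]
      _ = _ := by simp only [mul_assoc]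
  rw [h2] at h1
  rcases h1 with h1 | h1
  · left; rw [h3, h1, mul_one, hX2]
  · right; rw [h3, h1, mul_neg, mul_one, neg_mul, hX2]

end na

section paths

def toEight (w : ℕ) : List ℕ :=
  if w = 8 then [] else if om 8 w then [8 ^^^ w] else
    [w ^^^ fz (fun z => om z 1 && (om z 8 && om z w)), fz (fun z => om z 1 && (om z 8 && om z w)) ^^^ 8]

def pth8 (v w : ℕ) : List ℕ := toOne v ++ toEight (act (toOne v) w)

private theorem om_x (a b c : ℕ) : om a (b ^^^ c) = (om a b ^^ om a c) := by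
  have key : ∀ x y z w y' w' : Bool, ((x && (y ^^ y')) ^^ (z && (w ^^ w'))) =
    (((x && y) ^^ (z && w)) ^^ ((x && y') ^^ (z && w'))) := by decide
  have key2 : ∀ x y z x' y' z' : Bool, (((x ^^ x') ^^ (y ^^ y')) ^^ (z ^^ z')) = (((x ^^ y) ^^ z) ^^ ((x' ^^ y') ^^ z')) := by
    decide
  unfold om
  simp only [Nat.testBit_xor]
  rw [key (a.testBit 0), key (a.testBit 1), key (a.testBit 2), key2]

private theorem om_s (a : ℕ) : om a a = false := by
  have key : ∀ x y : Bool, ((x && y) ^^ (y && x)) = false := by decide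
  unfold om
  rw [key, key, key]
  rfl

private theorem om_r (x a b : ℕ) : om (rf x a) (rf x b) = om a b := by
  unfold rf
  cases h1 : om x a <;> cases h2 : om x b
  · rfl
  · exact (om_x a x b).trans (by rw [om_comm a x, h1, Bool.false_xor])
  · exact (om_comm _ b).trans ((om_x b x a).trans (by rw [om_comm b x, h2, Bool.false_xor, om_comm]))
  · refine (om_x (x ^^^ a) x b).trans ?_
    rw [om_comm _ x, om_comm _ b, om_x, om_x, om_s, h1, om_comm b x, h2, om_comm b a]
    cases om a b <;> rfl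

private theorem om_a : ∀ (l : List ℕ) (a b : ℕ), om (act l a) (act l b) = om a b
  | [], _, _ => rfl
  | x :: l, a, b => (om_a l _ _).trans (om_r x a b)

private theorem act_l : ∀ (l : List ℕ) (a : ℕ), l.all (fun x => decide (0 < x ∧ x < 64)) = true → a < 64 → act l a < 64
  | [], _, _, h => h
  | x :: l, a, h, ha => by
    rw [List.all_cons, Bool.and_eq_true] at h
    exact act_l l _ h.2 (rf_lt (of_decide_eq_true h.1).2 ha)

private theorem act_ap : ∀ (l m : List ℕ) (a : ℕ), act (l ++ m) a = act m (act l a)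
  | [], _, _ => rfl
  | x :: l, m, a => act_ap l m (rf x a)

theorem pth8_ok : ∀ v w : Fin 64, v ≠ 0 → w ≠ 0 → om v w = true →
    act (pth8 v w) v = 1 ∧ act (pth8 v w) w = 8 ∧ (pth8 v w).all (fun x => decide (0 < x ∧ x < 64)) = true := by
  have key : ∀ u < 64, om 1 u = true → act (toEight u) 1 = 1 ∧ act (toEight u) u = 8 ∧
      (toEight u).all (fun x => decide (0 < x ∧ x < 64)) = true := by decide +kernel
  intro v w hv _ h
  obtain ⟨h1, h2⟩ := toOne_ok v hv
  obtain ⟨h3, h4, h5⟩ := key _ (act_l _ _ h2 w.2) (by rw [← h, ← om_a (toOne v) v w, h1])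
  unfold pth8
  rw [act_ap, act_ap, h1, List.all_append, h2, h5]
  exact ⟨h3, h4, rfl⟩

end paths

section Sp

variable {T k V : Type*} [Group T] [Field k] [IsAlgClosed k] [AddCommGroup V] [Module k V] (R : PRep T k V)
  {t : ℕ → T} (D : SpData t)

include D

theorem na_path (l : List ℕ) (hl : ∀ x ∈ l, 0 < x ∧ x < 64) : ∀ {v w : ℕ}, 0 < v → v < 64 → 0 < w →
    w < 64 → NA R (t (act l v)) (t (act l w)) → NA R (t v) (t w) := by
  induction l with
  | nil => intro v w _ _ _ _ h; exact h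
  | cons x l ih =>
    intro v w hv0 hv hw0 hw h
    obtain ⟨hx0, hx⟩ := hl x List.mem_cons_self
    apply NA.conj R (D.sq hx0 hx)
    rw [D.cj hx0 hx hv0 hv, D.cj hx0 hx hw0 hw]
    exact ih (fun y hy => hl y (List.mem_cons_of_mem _ hy)) (rf_pos hv0) (rf_lt hx hv) (rf_pos hw0)
      (rf_lt hx hw) h

theorem ne_of_anti [Nontrivial V] (h2 : (2 : k) ≠ 0) (hc : R.AntiL (t 1) (t 2)) : t 1 ≠ t 8 := by
  intro h
  have h1 := D.cj (v := 3) (w := 1) (by norm_num) (by norm_num) (by norm_num) (by norm_num)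
  have h3 := D.cj (v := 3) (w := 8) (by norm_num) (by norm_num) (by norm_num) (by norm_num)
  have h4 := D.cj (v := 5) (w := 1) (by norm_num) (by norm_num) (by norm_num) (by norm_num)
  have h5 := D.cj (v := 5) (w := 8) (by norm_num) (by norm_num) (by norm_num) (by norm_num)
  rw [show rf 3 1 = 1 from rfl] at h1
  rw [show rf 3 8 = 11 from rfl, ← h, h1] at h3
  rw [show rf 5 1 = 1 from rfl] at h4
  rw [show rf 5 8 = 13 from rfl, ← h, h4] at h5
  obtain ⟨A, hA, hA2⟩ := R.exists_inv (D.sq (v := 11) (by norm_num) (by norm_num))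
  have h6 := D.anti_all R hc (v := 11) (w := 13) (by norm_num) (by norm_num) (by norm_num) (by norm_num)
    (by norm_num) rfl A hA A (by rw [← h5, h3]; exact hA)
  rw [hA2] at h6
  have h7 : (2 : k) • (1 : Module.End k V) = (0 : k) • 1 := by
    rw [two_smul, zero_smul]
    nth_rewrite 1 [h6]
    abel
  exact h2 (smul_one_inj h7)

/-- **The anticommutators.** -/
theorem na_all [FiniteDimensional k V] (h2 : (2 : k) ≠ 0) (hV : Module.finrank k V = 8)
    (hc : R.AntiL (t 1) (t 2)) {v w : ℕ} (hv0 : 0 < v) (hv : v < 64) (hw0 : 0 < w) (hw : w < 64)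
    (ho : om v w = true) : NA R (t v) (t w) := by
  have : Nontrivial V := Module.nontrivial_of_finrank_pos (R := k) (by rw [hV]; norm_num)
  obtain ⟨q1, q2, q3⟩ := pth8_ok ⟨v, hv⟩ ⟨w, hw⟩ (by rw [Ne, Fin.ext_iff]; simp; omega)
    (by rw [Ne, Fin.ext_iff]; simp; omega) ho
  simp only at q1 q2 q3
  rw [List.all_eq_true] at q3
  apply na_path R D (pth8 v w) (fun x hx => by simpa using q3 x hx) hv0 hv hw0 hw
  rw [q1, q2]
  obtain ⟨A, hA, hA2⟩ := R.exists_inv (D.sq (v := 1) (by norm_num) (by norm_num))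
  obtain ⟨B, hB, hB2, hbr⟩ := D.next R (v := 1) (w := 8) (by norm_num) (by norm_num) (by norm_num) (by norm_num)
    rfl rfl hA hA2
  have hex : ∀ v : ℕ, ∃ X : Module.End k V, Pm v → X ∈ R.L (t v) ∧ X * X = 1 := by
    intro v
    by_cases hv : Pm v
    · obtain ⟨X, h1, h3⟩ := R.exists_inv (D.sq hv.1.1 hv.1.2)
      exact ⟨X, fun _ => ⟨h1, h3⟩⟩
    · exact ⟨1, fun h => absurd h hv⟩
  choose γ hγ using hex
  have o1 : ∀ {v}, Pm v → v ≠ 1 := by
    rintro v hv rfl
    exact absurd hv.2.2 (by decide)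
  have o8 : ∀ {v}, Pm v → v ≠ 8 := by
    rintro v hv rfl
    exact absurd hv.2.1 (by decide)
  apply NA.of R hA hB hA2 hB2
  right
  apply anticomm h2 hV hA2 hB2 hbr _ (fun hv => (hγ _ hv).2)
    (fun {v} hv => D.anti_all R hc hv.1.1 hv.1.2 (by norm_num) (by norm_num) (o1 hv)
      (by rw [om_comm]; exact hv.2.1) _ (hγ _ hv).1 _ hA)
    (fun {v} hv => D.anti_all R hc hv.1.1 hv.1.2 (by norm_num) (by norm_num) (o8 hv)
      (by rw [om_comm]; exact hv.2.2) _ (hγ _ hv).1 _ hB)
    (fun {v w} hv hw hvw ho => D.anti_all R hc hv.1.1 hv.1.2 hw.1.1 hw.1.2 hvw ho _ (hγ _ hv).1 _ (hγ _ hw).1)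
  rintro rfl
  apply ne_of_anti R D h2 hc
  have h3 := R.mul hA hB
  rw [hA2, ← one_smul k (1 : Module.End k V)] at h3
  have h4 := R.inj h3
  have h5 := D.sq (v := 1) (by norm_num) (by norm_num)
  exact (mul_left_cancel (h4.trans h5.symm)).symm

end Sp

end Cfsg.Agent.H916.SpEight
end

-- part: H916/SpEightC
section
/-!
# Cores with simple group `Sp₆(2)` in dimension eight (and odd characteristic): self-dual, over the prime field
-/

set_option autoImplicit false
set_option linter.unusedSectionVars false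
set_option linter.unusedVariables false

namespace Cfsg.Agent.H916.SpEight

open SpSix Halving Pauli TreeTrace CliffTrace Cfsg Cfsg.Geo Cfsg.Agent.H915.LD Matrix

universe u v

variable {ι : Type} [Fintype ι] [DecidableEq ι] {F : Type u} [Field F] {P : Subgroup (GL ι F)}

/-- traces in the prime field, and self-dual -/
theorem of_bot {p : ℕ} [_root_.Fact p.Prime] [CharP F p]
    (h : ∀ g ∈ P, algebraMap F (AlgebraicClosure F) (tr g) ∈ (⊥ : Subfield (AlgebraicClosure F)) ∧ tr g⁻¹ = tr g) :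
    SD P ∧ Fr P p := by
  refine ⟨fun g hg => (h g hg).2, fun g hg => ?_⟩
  have : CharP (AlgebraicClosure F) p := charP_of_injective_algebraMap (algebraMap F (AlgebraicClosure F)).injective p
  have h1 : (⊥ : Subfield (AlgebraicClosure F)) ≤ (frobenius (AlgebraicClosure F) p).eqLocusField (RingHom.id _) :=
    bot_le
  have h2 := h1 (h g hg).1
  rw [RingHom.mem_eqLocusField, frobenius_def, RingHom.id_apply, ← map_pow] at h2
  exact (algebraMap F (AlgebraicClosure F)).injective h2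

variable {T : Type v} [Group T]

/-- the word property for a family of lifts of generating involutions -/
theorem word_of_gen {κ : Type*} {k V : Type*} [Field k] [AddCommGroup V] [Module k V] (R : PRep T k V)
    {S : κ → Module.End k V} {s : κ → T} (hS : ∀ i, S i ∈ R.L (s i)) (hS2 : ∀ i, S i * S i = 1)
    (gen : Subgroup.closure (Set.range s) = ⊤) (x : T) : ∃ l : List κ, pS S l ∈ R.L x := by
  have hs : x ∈ Subgroup.closure (Set.range s) := by rw [gen]; trivial
  have hone : (1 : Module.End k V) ∈ R.L 1 := by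
    obtain ⟨A, hA⟩ := R.ex 1
    obtain ⟨c, hc, rfl⟩ := R.one hA
    have := R.smul (inv_ne_zero hc) hA
    rwa [smul_smul, inv_mul_cancel₀ hc, one_smul] at this
  induction hs using Subgroup.closure_induction with
  | mem x hx =>
    obtain ⟨i, rfl⟩ := hx
    exact ⟨[i], by rw [pS, pS, mul_one]; exact hS i⟩
  | one => exact ⟨[], hone⟩
  | mul x y _ _ hx hy =>
    obtain ⟨l, hl⟩ := hx
    obtain ⟨l', hl'⟩ := hy
    exact ⟨l ++ l', by rw [pS_append]; exact R.mul hl hl'⟩
  | inv x _ hx =>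
    obtain ⟨l, hl⟩ := hx
    refine ⟨l.reverse, ?_⟩
    obtain ⟨B, hB⟩ := R.ex x⁻¹
    have h1 := R.mul hB hl
    rw [inv_mul_cancel] at h1
    obtain ⟨c, hc, h1⟩ := R.one h1
    have h2 : c⁻¹ • B = pS S l.reverse := by
      apply eq_rev hS2
      rw [smul_mul_assoc, h1, smul_smul, inv_mul_cancel₀ hc, one_smul]
    rw [← h2]
    exact R.smul (inv_ne_zero hc) hB

/-- the masks -/
abbrev Mk : Type := {v : ℕ // 0 < v ∧ v < 64}

/-- scalar anticommutators in the prime field -/
theorem scal_of_anti {k V : Type*} [Field k] [IsAlgClosed k] [AddCommGroup V] [Module k V] [FiniteDimensional k V]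
    (R : PRep T k V) {t : ℕ → T} (D : SpData t) (h2 : (2 : k) ≠ 0) (hV : Module.finrank k V = 8)
    (hc : R.AntiL (t 1) (t 2)) {S : Mk → Module.End k V} (hS : ∀ i : Mk, S i ∈ R.L (t i)) (hS2 : ∀ i, S i * S i = 1)
    (i j : Mk) : ∃ c : k, c ∈ (⊥ : Subfield k) ∧ S i * S j + S j * S i = c • 1 := by
  by_cases hij : i = j
  · subst hij
    exact ⟨2, ofNat_mem _ 2, by rw [hS2, two_smul]⟩
  · by_cases ho : om i j = true
    · rcases na_all R D h2 hV hc i.2.1 i.2.2 j.2.1 j.2.2 ho _ (hS i) _ (hS j) (hS2 i) (hS2 j) with h | h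
      · exact ⟨1, one_mem _, by rw [h, one_smul]⟩
      · exact ⟨-1, neg_mem (one_mem _), by rw [h, neg_one_smul]⟩
    · rw [Bool.not_eq_true] at ho
      refine ⟨0, zero_mem _, ?_⟩
      rw [D.anti_all R hc i.2.1 i.2.2 j.2.1 j.2.2 (fun h => hij (Subtype.ext h)) ho _ (hS i) _ (hS j), zero_smul]
      abel

theorem core_eight (hC : Core P) (e : Soc P ≃* T) {t : ℕ → T} (D : SpData t)
    (gen : Subgroup.closure {x | ∃ v, 0 < v ∧ v < 64 ∧ x = t v} = ⊤) (h2 : (2 : F) ≠ 0)
    (hn : Fintype.card ι = 8) (hc : (coreRep hC e).AntiL (t 1) (t 2)) :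
    ∀ g ∈ P, algebraMap F (AlgebraicClosure F) (tr g) ∈ (⊥ : Subfield (AlgebraicClosure F)) ∧ tr g⁻¹ = tr g := by
  have : Nonempty ι := hC.nonempty
  have h2' : (2 : AlgebraicClosure F) ≠ 0 := by
    intro h
    apply h2
    apply (algebraMap F (AlgebraicClosure F)).injective
    rw [map_zero, map_ofNat, h]
  have hV : Module.finrank (AlgebraicClosure F) (ι → AlgebraicClosure F) = 8 := by
    rw [Module.finrank_fintype_fun_eq_card]; exact hn
  choose S hS hS2 using fun i : Mk => (coreRep hC e).exists_inv (D.sq i.2.1 i.2.2)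
  have hgen : Subgroup.closure (Set.range fun i : Mk => t i) = ⊤ := by
    rw [eq_top_iff, ← gen]
    apply Subgroup.closure_mono
    rintro x ⟨v, h0, h, rfl⟩
    exact ⟨⟨v, h0, h⟩, rfl⟩
  have hw := word_of_gen (coreRep hC e) hS hS2 hgen
  have hexact := even_of_perfect (H911.Five.rep P) hC.commutator_top hS2 (fun g => by
    obtain ⟨l, hl⟩ := hw (e (toSoc P g))
    obtain ⟨c, hc, h⟩ := (coreRep hC e).prop_of (mem_coreRep hC e g) hl
    exact ⟨c, hc, l, h⟩)
  have hcc := scal_of_anti (coreRep hC e) D h2' hV hc hS hS2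
  choose c hc1 hc2 using hcc
  have h1 : LinearMap.trace (AlgebraicClosure F) (ι → AlgebraicClosure F) 1 ∈ (⊥ : Subfield (AlgebraicClosure F)) := by
    rw [LinearMap.trace_one]
    exact natCast_mem _ _
  intro g hg
  obtain ⟨l, ⟨m, hm⟩, hl⟩ := hexact ⟨g, hg⟩
  obtain ⟨z1, z2⟩ := trace_even (⊥ : Subfield (AlgebraicClosure F)) h2' hc2 hc1 h1 m l (by omega)
  have hinv : H911.Five.rep P (⟨g, hg⟩ : P)⁻¹ = pS S l.reverse :=
    eq_rev hS2 (by rw [← hl, ← map_mul, inv_mul_cancel, map_one])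
  refine ⟨?_, ?_⟩
  · rw [← tr_rep ⟨g, hg⟩, hl]
    exact z1
  · apply (algebraMap F (AlgebraicClosure F)).injective
    have := tr_rep (⟨g, hg⟩ : P)⁻¹
    rw [Subgroup.coe_inv] at this
    rw [← this, hinv, z2, ← hl, tr_rep]

/-- **`Sp₆(2)` in dimension 8: self-dual, over the prime field.** -/
theorem spSix_eight {K : Type v} [Field K] (hK : ∀ x : K, x = 0 ∨ x = 1) (hC : Core P) (p : ℕ)
    [_root_.Fact p.Prime] [CharP F p] (e : Soc P ≃* PSp 3 K) (h2 : (2 : F) ≠ 0)
    (hn : Fintype.card ι = 8) : SD P ∧ Fr P p := by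
  rcases core_sp hC e (spData hK) (spGen hK) h2 (by omega) with h | h
  · omega
  · exact of_bot (core_eight hC e (spData hK) (spGen hK) h2 hn h.2)

end Cfsg.Agent.H916.SpEight
end

-- part: H916/OmE
section
/-!
# `Ω₈⁺(2)` in dimension eight, the anticommuting case: normalised lifts
-/

set_option autoImplicit false
set_option linter.unusedSectionVars false
set_option linter.unusedVariables false

namespace Cfsg.Agent.H916.Om

open SpSix SpEight Halving Pauli TreeTrace CliffTrace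

section masks

def okz (z n : ℕ) : Bool := !(bf n z) && !(decide (z = n))

def candz : List ℕ := (List.range 256).filter fun z => decide (ns z) && okz z n0

def nsl : List ℕ := (List.range 256).filter fun z => decide (ns z)

def chkz : Bool := nsl.all fun n => (candz.filter fun z => okz z n) |> fun l => nsl.all fun m => l.any fun z => okz z m

private def zm (b : Bool) (i : ℕ) : ℕ :=
  Bool.rec 0 (Nat.mod (Nat.shiftRight 0xffffffffffffffffffffffffffffffff00000000000000000000000000000000ffffffffffffffff0000000000000000ffffffffffffffff0000000000000000ffffffff00000000ffffffff00000000ffffffff00000000ffffffff00000000ffff0000ffff0000ffff0000ffff0000ffff0000ffff0000ffff0000ffff0000ff00ff00ff00ff00ff00ff00ff00ff00ff00ff00ff00ff00ff00ff00ff00ff00f0f0f0f0f0f0f0f0f0f0f0f0f0f0f0f0f0f0f0f0f0f0f0f0f0f0f0f0f0f0f0f0ccccccccccccccccccccccccccccccccccccccccccccccccccccccccccccccccaaaaaaaaaaaaaaaaaaaaaaaaaaaaaaaaaaaaaaaaaaaaaaaaaaaaaaaaaaaaaaaa (Nat.mul 256 i)) (Nat.pow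 2 256)) b

private theorem zm_bit (b : Bool) (i : ℕ) (hi : i < 8) (w : ℕ) : (zm b i).testBit (w % 256) = (b && w.testBit i) := by
  have h : ∀ i < 8, ∀ z < 256, (zm true i).testBit z = z.testBit i := by decide +kernel
  cases b
  · exact Nat.zero_testBit _
  · rw [h i hi _ (Nat.mod_lt _ (by decide)), show 256 = 2 ^ 8 from rfl, Nat.testBit_mod_two_pow, decide_eq_true hi]

private def bm (v : ℕ) : ℕ :=
  Nat.xor (Nat.xor (Nat.xor (zm (v.testBit 0) 4) (zm (v.testBit 4) 0)) (Nat.xor (zm (v.testBit 1) 5) (zm (v.testBit 5) 1))) (Nat.xor (Nat.xor (zm (v.testBit 2) 6) (zm (v.testBit 6) 2)) (Nat.xor (zm (v.testBit 3) 7) (zm (v.testBit 7) 3)))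

private theorem bm_bit (v w : ℕ) : (bm v).testBit (w % 256) = bf v w := by
  have e : ∀ x y : ℕ, Nat.xor x y = x ^^^ y := fun _ _ => rfl
  unfold bm bf
  simp only [e, Nat.testBit_xor]
  rw [zm_bit _ 0 (by decide), zm_bit _ 1 (by decide), zm_bit _ 2 (by decide), zm_bit _ 3 (by decide),
    zm_bit _ 4 (by decide), zm_bit _ 5 (by decide), zm_bit _ 6 (by decide), zm_bit _ 7 (by decide)]

private def frcO {α : Type} (x : ℕ) (f : ℕ → α) : α := Nat.rec (f 0) (fun k _ => f k) (Nat.succ x)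

theorem chkz_ok : chkz = true := by
  have hb : ∀ n z, z < 256 → (bm n).testBit z = bf n z := fun n z hz =>
    (congrArg (bm n).testBit (Nat.mod_eq_of_lt hz)).symm.trans (bm_bit n z)
  obtain ⟨C, hC, hc, h⟩ : ∃ C : ℕ, C < 2 ^ 256 ∧ (∀ z < 256, C.testBit z = true → (decide (ns z) && okz z n0) = true) ∧
      (nsl.all fun n => frcO (Nat.land C (Nat.xor C (Nat.lor (bm n) (Nat.pow 2 n)))) fun X => nsl.all fun m =>
        !(Nat.beq (Nat.land X (Nat.xor X (Nat.lor (bm m) (Nat.pow 2 m)))) 0)) = true :=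
    ⟨0x6900c300a5000f00990033005500fe000096003c005a00f0006600cc00aa0000, by decide +kernel, by decide +kernel, by decide +kernel⟩
  have hx : ∀ X n z : ℕ, z < 256 → (X &&& (X ^^^ (bm n ||| 2 ^ n))).testBit z = true → X.testBit z = true ∧ okz z n = true := by
    intro X n z hz h
    rw [Nat.testBit_and, Nat.testBit_xor, Nat.testBit_or, hb n z hz, Nat.testBit_two_pow, Bool.and_eq_true] at h
    refine ⟨h.1, ?_⟩
    have h2 := h.2
    rw [h.1, Bool.true_xor, Bool.not_or, decide_eq_decide.2 (eq_comm (a := n) (b := z))] at h2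
    exact h2
  refine List.all_eq_true.2 fun n hn => List.all_eq_true.2 fun m hm => ?_
  have h1 : (!(Nat.beq (C &&& (C ^^^ (bm n ||| 2 ^ n)) &&& (C &&& (C ^^^ (bm n ||| 2 ^ n)) ^^^ (bm m ||| 2 ^ m))) 0)) = true :=
    List.all_eq_true.1 (List.all_eq_true.1 h n hn) m hm
  obtain ⟨z, hz⟩ := Nat.exists_testBit_of_ne_zero (Nat.ne_of_beq_eq_false ((Bool.not_eq_true' _).mp h1))
  have hz' : z < 256 := by
    by_contra hc
    rw [Nat.testBit_lt_two_pow (lt_of_lt_of_le (lt_of_le_of_lt (Nat.and_le_left.trans Nat.and_le_left) hC)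
      (Nat.pow_le_pow_right (by decide) (not_lt.1 hc)))] at hz
    exact Bool.noConfusion hz
  obtain ⟨h2, h3⟩ := hx _ m z hz' hz
  obtain ⟨h4, h5⟩ := hx _ n z hz' h2
  exact List.any_eq_true.2 ⟨z, List.mem_filter.2 ⟨List.mem_filter.2 ⟨List.mem_range.2 hz', hc z hz' h4⟩, h5⟩, h3⟩

theorem mem_nsl {n : ℕ} (hn : ns n) : n ∈ nsl := by
  rw [nsl, List.mem_filter]
  exact ⟨List.mem_range.2 hn.1, decide_eq_true hn⟩

/-- a common orthogonal mask -/
theorem exists_z {n m : ℕ} (hn : ns n) (hm : ns m) :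
    ∃ z, ns z ∧ (bf n0 z = false ∧ z ≠ n0) ∧ (bf n z = false ∧ z ≠ n) ∧ (bf m z = false ∧ z ≠ m) := by
  have h := chkz_ok
  rw [chkz, List.all_eq_true] at h
  have h1 := h n (mem_nsl hn)
  rw [List.all_eq_true] at h1
  have h2 := h1 m (mem_nsl hm)
  rw [List.any_eq_true] at h2
  obtain ⟨z, hz, h3⟩ := h2
  rw [List.mem_filter, candz, List.mem_filter] at hz
  simp only [okz, Bool.and_eq_true, Bool.not_eq_true', decide_eq_true_eq, decide_eq_false_iff_not] at hz h3
  exact ⟨z, hz.1.2.1, hz.1.2.2, hz.2, h3⟩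

theorem rr_move {a b : ℕ} (ha : ns a) (hb : ns b) (h : bf a b = true) : ns (a ^^^ b) ∧ rr (a ^^^ b) a = b := by
  refine ⟨⟨Nat.xor_lt_two_pow (n := 8) ha.1 hb.1, by rw [qf_xor, ha.2, hb.2, h]; rfl⟩, ?_⟩
  rw [rr_of_not (by rw [bf_comm, bf_xor, bf_self, h]; rfl), Nat.xor_comm a b, Nat.xor_assoc, Nat.xor_self,
    Nat.xor_zero]

theorem exists_move {n : ℕ} (hn : ns n) : ∃ x y, ns x ∧ ns y ∧ rr x (rr y n0) = n := by
  by_cases h : n = n0
  · exact ⟨n0, n0, ns_n0, ns_n0, by rw [rr_self, rr_self, h]⟩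
  cases h1 : bf n0 n
  · obtain ⟨z, hz, h2, h3⟩ := exists_mid ⟨n0, ns_n0.1⟩ ⟨n, hn.1⟩ ns_n0 hn h1
    obtain ⟨a1, a2⟩ := rr_move ns_n0 hz h2
    obtain ⟨b1, b2⟩ := rr_move hz hn h3
    exact ⟨_, _, b1, a1, by rw [a2, b2]⟩
  · obtain ⟨a1, a2⟩ := rr_move ns_n0 hn h1
    exact ⟨_, n0, a1, ns_n0, by rw [rr_self, a2]⟩

end masks

section PR

variable {T k V : Type*} [Group T] [Field k] [AddCommGroup V] [Module k V] (R : PRep T k V)

theorem exists_unit (g : T) : ∃ G ∈ R.L g, ∃ G' ∈ R.L g⁻¹, G * G' = 1 ∧ G' * G = 1 := by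
  obtain ⟨G, hG⟩ := R.ex g
  obtain ⟨G0, hG0⟩ := R.ex g⁻¹
  have h1 := R.mul hG0 hG
  rw [inv_mul_cancel] at h1
  have h2 := R.mul hG hG0
  rw [mul_inv_cancel] at h2
  obtain ⟨c, hc, h1⟩ := R.one h1
  obtain ⟨d, hd, h2⟩ := R.one h2
  have h3 : d • G = c • G := by
    calc d • G = (G * G0) * G := by rw [h2, smul_mul_assoc, one_mul]
      _ = G * (G0 * G) := by rw [mul_assoc]
      _ = c • G := by rw [h1, mul_smul_comm, mul_one]
  have h4 : d • (1 : Module.End k V) = c • 1 := by
    have h5 : d • (G * G0) = c • (G * G0) := by rw [← smul_mul_assoc, h3, smul_mul_assoc]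
    rw [h2, smul_smul, smul_smul, mul_comm c d, mul_smul, mul_smul] at h5
    exact smul_right_injective _ hd h5
  refine ⟨G, hG, c⁻¹ • G0, R.smul (inv_ne_zero hc) hG0, ?_, ?_⟩
  · rw [mul_smul_comm, h2, h4, smul_smul, inv_mul_cancel₀ hc, one_smul]
  · rw [smul_mul_assoc, h1, smul_smul, inv_mul_cancel₀ hc, one_smul]

theorem inv_mem {s : T} {X Y : Module.End k V} (hX : X ∈ R.L s) (h : X * Y = 1) : Y ∈ R.L s⁻¹ := by
  obtain ⟨B, hB⟩ := R.ex s⁻¹
  have h1 := R.mul hB hX
  rw [inv_mul_cancel] at h1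
  obtain ⟨c, hc, h1⟩ := R.one h1
  have h2 : B = c • Y := by
    calc B = (B * X) * Y := by rw [mul_assoc, h, mul_one]
      _ = c • Y := by rw [h1, smul_mul_assoc, one_mul]
  have h3 : Y = c⁻¹ • B := by rw [h2, smul_smul, inv_mul_cancel₀ hc, one_smul]
  rw [h3]
  exact R.smul (inv_ne_zero hc) hB

/-- involutive lifts have scalar anticommutators -/
def SC (s t : T) : Prop :=
  ∀ A ∈ R.L s, ∀ B ∈ R.L t, A * A = 1 → B * B = 1 → ∃ c ∈ (⊥ : Subfield k), A * B + B * A = c • 1

theorem SC.conj {g s t : T} (h : SC R (g * s * g⁻¹) (g * t * g⁻¹)) : SC R s t := by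
  intro A hA B hB hA2 hB2
  obtain ⟨G, hG, G', hG', h1, h2⟩ := exists_unit R g
  have hp : ∀ Y Z : Module.End k V, (G * Y * G') * (G * Z * G') = G * (Y * Z) * G' := by
    intro Y Z
    calc (G * Y * G') * (G * Z * G') = G * Y * (G' * G) * Z * G' := by simp only [mul_assoc]
      _ = _ := by rw [h2, mul_one]; simp only [mul_assoc]
  obtain ⟨c, hc, h3⟩ := h _ (R.mul (R.mul hG hA) hG') _ (R.mul (R.mul hG hB) hG') (by rw [hp, hA2, mul_one, h1])
    (by rw [hp, hB2, mul_one, h1])
  refine ⟨c, hc, ?_⟩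
  rw [hp, hp, ← add_mul, ← mul_add] at h3
  calc A * B + B * A = (G' * G) * (A * B + B * A) * (G' * G) := by rw [h2, mul_one, one_mul]
    _ = G' * (G * (A * B + B * A) * G') * G := by simp only [mul_assoc]
    _ = c • 1 := by rw [h3, mul_smul_comm, mul_one, smul_mul_assoc, h2]

/-- normalised lifts are unique up to sign -/
theorem norm_unique {s : T} (hs : s ≠ 1) {X Y X' Y' : Module.End k V} {c c' : k} (hX : X ∈ R.L s) (hX' : X' ∈ R.L s)
    (h1 : X * Y = 1) (h2 : Y * X = 1) (h1' : X' * Y' = 1) (hc : X + Y = c • 1) (hc' : X' + Y' = c' • 1) :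
    ∃ ε : k, (ε = 1 ∨ ε = -1) ∧ X' = ε • X ∧ Y' = ε • Y := by
  obtain ⟨α, hα, h⟩ := R.prop_of hX' hX
  have hY' : Y' = α⁻¹ • Y := by
    calc Y' = α⁻¹ • (α • Y' : Module.End k V) := by rw [smul_smul, inv_mul_cancel₀ hα, one_smul]
      _ = α⁻¹ • ((Y * (α • X)) * Y') := by rw [mul_smul_comm, h2, smul_mul_assoc, one_mul]
      _ = α⁻¹ • Y := by rw [← h, mul_assoc, h1', mul_one]
  have hY : Y = c • 1 - X := by rw [← hc]; abel
  have h3 : (α - α⁻¹) • X = (c' - α⁻¹ * c) • 1 := by
    have h4 : α • X + α⁻¹ • (c • 1 - X) = c' • 1 := by rw [← hc', h, hY', hY]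
    rw [sub_smul, sub_smul, ← h4, mul_smul, smul_sub]
    abel
  have h5 : α - α⁻¹ = 0 := by
    by_contra h5
    apply hs
    apply R.inj (c := (α - α⁻¹)⁻¹ * (c' - α⁻¹ * c))
    rw [mul_smul, ← h3, smul_smul, inv_mul_cancel₀ h5, one_smul]
    exact hX
  have h6 : α * α = 1 := by
    have : α = α⁻¹ := sub_eq_zero.1 h5
    nth_rewrite 2 [this]
    exact mul_inv_cancel₀ hα
  have h7 : α⁻¹ = α := (sub_eq_zero.1 h5).symm
  exact ⟨α, mul_self_eq_one_iff.1 h6, h, by rw [hY', h7]⟩

theorem norm_zero {s : T} (hs : s ≠ 1) (hs2 : s * s = 1) {X Y : Module.End k V} {c : k} (hX : X ∈ R.L s)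
    (h1 : X * Y = 1) (hc : X + Y = c • 1) : c = 0 := by
  have h2 := R.mul hX hX
  rw [hs2] at h2
  obtain ⟨d, -, h2⟩ := R.one h2
  have h3 : c • X = (d + 1) • 1 := by
    calc c • X = X * (X + Y) := by rw [hc, mul_smul_comm, mul_one]
      _ = (d + 1) • 1 := by rw [mul_add, h2, h1, add_smul, one_smul]
  by_contra h0
  apply hs
  apply R.inj (c := c⁻¹ * (d + 1))
  rw [mul_smul, ← h3, smul_smul, inv_mul_cancel₀ h0, one_smul]
  exact hX

end PR

section Sp

variable {T k V : Type*} [Group T] [Field k] [IsAlgClosed k] [AddCommGroup V] [Module k V] (R : PRep T k V)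
  {t : ℕ → T} (D : SpData t)

include D in
theorem eq_path (l : List ℕ) (hl : ∀ x ∈ l, 0 < x ∧ x < 64) : ∀ {v w : ℕ}, 0 < v → v < 64 → 0 < w →
    w < 64 → t v = t w → t (act l v) = t (act l w) := by
  induction l with
  | nil => intro v w _ _ _ _ h; exact h
  | cons x l ih =>
    intro v w hv0 hv hw0 hw h
    obtain ⟨hx0, hx⟩ := hl x List.mem_cons_self
    exact ih (fun y hy => hl y (List.mem_cons_of_mem _ hy)) (rf_pos hv0) (rf_lt hx hv) (rf_pos hw0)
      (rf_lt hx hw) (by rw [← D.cj hx0 hx hv0 hv, ← D.cj hx0 hx hw0 hw, h])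

include D in
theorem inj_of_anti [Nontrivial V] (h2 : (2 : k) ≠ 0) (hc : R.AntiL (t 1) (t 2)) {v w : ℕ} (hv0 : 0 < v)
    (hv : v < 64) (hw0 : 0 < w) (hw : w < 64) (hvw : v ≠ w) : t v ≠ t w := by
  intro h
  by_cases ho : om v w = true
  · obtain ⟨q1, q2, q3⟩ := pth8_ok ⟨v, hv⟩ ⟨w, hw⟩ (by rw [Ne, Fin.ext_iff]; simp; omega)
      (by rw [Ne, Fin.ext_iff]; simp; omega) ho
    simp only at q1 q2 q3
    rw [List.all_eq_true] at q3
    have h3 := eq_path D (pth8 v w) (fun x hx => by simpa using q3 x hx) hv0 hv hw0 hw h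
    rw [q1, q2] at h3
    exact ne_of_anti R D h2 hc h3
  · rw [Bool.not_eq_true] at ho
    obtain ⟨A, hA, hA2⟩ := R.exists_inv (D.sq hv0 hv)
    have h6 := D.anti_all R hc hv0 hv hw0 hw hvw ho A hA A (by rw [← h]; exact hA)
    rw [hA2] at h6
    have h7 : (2 : k) • (1 : Module.End k V) = (0 : k) • 1 := by
      rw [two_smul, zero_smul]
      nth_rewrite 1 [h6]
      abel
    exact h2 (smul_one_inj h7)

end Sp

section main

variable {T k V : Type*} [Group T] [Field k] [IsAlgClosed k] [AddCommGroup V] [Module k V] [FiniteDimensional k V]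
  (R : PRep T k V) {τ : ℕ → ℕ → T} (D : OmData τ) (h2 : (2 : k) ≠ 0) (hV : Module.finrank k V = 8)
  (hc : R.AntiL (τ n0 (lift 1)) (τ n0 (lift 2)))

include D h2 hV hc

theorem OmData.pair0 {n m : ℕ} (hn : ns n) (hm : ns m) (on : bf n0 n = false) (om' : bf n0 m = false)
    (hn0 : n ≠ n0) (hm0 : m ≠ n0) : SC R (τ n0 n) (τ n0 m) ∧ (n ≠ m → τ n0 n ≠ τ n0 m) := by
  have : Nontrivial V := Module.nontrivial_of_finrank_pos (R := k) (by rw [hV]; norm_num)
  obtain ⟨v, hv0, hv⟩ := lift_surj ⟨n, hn.1⟩ hn on hn0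
  obtain ⟨w, hw0, hw⟩ := lift_surj ⟨m, hm.1⟩ hm om' hm0
  simp only at hv hw
  subst hv hw
  have hv1 : 0 < (v : ℕ) := Nat.pos_of_ne_zero (fun h => hv0 (Fin.ext h))
  have hw1 : 0 < (w : ℕ) := Nat.pos_of_ne_zero (fun h => hw0 (Fin.ext h))
  refine ⟨?_, fun hne => inj_of_anti R D.spData h2 hc hv1 v.2 hw1 w.2 (fun h => hne (by rw [h]))⟩
  intro A hA B hB hA2 hB2
  by_cases hvw : v = w
  · subst hvw
    rcases R.unique hA hB hA2 hB2 with h | h
    · exact ⟨2, ofNat_mem _ 2, by rw [h, hB2, two_smul]⟩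
    · refine ⟨-2, neg_mem (ofNat_mem _ 2), ?_⟩
      rw [h, neg_mul, mul_neg, hB2]
      module
  by_cases ho : SpSix.om v w = true
  · rcases na_all R D.spData h2 hV hc hv1 v.2 hw1 w.2 ho A hA B hB hA2 hB2 with h | h
    · exact ⟨1, one_mem _, by rw [h, one_smul]⟩
    · exact ⟨-1, neg_mem (one_mem _), by rw [h, neg_one_smul]⟩
  · rw [Bool.not_eq_true] at ho
    refine ⟨0, zero_mem _, ?_⟩
    rw [D.spData.anti_all R hc hv1 v.2 hw1 w.2 (fun h => hvw (Fin.ext h)) ho A hA B hB, zero_smul]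
    abel

theorem OmData.pair {z n m : ℕ} (hz : ns z) (hn : ns n) (hm : ns m) (on : bf z n = false) (om' : bf z m = false)
    (hnz : n ≠ z) (hmz : m ≠ z) : SC R (τ z n) (τ z m) ∧ (n ≠ m → τ z n ≠ τ z m) := by
  obtain ⟨x, y, hx, hy, hxy⟩ := exists_move hz
  have key : ∀ {n : ℕ}, ns n → bf z n = false → n ≠ z → ns (rr y (rr x n)) ∧ bf n0 (rr y (rr x n)) = false ∧
      rr y (rr x n) ≠ n0 ∧ τ z n = τ x y * τ n0 (rr y (rr x n)) * (τ x y)⁻¹ := by
    intro n hn on hnz
    have h1 : rr x (rr y (rr y (rr x n))) = n := by rw [rr_rr, rr_rr]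
    have h3 := rr_ns hy (rr_ns hx hn)
    refine ⟨h3, ?_, ?_, ?_⟩
    · rw [← bf_rr y, ← bf_rr x, hxy, h1, on]
    · intro h
      rw [h, hxy] at h1
      exact hnz h1.symm
    · rw [D.inv hx hy, D.conj hx hy ns_n0 h3, h1, hxy]
  obtain ⟨n1, n2, n3, n4⟩ := key hn on hnz
  obtain ⟨m1, m2, m3, m4⟩ := key hm om' hmz
  obtain ⟨p1, p2⟩ := D.pair0 R h2 hV hc n1 m1 n2 m2 n3 m3
  constructor
  · apply SC.conj R (g := (τ x y)⁻¹)
    rw [n4, m4]
    have : ∀ s : T, (τ x y)⁻¹ * (τ x y * s * (τ x y)⁻¹) * (τ x y)⁻¹⁻¹ = s := by intro s; group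
    rw [this, this]
    exact p1
  · intro hnm h
    rw [n4, m4] at h
    refine p2 (fun h' => hnm ?_) (mul_left_cancel (mul_right_cancel h))
    have h3 := congrArg (fun a => rr x (rr y a)) h'
    simpa only [rr_rr] using h3

theorem OmData.ne_one {n m : ℕ} (hn : ns n) (hm : ns m) (hnm : n ≠ m) : τ n m ≠ 1 := by
  obtain ⟨z, hz, -, ⟨a1, a2⟩, b1, b2⟩ := exists_z hn hm
  have h := (D.pair R h2 hV hc hz hn hm (by rw [bf_comm]; exact a1) (by rw [bf_comm]; exact b1) (Ne.symm a2)
    (Ne.symm b2)).2 hnm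
  intro h1
  apply h
  rw [← D.mul hz hn hm, h1, mul_one]

/-- normalised lifts -/
theorem OmData.exists_norm {n : ℕ} (hn : ns n) : ∃ A A' : Module.End k V, A ∈ R.L (τ n n0) ∧ A * A' = 1 ∧ A' * A = 1 ∧
    (∃ c : k, A + A' = c • 1) ∧ (n = n0 → A = 1 ∧ A' = 1) := by
  by_cases h : n = n0
  · refine ⟨1, 1, ?_, mul_one _, mul_one _, ⟨2, by rw [two_smul]⟩, fun _ => ⟨rfl, rfl⟩⟩
    rw [h, D.self ns_n0]
    obtain ⟨A, hA⟩ := R.ex 1
    obtain ⟨c, hc, rfl⟩ := R.one hA
    have := R.smul (inv_ne_zero hc) hA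
    rwa [smul_smul, inv_mul_cancel₀ hc, one_smul] at this
  · obtain ⟨z, hz, ⟨c1, c2⟩, ⟨a1, a2⟩, -⟩ := exists_z hn hn
    rw [bf_comm] at c1 a1
    obtain ⟨a, ha, ha2⟩ := R.exists_inv (D.sq hz hn a1)
    obtain ⟨b, hb, hb2⟩ := R.exists_inv (D.sq hz ns_n0 c1)
    have h1 := R.mul ha hb
    rw [D.symm hz hn a1, D.mul hn hz ns_n0] at h1
    obtain ⟨c, -, hcc⟩ := (D.pair R h2 hV hc hz hn ns_n0 a1 c1 (Ne.symm a2) (Ne.symm c2)).1 a ha b hb ha2 hb2
    refine ⟨a * b, b * a, h1, ?_, ?_, ⟨c, hcc⟩, fun h' => absurd h' h⟩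
    · calc (a * b) * (b * a) = a * (b * b) * a := by simp only [mul_assoc]
        _ = 1 := by rw [hb2, mul_one, ha2]
    · calc (b * a) * (a * b) = b * (a * a) * b := by simp only [mul_assoc]
        _ = 1 := by rw [ha2, mul_one, hb2]

/-- normalised lifts as products -/
theorem OmData.norm_eq {n z : ℕ} (hn : ns n) (hz : ns z) (oz : bf z n = false) (oz0 : bf z n0 = false) (hnz : n ≠ z)
    (hz0 : n0 ≠ z) {A A' a b : Module.End k V} (hA : A ∈ R.L (τ n n0)) (h1 : A * A' = 1) (h1' : A' * A = 1)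
    (hs : ∃ c : k, A + A' = c • 1) (h0 : n = n0 → A = 1 ∧ A' = 1) (ha : a ∈ R.L (τ z n)) (hb : b ∈ R.L (τ z n0))
    (ha2 : a * a = 1) (hb2 : b * b = 1) : ∃ ε : k, (ε = 1 ∨ ε = -1) ∧ A = ε • (a * b) ∧ A' = ε • (b * a) := by
  have : Nontrivial V := Module.nontrivial_of_finrank_pos (R := k) (by rw [hV]; norm_num)
  by_cases h : n = n0
  · obtain ⟨e1, e2⟩ := h0 h
    subst h
    rcases R.unique ha hb ha2 hb2 with h3 | h3
    · exact ⟨1, Or.inl rfl, by rw [e1, h3, hb2, one_smul], by rw [e2, h3, hb2, one_smul]⟩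
    · exact ⟨-1, Or.inr rfl, by rw [e1, h3, neg_mul, hb2, neg_one_smul, neg_neg],
        by rw [e2, h3, mul_neg, hb2, neg_one_smul, neg_neg]⟩
  · obtain ⟨c, hcc⟩ := hs
    have h3 := R.mul ha hb
    rw [D.symm hz hn oz, D.mul hn hz ns_n0] at h3
    obtain ⟨c', -, hcc'⟩ := (D.pair R h2 hV hc hz hn ns_n0 oz oz0 hnz hz0).1 a ha b hb ha2 hb2
    exact norm_unique R (D.ne_one R h2 hV hc hn ns_n0 h) h3 hA
      (by
        calc (a * b) * (b * a) = a * (b * b) * a := by simp only [mul_assoc]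
          _ = 1 := by rw [hb2, mul_one, ha2])
      (by
        calc (b * a) * (a * b) = b * (a * a) * b := by simp only [mul_assoc]
          _ = 1 := by rw [ha2, mul_one, hb2]) h1 hcc' hcc

/-- **Scalar anticommutators of normalised lifts.** -/
theorem OmData.norm_pair {n m : ℕ} (hn : ns n) (hm : ns m) {A A' B B' : Module.End k V}
    (hA : A ∈ R.L (τ n n0)) (h1 : A * A' = 1) (h1' : A' * A = 1)
    (hs : ∃ c : k, A + A' = c • 1) (h0 : n = n0 → A = 1 ∧ A' = 1)
    (hB : B ∈ R.L (τ m n0)) (g1 : B * B' = 1) (g1' : B' * B = 1)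
    (gs : ∃ c : k, B + B' = c • 1) (g0 : m = n0 → B = 1 ∧ B' = 1) :
    ∃ c ∈ (⊥ : Subfield k), A * B' + B * A' = c • 1 ∧ A' * B + B' * A = c • 1 := by
  obtain ⟨z, hz, ⟨c1, c2⟩, ⟨a1, a2⟩, b1, b2⟩ := exists_z hn hm
  rw [bf_comm] at c1 a1 b1
  obtain ⟨a, ha, ha2⟩ := R.exists_inv (D.sq hz hn a1)
  obtain ⟨b, hb, hb2⟩ := R.exists_inv (D.sq hz ns_n0 c1)
  obtain ⟨d, hd, hd2⟩ := R.exists_inv (D.sq hz hm b1)
  obtain ⟨ε, hε, e1, e2⟩ := D.norm_eq R h2 hV hc hn hz a1 c1 (Ne.symm a2) (Ne.symm c2) hA h1 h1' hs h0 ha hb ha2 hb2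
  obtain ⟨δ, hδ, f1, f2⟩ := D.norm_eq R h2 hV hc hm hz b1 c1 (Ne.symm b2) (Ne.symm c2) hB g1 g1' gs g0 hd hb hd2 hb2
  obtain ⟨c, hcm, hcc⟩ := (D.pair R h2 hV hc hz hn hm a1 b1 (Ne.symm a2) (Ne.symm b2)).1 a ha d hd ha2 hd2
  have hm' : ε * δ * c ∈ (⊥ : Subfield k) := by
    apply mul_mem _ hcm
    rcases hε with rfl | rfl <;> rcases hδ with rfl | rfl
    · rw [mul_one]; exact one_mem _
    · rw [one_mul]; exact neg_mem (one_mem _)
    · rw [mul_one]; exact neg_mem (one_mem _)
    · rw [neg_mul_neg, mul_one]; exact one_mem _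
  refine ⟨ε * δ * c, hm', ?_, ?_⟩
  · rw [e1, e2, f1, f2, smul_mul_smul_comm, smul_mul_smul_comm, mul_comm δ ε, ← smul_add,
      show a * b * (b * d) = a * (b * b) * d by simp only [mul_assoc],
      show d * b * (b * a) = d * (b * b) * a by simp only [mul_assoc], hb2, mul_one, mul_one, hcc, smul_smul]
  · rw [e1, e2, f1, f2, smul_mul_smul_comm, smul_mul_smul_comm, mul_comm δ ε, ← smul_add,
      show b * a * (d * b) + b * d * (a * b) = b * (a * d + d * a) * b by
        simp only [mul_add, add_mul, mul_assoc], hcc, mul_smul_comm, mul_one, smul_mul_assoc, hb2, smul_smul]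

end main

end Cfsg.Agent.H916.Om
end

-- part: H916/OmF
section
/-!
# Doubling: traces of even words in the half-spin module
-/

set_option autoImplicit false
set_option linter.unusedSectionVars false
set_option linter.unusedVariables false

namespace Cfsg.Agent.H916.Dbl

open TreeTrace CliffTrace
open scoped commutatorElement

section perfect

variable {k V : Type*} [Field k] [AddCommGroup V] [Module k V]

/-- a perfect group of scalar multiples of elements of a group of operators -/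
theorem mem_of_perfect {L : Type*} [Group L] (ρ : L →* Module.End k V) (hperf : commutator L = ⊤)
    (W : Submonoid (Module.End k V)) (hinv : ∀ x ∈ W, ∃ y ∈ W, x * y = 1 ∧ y * x = 1)
    (h : ∀ g, ∃ c : k, c ≠ 0 ∧ ∃ x ∈ W, ρ g = c • x) : ∀ g, ρ g ∈ W := by
  have hi : ∀ {g : L} {c : k} {x y : Module.End k V}, c ≠ 0 → ρ g = c • x → x * y = 1 → ρ g⁻¹ = c⁻¹ • y := by
    intro g c x y hc hg hxy
    have h1 : ρ g⁻¹ * ρ g = 1 := by rw [← map_mul, inv_mul_cancel, map_one]
    calc ρ g⁻¹ = c⁻¹ • (ρ g⁻¹ * (c • x)) * y := by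
          rw [mul_smul_comm, smul_smul, inv_mul_cancel₀ hc, one_smul, mul_assoc, hxy, mul_one]
      _ = c⁻¹ • y := by rw [← hg, h1, smul_mul_assoc, one_mul]
  let H : Subgroup L :=
    { carrier := {g | ρ g ∈ W}
      mul_mem' := by
        intro a b ha hb
        show ρ (a * b) ∈ W
        rw [map_mul]; exact W.mul_mem ha hb
      one_mem' := by
        show ρ 1 ∈ W
        rw [map_one]; exact W.one_mem
      inv_mem' := by
        intro a ha
        obtain ⟨y, hy, h1, -⟩ := hinv _ ha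
        show ρ a⁻¹ ∈ W
        rw [hi (c := 1) one_ne_zero (one_smul _ _).symm h1, inv_one, one_smul]
        exact hy }
  have hH : commutator L ≤ H := by
    rw [commutator_def, Subgroup.commutator_le]
    intro a _ b _
    obtain ⟨c, hc, x, hx, e⟩ := h a
    obtain ⟨c', hc', x', hx', e'⟩ := h b
    obtain ⟨y, hy, h1, -⟩ := hinv _ hx
    obtain ⟨y', hy', h1', -⟩ := hinv _ hx'
    show ρ ⁅a, b⁆ ∈ W
    rw [commutatorElement_def, map_mul, map_mul, map_mul, hi hc e h1, hi hc' e' h1', e, e']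
    simp only [smul_mul_assoc, mul_smul_comm, smul_smul]
    rw [show c'⁻¹ * (c⁻¹ * (c' * c)) = 1 by field_simp, one_smul]
    exact W.mul_mem (W.mul_mem (W.mul_mem hx hx') hy) hy'
  intro g
  have : g ∈ H := hH (by rw [hperf]; trivial)
  exact this

end perfect

section anti

variable {M κ : Type*} [Ring M] {S : κ → M}

theorem mv_anti {i : κ} (l : List κ) (h : ∀ j ∈ l, S i * S j = -(S j * S i)) :
    pS S l * S i = (-1) ^ l.length * (S i * pS S l) := by
  induction l with
  | nil => rw [pS, List.length_nil, pow_zero, one_mul, one_mul, mul_one]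
  | cons j l ih =>
    rw [pS, mul_assoc, ih (fun j hj => h j (List.mem_cons_of_mem _ hj)), List.length_cons, pow_succ,
      ← mul_assoc (S i) (S j), h j List.mem_cons_self, ← mul_assoc (S j),
      (Commute.neg_one_right (S j)).pow_right l.length |>.eq]
    simp only [mul_assoc, neg_mul, mul_neg, one_mul, neg_neg]

theorem sq_anti (hS : ∀ i, S i * S i = 1) (l : List κ) (h : l.Pairwise fun i j => S i * S j = -(S j * S i)) :
    ∃ n : ℕ, 2 * n + l.length = l.length * l.length ∧ pS S l * pS S l = (-1) ^ n := by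
  induction l with
  | nil => exact ⟨0, rfl, by rw [pS, one_mul, pow_zero]⟩
  | cons i l ih =>
    rw [List.pairwise_cons] at h
    obtain ⟨n, hn, h1⟩ := ih h.2
    refine ⟨l.length + n, by rw [List.length_cons]; linarith, ?_⟩
    rw [pS]
    calc S i * pS S l * (S i * pS S l) = S i * (pS S l * S i) * pS S l := by simp only [mul_assoc]
      _ = (-1) ^ l.length * (S i * S i) * (pS S l * pS S l) := by
        rw [mv_anti l h.1, ← mul_assoc (S i), (Commute.neg_one_right (S i)).pow_right l.length |>.eq]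
        simp only [mul_assoc]
      _ = _ := by rw [hS, mul_one, h1, pow_add]

end anti

section double

variable {k V κ : Type*} [Field k] [AddCommGroup V] [Module k V] (A A' : κ → Module.End k V)

/-- doubled operator -/
def rho (i : κ) : Module.End k (V × V) :=
  LinearMap.prod ((A i).comp (LinearMap.snd k V V)) ((A' i).comp (LinearMap.fst k V V))

theorem rho_mul (i j : κ) : rho A A' i * rho A A' j = LinearMap.prodMap (A i * A' j) (A' i * A j) := rfl

theorem prodMap_mul (X Y X' Y' : Module.End k V) :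
    (LinearMap.prodMap X Y * LinearMap.prodMap X' Y' : Module.End k (V × V)) = LinearMap.prodMap (X * X') (Y * Y') := rfl

theorem prodMap_one : (LinearMap.prodMap 1 1 : Module.End k (V × V)) = 1 := rfl

theorem prodMap_inj {X Y X' Y' : Module.End k V}
    (h : (LinearMap.prodMap X Y : Module.End k (V × V)) = LinearMap.prodMap X' Y') : X = X' ∧ Y = Y' := by
  constructor
  · ext x
    exact congrArg Prod.fst (LinearMap.congr_fun h (x, 0))
  · ext x
    exact congrArg Prod.snd (LinearMap.congr_fun h (0, x))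

theorem exists_prodMap (n : ℕ) : ∀ l : List κ, l.length = 2 * n →
    ∃ X Y, pS (rho A A') l = LinearMap.prodMap X Y := by
  induction n with
  | zero =>
    intro l hl
    obtain rfl := List.length_eq_zero_iff.1 hl
    exact ⟨1, 1, rfl⟩
  | succ n ih =>
    intro l hl
    match l, hl with
    | i :: j :: l, hl =>
      rw [List.length_cons, List.length_cons] at hl
      obtain ⟨X, Y, h⟩ := ih l (by omega)
      refine ⟨A i * A' j * X, A' i * A j * Y, ?_⟩
      rw [pS, pS, ← mul_assoc, rho_mul, h, prodMap_mul]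

/-- first components of even words -/
def WW : Submonoid (Module.End k V) where
  carrier := {X | ∃ Y l, (∃ n, l.length = 2 * n) ∧ pS (rho A A') l = LinearMap.prodMap X Y}
  one_mem' := ⟨1, [], ⟨0, rfl⟩, rfl⟩
  mul_mem' := by
    rintro X X' ⟨Y, l, ⟨n, hn⟩, h⟩ ⟨Y', l', ⟨n', hn'⟩, h'⟩
    exact ⟨Y * Y', l ++ l', ⟨n + n', by rw [List.length_append]; omega⟩, by rw [pS_append, h, h', prodMap_mul]⟩

variable {A A'} (hA : ∀ i, A i * A' i = 1) (hA' : ∀ i, A' i * A i = 1)

include hA hA'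

theorem rho_sq (i : κ) : rho A A' i * rho A A' i = 1 := by
  rw [rho_mul, hA, hA']; rfl

theorem rev_prod {l : List κ} {n : ℕ} (hn : l.length = 2 * n) {X Y : Module.End k V}
    (h : pS (rho A A') l = LinearMap.prodMap X Y) :
    ∃ X' Y', pS (rho A A') l.reverse = LinearMap.prodMap X' Y' ∧ X * X' = 1 ∧ X' * X = 1 ∧ Y * Y' = 1 ∧ Y' * Y = 1 := by
  obtain ⟨X', Y', h'⟩ := exists_prodMap A A' n l.reverse (by rw [List.length_reverse]; exact hn)
  have h1 := pS_rev_mul (rho_sq hA hA') l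
  have h2 := pS_mul_rev (rho_sq hA hA') l
  rw [h, h', prodMap_mul, ← prodMap_one] at h1 h2
  obtain ⟨a1, a2⟩ := prodMap_inj h1
  obtain ⟨b1, b2⟩ := prodMap_inj h2
  exact ⟨X', Y', h', b1, a1, b2, a2⟩

theorem WW_inv : ∀ x ∈ WW A A', ∃ y ∈ WW A A', x * y = 1 ∧ y * x = 1 := by
  rintro X ⟨Y, l, ⟨n, hn⟩, h⟩
  obtain ⟨X', Y', h', a, b, -, -⟩ := rev_prod hA hA' hn h
  exact ⟨X', ⟨Y', l.reverse, ⟨n, by rw [List.length_reverse]; exact hn⟩, h'⟩, a, b⟩

variable [FiniteDimensional k V] (K : Subfield k) (h2 : (2 : k) ≠ 0) {c : κ → κ → k} (hc : ∀ i j, c i j ∈ K)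
  (h1 : ∀ i j, A i * A' j + A j * A' i = c i j • 1) (h1' : ∀ i j, A' i * A j + A' j * A i = c i j • 1)
  {l8 : List κ} (e8 : ∃ m, l8.length = 2 * m) {d : k} (hd : d * d = 1)
  (v8 : pS (rho A A') l8 = LinearMap.prodMap (d • 1) (-(d • 1)))

include h2 hc h1 h1' e8 hd v8

/-- **Traces in one half.** -/
theorem trace_half {X X' : Module.End k V} (hX : X ∈ WW A A') (hXX : X' * X = 1) :
    LinearMap.trace k V X ∈ K ∧ LinearMap.trace k V X' = LinearMap.trace k V X := by
  obtain ⟨Y, l, ⟨n, hn⟩, h⟩ := hX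
  obtain ⟨m, hm⟩ := e8
  obtain ⟨X'', Y', h', a, b, a', b'⟩ := rev_prod hA hA' hn h
  have hX'' : X'' = X' := by
    calc X'' = (X' * X) * X'' := by rw [hXX, one_mul]
      _ = X' := by rw [mul_assoc, a, mul_one]
  subst hX''
  have hcc : ∀ i j, rho A A' i * rho A A' j + rho A A' j * rho A A' i = c i j • 1 := by
    intro i j
    rw [rho_mul, rho_mul]
    apply LinearMap.ext
    intro x
    apply Prod.ext
    · exact LinearMap.congr_fun (h1 i j) x.1
    · exact LinearMap.congr_fun (h1' i j) x.2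
  have hone : LinearMap.trace k (V × V) 1 ∈ K := by
    rw [LinearMap.trace_one]
    exact natCast_mem _ _
  obtain ⟨t1, t2⟩ := trace_even K h2 hcc hc hone n l hn
  obtain ⟨t3, t4⟩ := trace_even K h2 hcc hc hone (n + m) (l ++ l8) (by rw [List.length_append]; omega)
  have hr8 : pS (rho A A') l8.reverse = LinearMap.prodMap (d • 1) (-(d • 1)) := by
    have e1 : pS (rho A A') l8 * pS (rho A A') l8 = 1 := by
      rw [v8, prodMap_mul, ← prodMap_one]
      congr 1
      · rw [smul_mul_smul_comm, hd, one_smul, one_mul]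
      · rw [neg_mul_neg, smul_mul_smul_comm, hd, one_smul, one_mul]
    calc pS (rho A A') l8.reverse = pS (rho A A') l8.reverse * (pS (rho A A') l8 * pS (rho A A') l8) := by
          rw [e1, mul_one]
      _ = _ := by rw [← mul_assoc, pS_rev_mul (rho_sq hA hA'), one_mul, v8]
  have htr : ∀ X Y : Module.End k V, LinearMap.trace k (V × V) (LinearMap.prodMap X Y) =
      LinearMap.trace k V X + LinearMap.trace k V Y := fun X Y => LinearMap.trace_prodMap' X Y
  rw [h, htr] at t1
  rw [h, h', htr, htr] at t2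
  rw [pS_append, h, v8, prodMap_mul, htr, mul_smul_comm, mul_one, mul_neg, mul_smul_comm, mul_one, map_neg, map_smul,
    map_smul, smul_eq_mul, smul_eq_mul] at t3
  simp only [List.reverse_append, pS_append, pS_append, h, h', v8, hr8, prodMap_mul, prodMap_mul, htr, htr, mul_smul_comm,
    mul_one, mul_neg, mul_smul_comm, mul_one, map_neg, map_smul, map_smul, smul_mul_assoc, one_mul, neg_mul,
    smul_mul_assoc, one_mul, map_neg, map_smul, map_smul] at t4
  simp only [smul_eq_mul] at t4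
  have hdK : d ∈ K := by
    rcases mul_self_eq_one_iff.1 hd with rfl | rfl
    · exact one_mem _
    · exact neg_mem (one_mem _)
  have q1 := mul_mem (inv_mem (ofNat_mem K 2)) (add_mem t1 (mul_mem hdK t3))
  constructor
  · have e : LinearMap.trace k V X = 2⁻¹ * (LinearMap.trace k V X + LinearMap.trace k V Y +
        d * (d * LinearMap.trace k V X + -(d * LinearMap.trace k V Y))) := by
      rw [eq_inv_mul_iff_mul_eq₀ h2]
      linear_combination (-LinearMap.trace k V X + LinearMap.trace k V Y) * hd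
    rw [e]
    exact q1
  · apply mul_left_cancel₀ h2
    linear_combination t2 + d * t4 - (LinearMap.trace k V X'' - LinearMap.trace k V X -
      (LinearMap.trace k V Y' - LinearMap.trace k V Y)) * hd

end double

end Cfsg.Agent.H916.Dbl
end

-- part: H916/OmG
section
/-!
# `Ω₈⁺(2)` in dimension eight: the anticommuting case
-/

set_option autoImplicit false
set_option linter.unusedSectionVars false
set_option linter.unusedVariables false

namespace Cfsg.Agent.H916.Om

open SpSix SpEight Halving Pauli TreeTrace CliffTrace Dbl Cfsg Cfsg.Geo Cfsg.Agent.H915.LD Matrix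

theorem sq_anti_eight {M κ : Type*} [Ring M] {S : κ → M} (hS : ∀ i, S i * S i = 1) (l : List κ)
    (h : l.Pairwise fun i j => S i * S j = -(S j * S i)) (h8 : l.length = 8) : pS S l * pS S l = 1 := by
  obtain ⟨n, hn, h1⟩ := sq_anti hS l h
  rw [h8] at hn
  have hn' : n = 28 := by omega
  rw [h1, hn']
  exact Even.neg_one_pow (by decide)

/-- a group of lifts with good traces -/
def Good {T k V : Type*} [Group T] [Field k] [AddCommGroup V] [Module k V] (R : PRep T k V) : Prop :=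
  ∃ W : Submonoid (Module.End k V), (∀ x ∈ W, ∃ y ∈ W, x * y = 1 ∧ y * x = 1) ∧ (∀ s : T, ∃ X ∈ W, X ∈ R.L s) ∧
    ∀ X ∈ W, ∀ X', X' * X = 1 → LinearMap.trace k V X ∈ (⊥ : Subfield k) ∧
      LinearMap.trace k V X' = LinearMap.trace k V X

section core

universe u v

variable {ι : Type} [Fintype ι] [DecidableEq ι] {F : Type u} [Field F] {P : Subgroup (GL ι F)} {T : Type v} [Group T]

theorem core_of_good (hC : Core P) (e : Soc P ≃* T) (h : Good (coreRep hC e)) :
    ∀ g ∈ P, algebraMap F (AlgebraicClosure F) (tr g) ∈ (⊥ : Subfield (AlgebraicClosure F)) ∧ tr g⁻¹ = tr g := by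
  obtain ⟨W, h1, h2, h3⟩ := h
  have hm := mem_of_perfect (H911.Five.rep P) hC.commutator_top W h1 (fun g => by
    obtain ⟨X, hX, hX2⟩ := h2 (e (toSoc P g))
    obtain ⟨c, hc, h⟩ := (coreRep hC e).prop_of (mem_coreRep hC e g) hX2
    exact ⟨c, hc, X, hX, h⟩)
  intro g hg
  obtain ⟨q1, q2⟩ := h3 _ (hm ⟨g, hg⟩) (H911.Five.rep P (⟨g, hg⟩ : P)⁻¹) (by
    rw [← map_mul, inv_mul_cancel, map_one])
  rw [tr_rep] at q1
  rw [tr_rep, tr_rep] at q2
  refine ⟨q1, ?_⟩
  apply (algebraMap F (AlgebraicClosure F)).injective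
  exact q2

end core

/-- nonsingular masks -/
abbrev Ns : Type := {n : ℕ // ns n}

def f1 : Ns := ⟨lift 1, by decide⟩
def f2 : Ns := ⟨lift 2, by decide⟩
def f3 : Ns := ⟨lift 3, by decide⟩
def f4 : Ns := ⟨lift 4, by decide⟩
def f5 : Ns := ⟨lift 5, by decide⟩
def f6 : Ns := ⟨lift 6, by decide⟩
def f7 : Ns := ⟨lift 7, by decide⟩
def f0 : Ns := ⟨n0, ns_n0⟩

/-- the frame -/
def frm : List Ns := [f1, f2, f3, f4, f5, f6, f0, f7]

theorem frm_pw : frm.Pairwise fun i j : Ns => bf i j = false ∧ (i : ℕ) ≠ j := by decide +kernel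

section main

variable {T k V : Type*} [Group T] [Field k] [IsAlgClosed k] [AddCommGroup V] [Module k V] [FiniteDimensional k V]
  (R : PRep T k V) {τ : ℕ → ℕ → T} (D : OmData τ) (h2 : (2 : k) ≠ 0) (hV : Module.finrank k V = 8)
  (hc : R.AntiL (τ n0 (lift 1)) (τ n0 (lift 2)))

include D h2 hV hc

theorem OmData.good_of_anti (gen : Subgroup.closure {x | ∃ n m, ns n ∧ ns m ∧ x = τ n m} = ⊤) : Good R := by
  have : Nontrivial V := Module.nontrivial_of_finrank_pos (R := k) (by rw [hV]; norm_num)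
  choose A A' hA h1 h1' hs h0 using fun n : Ns => D.exists_norm R h2 hV hc n.2
  have hpair := fun n m : Ns => D.norm_pair R h2 hV hc n.2 m.2 (hA n) (h1 n) (h1' n) (hs n) (h0 n) (hA m) (h1 m)
    (h1' m) (hs m) (h0 m)
  choose c hc1 hc2 hc3 using hpair
  have hAm : ∀ n m : Ns, A n * A' m ∈ R.L (τ n m) := by
    intro n m
    have h := R.mul (hA n) (inv_mem R (hA m) (h1 m))
    rw [D.inv m.2 ns_n0, D.mul n.2 ns_n0 m.2] at h
    exact h
  have hc0 : ∀ n m : Ns, bf n m = false → (n : ℕ) ≠ m → c n m = 0 := by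
    intro n m ho hnm
    refine norm_zero R (D.ne_one R h2 hV hc n.2 m.2 hnm) (D.sq n.2 m.2 ho) (hAm n m) ?_ (hc2 n m)
    calc A n * A' m * (A m * A' n) = A n * (A' m * A m) * A' n := by simp only [mul_assoc]
      _ = 1 := by rw [h1', mul_one, h1]
  obtain ⟨z1, z2⟩ := h0 f0 rfl
  have hneg : ∀ n : Ns, bf n f0 = false → (n : ℕ) ≠ f0 → A' n = -A n := by
    intro n ho hn
    have h := hc2 n f0
    rw [hc0 n f0 ho hn, z1, z2, mul_one, one_mul, zero_smul] at h
    exact eq_neg_of_add_eq_zero_right h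
  -- the volume element
  have hvol : pS (rho A A') frm = LinearMap.prodMap ((A f1 * A' f2) * ((A f3 * A' f4) * ((A f5 * A' f6) * (A f0 * A' f7))))
      ((A' f1 * A f2) * ((A' f3 * A f4) * ((A' f5 * A f6) * (A' f0 * A f7)))) := by
    show rho A A' f1 * (rho A A' f2 * (rho A A' f3 * (rho A A' f4 * (rho A A' f5 * (rho A A' f6 * (rho A A' f0 *
      (rho A A' f7 * 1))))))) = _
    have e : ∀ (i j : Ns) (X : Module.End k (V × V)), rho A A' i * (rho A A' j * X) =
        LinearMap.prodMap (A i * A' j) (A' i * A j) * X := by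
      intro i j X
      rw [← mul_assoc, rho_mul]
    rw [e, e, e, e, mul_one, prodMap_mul, prodMap_mul, prodMap_mul]
  have hL : (A f1 * A' f2) * ((A f3 * A' f4) * ((A f5 * A' f6) * (A f0 * A' f7))) ∈ R.L 1 := by
    have h := R.mul (hAm f1 f2) (R.mul (hAm f3 f4) (R.mul (hAm f5 f6) (hAm f0 f7)))
    have h' : τ f1 f2 * (τ f3 f4 * (τ f5 f6 * τ f0 f7)) = 1 := by
      have e : ∀ a b : Ns, bf n0 a = false → τ n0 a * τ n0 b = τ a b := by
        intro a b hab
        rw [D.symm ns_n0 a.2 hab, D.mul a.2 ns_n0 b.2]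
      have e1 := e f1 f2 (by decide)
      have e2 := e f3 f4 (by decide)
      have e3 := e f5 f6 (by decide)
      rw [← e1, ← e2, ← e3, ← D.fano]
      simp only [mul_assoc]
      rfl
    rw [h'] at h
    exact h
  obtain ⟨d, hd0, hd⟩ := R.one hL
  have hY : (A' f1 * A f2) * ((A' f3 * A f4) * ((A' f5 * A f6) * (A' f0 * A f7))) = -(d • 1) := by
    rw [← hd]
    have n1 := hneg f1 (by decide) (by decide)
    have n2 := hneg f2 (by decide) (by decide)
    have n3 := hneg f3 (by decide) (by decide)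
    have n4 := hneg f4 (by decide) (by decide)
    have n5 := hneg f5 (by decide) (by decide)
    have n6 := hneg f6 (by decide) (by decide)
    have n7 := hneg f7 (by decide) (by decide)
    rw [n1, n2, n3, n4, n5, n6, n7, z1, z2]
    simp only [neg_mul, mul_neg, one_mul, neg_neg]
  rw [hd, hY] at hvol
  have hanti : ∀ i j : Ns, bf i j = false → (i : ℕ) ≠ j → rho A A' i * rho A A' j = -(rho A A' j * rho A A' i) := by
    intro i j ho hij
    have e1 := hc2 i j
    have e2 := hc3 i j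
    rw [hc0 i j ho hij, zero_smul] at e1 e2
    rw [rho_mul, rho_mul, eq_neg_of_add_eq_zero_left e1, eq_neg_of_add_eq_zero_left e2]
    rfl
  have hdd : d * d = 1 := by
    have hsq := sq_anti_eight (rho_sq h1 h1') frm (frm_pw.imp fun h => hanti _ _ h.1 h.2) rfl
    rw [hvol, prodMap_mul, ← prodMap_one] at hsq
    have h9 := (prodMap_inj hsq).1
    rw [smul_mul_smul_comm, one_mul] at h9
    exact smul_one_inj (k := k) (V := V) (by rw [h9, one_smul])
  refine ⟨WW A A', WW_inv h1 h1', ?_, ?_⟩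
  · intro s
    have hs : s ∈ Subgroup.closure {x | ∃ n m, ns n ∧ ns m ∧ x = τ n m} := by rw [gen]; trivial
    induction hs using Subgroup.closure_induction with
    | mem x hx =>
      obtain ⟨n, m, hn, hm, rfl⟩ := hx
      refine ⟨A ⟨n, hn⟩ * A' ⟨m, hm⟩, ?_, hAm ⟨n, hn⟩ ⟨m, hm⟩⟩
      exact ⟨A' ⟨n, hn⟩ * A ⟨m, hm⟩, [⟨n, hn⟩, ⟨m, hm⟩], ⟨1, rfl⟩, by
        rw [← rho_mul]
        show rho A A' _ * (rho A A' _ * 1) = _
        rw [mul_one]⟩
    | one =>
      refine ⟨1, (WW A A').one_mem, ?_⟩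
      obtain ⟨X, hX⟩ := R.ex 1
      obtain ⟨c, hc, rfl⟩ := R.one hX
      have := R.smul (inv_ne_zero hc) hX
      rwa [smul_smul, inv_mul_cancel₀ hc, one_smul] at this
    | mul x y _ _ hx hy =>
      obtain ⟨X, h3, h4⟩ := hx
      obtain ⟨Y, h5, h6⟩ := hy
      exact ⟨X * Y, (WW A A').mul_mem h3 h5, R.mul h4 h6⟩
    | inv x _ hx =>
      obtain ⟨X, h3, h4⟩ := hx
      obtain ⟨Y, h5, h6, -⟩ := WW_inv h1 h1' X h3
      exact ⟨Y, h5, inv_mem R h4 h6⟩
  · intro X hX X' hXX
    exact trace_half h1 h1' ⊥ h2 hc1 hc2 hc3 ⟨4, rfl⟩ hdd hvol hX hXX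

end main

end Cfsg.Agent.H916.Om
end

-- part: H916/OmH
section
/-!
# `Ω₈⁺(2)`: reflection systems of type `E₈`
-/

set_option autoImplicit false
set_option linter.unusedSectionVars false
set_option linter.unusedVariables false

namespace Cfsg.Agent.H916.Om

open SpSix SpEight Halving Pauli TreeTrace CliffTrace Dbl Matrix

/-- simple roots of type `E₈` modulo 2 -/
def ms : Fin 8 → ℕ := ![137, 152, 139, 168, 142, 200, 232, 91]

theorem ms_ns : ∀ i, ns (ms i) := by decide +kernel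

/-- Cartan matrix of type `E₈` -/
def C8 : Matrix (Fin 8) (Fin 8) ℤ :=
  !![2, -1, 0, 0, 0, 0, 0, 0; -1, 2, -1, 0, 0, 0, 0, 0; 0, -1, 2, -1, 0, 0, -1, 0; 0, 0, -1, 2, -1, 0, 0, 0;
    0, 0, 0, -1, 2, -1, 0, 0; 0, 0, 0, 0, -1, 2, 0, -1; 0, 0, -1, 0, 0, 0, 2, 0; 0, 0, 0, 0, 0, -1, 0, 2]

def D8 : Matrix (Fin 8) (Fin 8) ℤ :=
  !![4, 7, 10, 8, 6, 4, 5, 2; 7, 14, 20, 16, 12, 8, 10, 4; 10, 20, 30, 24, 18, 12, 15, 6;
    8, 16, 24, 20, 15, 10, 12, 5; 6, 12, 18, 15, 12, 8, 9, 4; 4, 8, 12, 10, 8, 6, 6, 3;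
    5, 10, 15, 12, 9, 6, 8, 3; 2, 4, 6, 5, 4, 3, 3, 2]

theorem C8_symm : C8ᵀ = C8 := by decide +kernel

theorem C8_D8 : C8 * D8 = (1 : ℤ) • 1 := by decide +kernel

theorem D8_C8 : D8 * C8 = (1 : ℤ) • 1 := by decide +kernel

theorem C8_diag : ∀ i, C8 i i = 2 := by decide

theorem C8_non : ∀ i j : Fin 8, i ≠ j → bf (ms i) (ms j) = false → (C8 i j : ℤ) = 0 := by
  intro i j
  fin_cases i <;> fin_cases j <;> decide +kernel

theorem C8_adj : ∀ i j : Fin 8, bf (ms i) (ms j) = true → (C8 i j : ℤ) = -1 := by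
  intro i j
  fin_cases i <;> fin_cases j <;> decide +kernel

set_option synthInstance.maxHeartbeats 400000 in
set_option synthInstance.maxSize 1000 in
theorem adj8 : ∀ i j, bf (ms i) (ms j) = true → (i = 0 ∧ j = 1) ∨ (i = 1 ∧ j = 0) ∨ (i = 1 ∧ j = 2) ∨
    (i = 2 ∧ j = 1) ∨ (i = 2 ∧ j = 3) ∨ (i = 3 ∧ j = 2) ∨ (i = 3 ∧ j = 4) ∨ (i = 4 ∧ j = 3) ∨ (i = 4 ∧ j = 5) ∨
    (i = 5 ∧ j = 4) ∨ (i = 2 ∧ j = 6) ∨ (i = 6 ∧ j = 2) ∨ (i = 5 ∧ j = 7) ∨ (i = 7 ∧ j = 5) := by
  decide +kernel

def wt8 : List (List (Fin 8)) := [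
  [], [], [], [], [], [], [], [], [], [], [], [], [], [], [], [], [], [1], [], [2,0,1], [], [6,5,4,3,2,0,1], 
  [], [2,6,5,4,3,2,1], [], [5,7,3,4,2,3,1,2,6,5,4,3,2,1], [], 
  [4,3,2,6,1,2,3,4,5,7,0,1,2,6,3,4,2,3,1,2,6,5,4,3,2,1], [], [7,5,3,4,2,3,1,2,0,1], [], 
  [7,6,2,3,1,2,6,5,4,3,2,1], [], [], [4,2,3,1,2,6,5,4,3,2,1], [3,1,2,0,1], [], [], [4,2,3,1,2,0,1], 
  [3,1,2,6,5,4,3,2,1], [], [], [7,1,2,6,3,4,2,3,1,2,6,5,4,3,2,1], [5,7,4,3,2,6,5,4,3,2,0,1], [], [], 
  [6,2,3,4,5,7,0,1,2,6,3,4,2,3,1,2,6,5,4,3,2,1], [7,5,4,3,2,1], [], [4,3,2,6,5,4,3,2,1], [3,2,1], [], [], 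
  [4,3,2,0,1], [3,2,6,5,4,3,2,0,1], [], [], [7,6,3,4,2,3,1,2,6,5,4,3,2,1], [5,7,4,3,1,2,6,5,4,3,2,1], [], [], 
  [2,6,1,2,3,4,5,7,0,1,2,6,3,4,2,3,1,2,6,5,4,3,2,1], [7,5,4,3,1,2,0,1], [], [], [], [], [], 
  [6,2,3,1,2,6,5,4,3,2,1], [6,4,3,1,2,0,1], [5,3,4,2,3,1,2,0,1], [1,2,6,4,3,2,1], [], [], [], [], 
  [7,2,6,5,4,3,2,1], [3,4,5,7,0,1,2,6,3,4,2,3,1,2,6,5,4,3,2,1], [7,6,5,4,3,2,0,1], 
  [2,3,4,5,7,1,2,6,3,4,2,3,1,2,6,5,4,3,2,1], [], [2,6,3,2,1], [], [6,3,2,0,1], [6,4,3,2,1], [], 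
  [2,6,4,3,2,0,1], [], [], [5,7,6,4,2,3,1,2,6,5,4,3,2,1], [], [5,7,4,5,3,4,2,3,1,2,0,1], 
  [3,4,5,7,2,6,3,4,2,3,1,2,6,5,4,3,2,1], [], [1,2,3,4,5,7,0,1,2,6,3,4,2,3,1,2,6,5,4,3,2,1], [], [], [], 
  [6,3,4,2,3,1,2,6,5,4,3,2,1], [6,1,2,0,1], [2,3,1,2,6,4,3,2,1], [5,4,3,1,2,0,1], [], [], [], [], 
  [7,4,3,2,6,5,4,3,2,1], [5,7,0,1,2,6,3,4,2,3,1,2,6,5,4,3,2,1], [4,5,7,1,2,6,3,4,2,3,1,2,6,5,4,3,2,1], 
  [7,3,2,6,5,4,3,2,0,1], [], [], [], [1,2,6,3,4,2,3,1,2,6,5,4,3,2,1], [6,2,1], [], [5,4,3,2,1], [], [], 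
  [3,2,6,4,3,2,1], [], [7,4,2,3,1,2,6,5,4,3,2,1], [5,7,2,6,3,4,2,3,1,2,6,5,4,3,2,1], [], 
  [7,3,1,2,6,5,4,3,2,1], [], [], [4,5,7,6,3,4,2,3,1,2,6,5,4,3,2,1], [], [], [], [], [], [], [], [], 
  [7,5,4,3,2,6,1,2,3,4,5,7,0,1,2,6,3,4,2,3,1,2,6,5,4,3,2,1], [], [3,4,2,3,1,2,6,5,4,3,2,1], [1,2,0,1], 
  [6,2,3,1,2,6,4,3,2,1], [6,5,4,3,1,2,0,1], [3,4,2,3,1,2,0,1], [1,2,6,5,4,3,2,1], [], 
  [7,6,4,2,3,1,2,6,5,4,3,2,1], [], [7,4,5,3,4,2,3,1,2,0,1], [], 
  [3,2,6,1,2,3,4,5,7,0,1,2,6,3,4,2,3,1,2,6,5,4,3,2,1], [], [4,5,7,3,4,2,3,1,2,6,5,4,3,2,1], [0,1], [], [2,1], 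
  [], [6,5,4,3,2,1], [], [2,6,5,4,3,2,0,1], [], [], [], [5,7,4,3,2,6,5,4,3,2,1], 
  [7,0,1,2,6,3,4,2,3,1,2,6,5,4,3,2,1], [], [], [7,5,4,3,2,0,1], [6,2,3,4,5,7,1,2,6,3,4,2,3,1,2,6,5,4,3,2,1], 
  [2,3,1,2,0,1], [4,3,1,2,6,5,4,3,2,1], [], [], [2,3,1,2,6,5,4,3,2,1], [4,3,1,2,0,1], [], [], [], 
  [5,7,4,2,3,1,2,6,5,4,3,2,1], [7,2,6,3,4,2,3,1,2,6,5,4,3,2,1], [], [], [7,5,4,2,3,1,2,0,1], 
  [6,1,2,3,4,5,7,0,1,2,6,3,4,2,3,1,2,6,5,4,3,2,1], [], [4,3,2,6,5,4,3,2,0,1], [], [], [3,2,0,1], [4,3,2,1], 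
  [], [], [3,2,6,5,4,3,2,1], [], [], [], [], [3,4,5,7,1,2,6,3,4,2,3,1,2,6,5,4,3,2,1], [7,2,6,5,4,3,2,0,1], 
  [2,3,4,5,7,0,1,2,6,3,4,2,3,1,2,6,5,4,3,2,1], [7,6,5,4,3,2,1], [4,5,3,4,2,3,1,2,0,1], [1,2,6,3,2,1], 
  [6,4,2,3,1,2,6,5,4,3,2,1], [6,3,1,2,0,1], [], [], [], [], [], [7,3,4,2,3,1,2,6,5,4,3,2,1], [], 
  [5,4,3,2,6,1,2,3,4,5,7,0,1,2,6,3,4,2,3,1,2,6,5,4,3,2,1], [7,1,2,6,5,4,3,2,1], [], [7,6,5,4,3,1,2,0,1], [], 
  [2,6,3,2,0,1], [], [6,3,2,1], [], [], [6,4,3,2,0,1], [], [2,6,4,3,2,1], [], [], 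
  [5,7,1,2,6,3,4,2,3,1,2,6,5,4,3,2,1], [7,4,3,2,6,5,4,3,2,0,1], [7,3,2,6,5,4,3,2,1], 
  [4,5,7,0,1,2,6,3,4,2,3,1,2,6,5,4,3,2,1], [], [], [2,6,1,2,0,1], [2,6,3,4,2,3,1,2,6,5,4,3,2,1], [], [], [], 
  [], [5,4,2,3,1,2,0,1], [3,1,2,6,4,3,2,1], [], [5,7,6,3,4,2,3,1,2,6,5,4,3,2,1], [7,4,3,1,2,6,5,4,3,2,1], [], 
  [4,5,7,2,6,3,4,2,3,1,2,6,5,4,3,2,1], [], [], [7,2,3,1,2,6,5,4,3,2,1], [0,1,2,6,3,4,2,3,1,2,6,5,4,3,2,1], [], 
  [], [6,2,0,1], [], [5,4,3,2,0,1], [3,2,6,4,3,2,0,1], []]

def mwE : List (Fin 8) → ℕ → ℕ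
  | [], x => x
  | i :: l, x => rr (ms i) (mwE l x)

theorem wt_ok : ∀ v : Fin 256, ns v → mwE (wt8.getD v []) 137 = v := by decide +kernel

theorem ns137 : ns 137 := by decide

theorem mwE_ns (l : List (Fin 8)) : ns (mwE l 137) := by
  induction l with
  | nil => exact ns137
  | cons i l ih => exact rr_ns (ms_ns i) ih

section prep

variable {T k V : Type*} [Group T] [Field k] [AddCommGroup V] [Module k V] (R : PRep T k V) (τ : ℕ → ℕ → T)

/-- negatives of the simple reflections -/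
structure Rf (S0 : Module.End k V) (S : Fin 8 → Module.End k V) : Prop where
  s0 : S0 * S0 = 1
  sq : ∀ i, S i * S i = 1
  dm : ∀ i, Module.finrank k (eig ⊤ (S i) 1) = 1
  m0 : ∀ i, S i * S0 ∈ R.L (τ (ms i) n0)

variable {R τ} (D : OmData τ) {S0 : Module.End k V} {S : Fin 8 → Module.End k V} (H : Rf R τ S0 S)

theorem mul_inv_swap {X Y : Module.End k V} (hX : X * X = 1) (hY : Y * Y = 1) : (X * Y) * (Y * X) = 1 := by
  calc (X * Y) * (Y * X) = X * (Y * Y) * X := by simp only [mul_assoc]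
    _ = 1 := by rw [hY, mul_one, hX]

include D

theorem half_inv {n : ℕ} (hn : ns n) {X : Module.End k V} (hX : X * X = 1) (hS0 : S0 * S0 = 1)
    (h : X * S0 ∈ R.L (τ n n0)) : S0 * X ∈ R.L (τ n0 n) := by
  rw [← D.inv hn ns_n0]
  exact inv_mem R h (mul_inv_swap hX hS0)

theorem half_mul {n m : ℕ} (hn : ns n) (hm : ns m) {X Y : Module.End k V} (hS0 : S0 * S0 = 1) (hY : Y * Y = 1)
    (h : X * S0 ∈ R.L (τ n n0)) (h' : Y * S0 ∈ R.L (τ m n0)) : X * Y ∈ R.L (τ n m) := by
  have h3 := R.mul h (half_inv D hm hY hS0 h')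
  rw [D.mul hn ns_n0 hm] at h3
  rw [show X * Y = X * S0 * (S0 * Y) by
    calc X * Y = X * (S0 * S0) * Y := by rw [hS0, mul_one]
      _ = _ := by simp only [mul_assoc]]
  exact h3

include H

theorem Rf.mem2 (i j : Fin 8) : S i * S j ∈ R.L (τ (ms i) (ms j)) :=
  half_mul D (ms_ns i) (ms_ns j) H.s0 (H.sq j) (H.m0 i) (H.m0 j)

omit D H in
theorem inj_of_sq {X : Module.End k V} (h : X * X = 1) : Function.Injective X := by
  intro a b hab
  have := congrArg X hab
  rwa [← Module.End.mul_apply, ← Module.End.mul_apply, h] at this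

variable [FiniteDimensional k V] (h2 : (2 : k) ≠ 0) (hV : Module.finrank k V = 8)

omit D H in
include h2 hV in
theorem eq_one_of_dims {X Y G : Module.End k V} {c : k} (hX : X * X = 1) (hY : Y * Y = 1)
    (hG : Function.Injective G) (h : G * X = c • (Y * G)) (dX : Module.finrank k (eig ⊤ X 1) = 1)
    (dY : Module.finrank k (eig ⊤ Y 1) = 1) : c = 1 := by
  have : Nontrivial V := Module.nontrivial_of_finrank_pos (R := k) (by rw [hV]; norm_num)
  have h3 : G = (c * c) • G := by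
    calc G = (G * X) * X := by rw [mul_assoc, hX, mul_one]
      _ = (c • (Y * G)) * X := by rw [h]
      _ = c • (Y * (G * X)) := by rw [smul_mul_assoc, mul_assoc]
      _ = c • (Y * (c • (Y * G))) := by rw [h]
      _ = (c * c) • (Y * Y * G) := by rw [mul_smul_comm, smul_smul, mul_assoc]
      _ = _ := by rw [hY, one_mul]
  have hG0 : G ≠ 0 := by
    rintro rfl
    obtain ⟨v, hv⟩ := exists_ne (0 : V)
    exact hv (hG (by rw [LinearMap.zero_apply, LinearMap.zero_apply]))
  have h4 : (1 - c * c) • G = 0 := by rw [sub_smul, one_smul, ← h3, sub_self]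
  have h5 : c * c = 1 := by
    rcases smul_eq_zero.1 h4 with h' | h'
    · exact (sub_eq_zero.1 h').symm
    · exact absurd h' hG0
  rcases mul_self_eq_one_iff.1 h5 with h' | h'
  · exact h'
  · exfalso
    have h6 : G * X = (-Y) * G := by rw [h, h', neg_one_smul, neg_mul]
    have h7 := finrank_eig_conj (a := -1) hG h6
    have h8 : eig ⊤ (-Y) (-1) = eig ⊤ Y 1 := by
      ext x
      rw [mem_eig, mem_eig, LinearMap.neg_apply, neg_smul, neg_inj]
    have h9 := finrank_add (W := ⊤) (A := X) (a := 1) h2 one_ne_zero (fun _ _ => trivial) (by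
      rw [hX, mul_one, one_smul])
    rw [finrank_top] at h9
    rw [h8] at h7
    omega

include h2 hV

theorem Rf.comm {i j : Fin 8} (hij : bf (ms i) (ms j) = false) : S i * S j = S j * S i := by
  have h1 := R.mul (H.mem2 D i j) (H.mem2 D i j)
  rw [D.sq (ms_ns i) (ms_ns j) hij] at h1
  obtain ⟨c, -, h1⟩ := R.one h1
  have h3 : S i * S j = c • (S j * S i) := by
    calc S i * S j = (S i * S j * (S i * S j)) * (S j * S i) := by
          rw [mul_assoc (S i * S j), mul_inv_swap (H.sq i) (H.sq j), mul_one]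
      _ = c • (S j * S i) := by rw [h1, smul_mul_assoc, one_mul]
  have hc := eq_one_of_dims h2 hV (H.sq j) (H.sq j) (inj_of_sq (H.sq i)) h3 (H.dm j) (H.dm j)
  rw [h3, hc, one_smul]

theorem Rf.braid {i j : Fin 8} (hij : bf (ms i) (ms j) = true) : S i * S j * S i = S j * S i * S j := by
  have h1 := R.mul (R.mul (H.mem2 D i j) (H.mem2 D i j)) (H.mem2 D i j)
  have ht : τ (ms i) (ms j) * τ (ms i) (ms j) * τ (ms i) (ms j) = 1 := by
    have e1 : rr (ms i) (ms j) = rr (ms j) (ms i) := by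
      rw [rr_of_not hij, rr_of_not (by rw [bf_comm]; exact hij), Nat.xor_comm]
    rw [D.cj (ms_ns j) (ms_ns i) (ms_ns j), D.conjR (rr_ns (ms_ns i) (ms_ns j)) (ms_ns j) (ms_ns i), e1,
      D.self (rr_ns (ms_ns j) (ms_ns i))]
  rw [ht] at h1
  obtain ⟨c, -, h1⟩ := R.one h1
  have h3 : S i * S j * S i = c • (S j * (S i * S j)) := by
    have e : (S j * S i * S j) * (S j * S i * S j) = 1 := by
      calc (S j * S i * S j) * (S j * S i * S j) = S j * S i * (S j * S j) * S i * S j := by simp only [mul_assoc]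
        _ = S j * (S i * S i) * S j := by rw [H.sq j, mul_one]; simp only [mul_assoc]
        _ = 1 := by rw [H.sq i, mul_one, H.sq j]
    calc S i * S j * S i = S i * S j * S i * ((S j * S i * S j) * (S j * S i * S j)) := by rw [e, mul_one]
      _ = ((S i * S j) * (S i * S j) * (S i * S j)) * (S j * S i * S j) := by simp only [mul_assoc]
      _ = c • (S j * (S i * S j)) := by rw [h1, smul_mul_assoc, one_mul, mul_assoc]
  have hc := eq_one_of_dims (G := S i * S j) h2 hV (H.sq i) (H.sq j) (by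
    show Function.Injective (S i * S j)
    rw [Module.End.mul_eq_comp, LinearMap.coe_comp]
    exact (inj_of_sq (H.sq i)).comp (inj_of_sq (H.sq j))) h3 (H.dm i) (H.dm j)
  rw [h3, hc, one_smul, mul_assoc]

variable (hirr : ∀ W : Submodule k V, (∀ i, ∀ w ∈ W, S i w ∈ W) → W = ⊥ ∨ W = ⊤)

include hirr

/-- root vectors and structure constants -/
theorem Rf.exists_roots : ∃ (e : Fin 8 → V) (a : Fin 8 → Fin 8 → k), (∀ i j, S i (e j) = -e j + a i j • e i) ∧
    (∀ i, a i i = 2) ∧ (∀ i j, i ≠ j → bf (ms i) (ms j) = false → a i j = 0) ∧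
    (∀ i j, bf (ms i) (ms j) = true → a i j * a j i = 1) ∧ LinearIndependent k e := by
  have hline : ∀ i, ∃ e : V, e ≠ 0 ∧ S i e = e ∧ ∀ x : V, S i x = x → ∃ c : k, x = c • e := by
    intro i
    have h1 := H.dm i
    rw [finrank_eq_one_iff'] at h1
    obtain ⟨e, he0, hall⟩ := h1
    have he := e.2
    rw [mem_eig, one_smul] at he
    refine ⟨e, fun h => he0 (Subtype.ext h), he.2, fun x hx => ?_⟩
    obtain ⟨c, hc⟩ := hall ⟨x, by rw [mem_eig, one_smul]; exact ⟨trivial, hx⟩⟩
    exact ⟨c, (congrArg Subtype.val hc).symm⟩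
  choose e he0 hee hall using hline
  have hsq : ∀ i y, S i (S i y) = y := fun i y => by
    rw [← Module.End.mul_apply, H.sq, Module.End.one_apply]
  choose a ha using fun i j : Fin 8 => hall i (e j + S i (e j)) (by rw [map_add, hsq, add_comm])
  have haS : ∀ i j, S i (e j) = -e j + a i j • e i := by
    intro i j
    rw [← ha i j]; abel
  have hind : LinearIndependent k e := by
    rw [linearIndependent_iff_card_eq_finrank_span, Fintype.card_fin]
    rcases hirr (Submodule.span k (Set.range e)) (fun i w hw => by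
      induction hw using Submodule.span_induction with
      | mem w hw =>
        obtain ⟨j, rfl⟩ := hw
        rw [haS]
        exact Submodule.add_mem _ (Submodule.neg_mem _ (Submodule.subset_span ⟨j, rfl⟩))
          (Submodule.smul_mem _ _ (Submodule.subset_span ⟨i, rfl⟩))
      | zero => rw [map_zero]; exact Submodule.zero_mem _
      | add x y _ _ hx hy => rw [map_add]; exact Submodule.add_mem _ hx hy
      | smul c x _ hx => rw [map_smul]; exact Submodule.smul_mem _ _ hx) with h | h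
    · exfalso
      apply he0 0
      rw [← Submodule.mem_bot k, ← h]
      exact Submodule.subset_span ⟨0, rfl⟩
    · rw [Set.finrank, h, finrank_top, hV]
  refine ⟨e, a, haS, ?_, ?_, ?_, hind⟩
  · intro i
    have h := ha i i
    rw [hee, ← two_smul k (e i)] at h
    exact (smul_left_injective k (he0 i) h).symm
  · intro i j hij ho
    have h3 := LinearMap.congr_fun (H.comm D h2 hV ho) (e j)
    simp only [Module.End.mul_apply] at h3
    rw [hee j] at h3
    simp only [haS i j, haS j i, hee i, hee j, map_add, map_neg, map_smul] at h3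
    have h4 : (2 * a i j) • e i + (-(a i j * a j i)) • e j = 0 := by
      have h6 := sub_eq_zero.2 h3
      rw [← h6]
      module
    have h5 := linearIndependent_iff'.1 hind {i, j} (fun l => if l = i then 2 * a i j else
      -(a i j * a j i)) (by
        rw [Finset.sum_pair hij, if_pos rfl, if_neg (Ne.symm hij)]
        exact h4) i (by simp)
    simp only [if_true] at h5
    rcases mul_eq_zero.1 h5 with h | h
    · exact absurd h h2
    · exact h
  · intro i j ho
    have hij : i ≠ j := by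
      rintro rfl
      rw [bf_self] at ho
      exact absurd ho (by decide)
    have h3 := LinearMap.congr_fun (H.braid D h2 hV ho) (e j)
    simp only [Module.End.mul_apply] at h3
    rw [hee j] at h3
    simp only [haS i j, haS j i, hee i, hee j, map_add, map_neg, map_smul] at h3
    have h4 : (2 * (a i j * a j i - 1)) • e j + (-(a i j * (a i j * a j i - 1))) • e i = 0 := by
      have h6 := sub_eq_zero.2 h3.symm
      rw [← h6]
      module
    have h5 := linearIndependent_iff'.1 hind {j, i} (fun l => if l = j then 2 * (a i j * a j i - 1) else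
      -(a i j * (a i j * a j i - 1))) (by
        rw [Finset.sum_pair (Ne.symm hij), if_pos rfl, if_neg hij]
        exact h4) j (by simp)
    simp only [if_true] at h5
    rcases mul_eq_zero.1 h5 with h | h
    · exact absurd h h2
    · exact sub_eq_zero.1 h

/-- **The reflection representation.** -/
theorem Rf.exists_basis : ∃ b : Module.Basis (Fin 8) k V, ∀ i j, S i (b j) = -b j + (C8 i j : k) • b i := by
  obtain ⟨e, a, hS, h2', h0, h1, hind⟩ := H.exists_roots D h2 hV hirr
  let b0 := basisOfLinearIndependentOfCardEqFinrank hind (by rw [hV, Fintype.card_fin])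
  have hb0 : ∀ i, b0 i = e i := fun i => by
    rw [coe_basisOfLinearIndependentOfCardEqFinrank]
  have a01 := h1 0 1 (by decide +kernel)
  have a12 := h1 1 2 (by decide +kernel)
  have a23 := h1 2 3 (by decide +kernel)
  have a34 := h1 3 4 (by decide +kernel)
  have a45 := h1 4 5 (by decide +kernel)
  have a26 := h1 2 6 (by decide +kernel)
  have a57 := h1 5 7 (by decide +kernel)
  have nz : ∀ {x y : k}, x * y = 1 → y ≠ 0 := fun h h' => by rw [h', mul_zero] at h; exact zero_ne_one h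
  let d : Fin 8 → k := ![1, -a 1 0, a 1 0 * a 2 1, -(a 1 0 * a 2 1 * a 3 2), a 1 0 * a 2 1 * a 3 2 * a 4 3,
    -(a 1 0 * a 2 1 * a 3 2 * a 4 3 * a 5 4), -(a 1 0 * a 2 1 * a 6 2),
    a 1 0 * a 2 1 * a 3 2 * a 4 3 * a 5 4 * a 7 5]
  have hd : ∀ i, d i ≠ 0 := by
    have n1 := nz a01
    have n2 := nz a12
    have n3 := nz a23
    have n4 := nz a34
    have n5 := nz a45
    have n6 := nz a26
    have n7 := nz a57
    intro i
    fin_cases i
    · exact one_ne_zero
    · exact neg_ne_zero.2 n1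
    · exact mul_ne_zero n1 n2
    · exact neg_ne_zero.2 (mul_ne_zero (mul_ne_zero n1 n2) n3)
    · exact mul_ne_zero (mul_ne_zero (mul_ne_zero n1 n2) n3) n4
    · exact neg_ne_zero.2 (mul_ne_zero (mul_ne_zero (mul_ne_zero (mul_ne_zero n1 n2) n3) n4) n5)
    · exact neg_ne_zero.2 (mul_ne_zero (mul_ne_zero n1 n2) n6)
    · exact mul_ne_zero (mul_ne_zero (mul_ne_zero (mul_ne_zero (mul_ne_zero n1 n2) n3) n4) n5) n7
  have hda : ∀ i j, d j * a i j = (C8 i j : k) * d i := by
    intro i j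
    by_cases hij : i = j
    · rw [← hij, h2', C8_diag]
      push_cast
      ring
    by_cases ho : bf (ms i) (ms j) = false
    · rw [h0 i j hij ho, C8_non i j hij ho]
      push_cast
      ring
    rw [Bool.not_eq_false] at ho
    rw [C8_adj i j ho]
    push_cast
    rcases adj8 i j ho with ⟨rfl, rfl⟩ | ⟨rfl, rfl⟩ | ⟨rfl, rfl⟩ | ⟨rfl, rfl⟩ | ⟨rfl, rfl⟩ | ⟨rfl, rfl⟩ |
      ⟨rfl, rfl⟩ | ⟨rfl, rfl⟩ | ⟨rfl, rfl⟩ | ⟨rfl, rfl⟩ | ⟨rfl, rfl⟩ | ⟨rfl, rfl⟩ | ⟨rfl, rfl⟩ | ⟨rfl, rfl⟩
    · show (-a 1 0) * a 0 1 = -1 * 1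
      linear_combination -a01
    · show 1 * a 1 0 = -1 * (-a 1 0)
      ring
    · show (a 1 0 * a 2 1) * a 1 2 = -1 * (-a 1 0)
      linear_combination a 1 0 * a12
    · show (-a 1 0) * a 2 1 = -1 * (a 1 0 * a 2 1)
      ring
    · show (-(a 1 0 * a 2 1 * a 3 2)) * a 2 3 = -1 * (a 1 0 * a 2 1)
      linear_combination -(a 1 0 * a 2 1) * a23
    · show (a 1 0 * a 2 1) * a 3 2 = -1 * (-(a 1 0 * a 2 1 * a 3 2))
      ring
    · show (a 1 0 * a 2 1 * a 3 2 * a 4 3) * a 3 4 = -1 * (-(a 1 0 * a 2 1 * a 3 2))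
      linear_combination (a 1 0 * a 2 1 * a 3 2) * a34
    · show (-(a 1 0 * a 2 1 * a 3 2)) * a 4 3 = -1 * (a 1 0 * a 2 1 * a 3 2 * a 4 3)
      ring
    · show (-(a 1 0 * a 2 1 * a 3 2 * a 4 3 * a 5 4)) * a 4 5 = -1 * (a 1 0 * a 2 1 * a 3 2 * a 4 3)
      linear_combination -(a 1 0 * a 2 1 * a 3 2 * a 4 3) * a45
    · show (a 1 0 * a 2 1 * a 3 2 * a 4 3) * a 5 4 = -1 * (-(a 1 0 * a 2 1 * a 3 2 * a 4 3 * a 5 4))
      ring
    · show (-(a 1 0 * a 2 1 * a 6 2)) * a 2 6 = -1 * (a 1 0 * a 2 1)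
      linear_combination -(a 1 0 * a 2 1) * a26
    · show (a 1 0 * a 2 1) * a 6 2 = -1 * (-(a 1 0 * a 2 1 * a 6 2))
      ring
    · show (a 1 0 * a 2 1 * a 3 2 * a 4 3 * a 5 4 * a 7 5) * a 5 7 = -1 * (-(a 1 0 * a 2 1 * a 3 2 * a 4 3 * a 5 4))
      linear_combination (a 1 0 * a 2 1 * a 3 2 * a 4 3 * a 5 4) * a57
    · show (-(a 1 0 * a 2 1 * a 3 2 * a 4 3 * a 5 4)) * a 7 5 = -1 * (a 1 0 * a 2 1 * a 3 2 * a 4 3 * a 5 4 * a 7 5)
      ring
  refine ⟨b0.unitsSMul (fun i => Units.mk0 (d i) (hd i)), fun i j => ?_⟩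
  rw [Module.Basis.unitsSMul_apply, Module.Basis.unitsSMul_apply, hb0, hb0]
  simp only [Units.smul_def, Units.val_mk0, map_smul]
  rw [hS, smul_add, smul_neg, smul_smul, smul_smul, hda]

end prep

section words

variable {T k V : Type*} [Group T] [Field k] [AddCommGroup V] [Module k V] {R : PRep T k V} {τ : ℕ → ℕ → T}
  (D : OmData τ) {S0 : Module.End k V} {S : Fin 8 → Module.End k V} (H : Rf R τ S0 S)

/-- reflections as words -/
def hw (S : Fin 8 → Module.End k V) : List (Fin 8) → Module.End k V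
  | [] => S 0
  | i :: l => S i * hw S l * S i

include H in
theorem hw_sq (l : List (Fin 8)) : hw S l * hw S l = 1 := by
  induction l with
  | nil => exact H.sq 0
  | cons i l ih =>
    rw [hw]
    calc S i * hw S l * S i * (S i * hw S l * S i) = S i * hw S l * (S i * S i) * hw S l * S i := by
          simp only [mul_assoc]
      _ = S i * (hw S l * hw S l) * S i := by rw [H.sq, mul_one]; simp only [mul_assoc]
      _ = 1 := by rw [ih, mul_one, H.sq]

theorem hw_word (l : List (Fin 8)) : ∃ l', hw S l = pS S l' := by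
  induction l with
  | nil => exact ⟨[0], by rw [pS, pS, mul_one]; rfl⟩
  | cons i l ih =>
    obtain ⟨l', h⟩ := ih
    exact ⟨i :: (l' ++ [i]), by rw [hw, h, pS, pS_append, pS, pS, mul_one, mul_assoc]⟩

include D H

theorem hw_mem (l : List (Fin 8)) : hw S l * S0 ∈ R.L (τ (mwE l 137) n0) := by
  induction l with
  | nil => exact H.m0 0
  | cons i l ih =>
    have h1 := half_mul D (ms_ns i) (mwE_ns l) H.s0 (hw_sq H l) (H.m0 i) ih
    have h3 := R.mul h1 (H.m0 i)
    rw [D.cj (mwE_ns l) (ms_ns i) ns_n0] at h3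
    rw [hw, mwE, show S i * hw S l * S i * S0 = S i * hw S l * (S i * S0) by simp only [mul_assoc]]
    exact h3

theorem Rf.word (gen : Subgroup.closure {x | ∃ n m, ns n ∧ ns m ∧ x = τ n m} = ⊤) (s : T) :
    ∃ l, pS S l ∈ R.L s := by
  have hs : s ∈ Subgroup.closure {x | ∃ n m, ns n ∧ ns m ∧ x = τ n m} := by rw [gen]; trivial
  have hone : (1 : Module.End k V) ∈ R.L 1 := by
    obtain ⟨A, hA⟩ := R.ex 1
    obtain ⟨c, hc, rfl⟩ := R.one hA
    have := R.smul (inv_ne_zero hc) hA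
    rwa [smul_smul, inv_mul_cancel₀ hc, one_smul] at this
  induction hs using Subgroup.closure_induction with
  | mem x hx =>
    obtain ⟨n, m, hn, hm, rfl⟩ := hx
    have e1 := wt_ok ⟨n, hn.1⟩ hn
    have e2 := wt_ok ⟨m, hm.1⟩ hm
    simp only at e1 e2
    have h := half_mul D (mwE_ns (wt8.getD n [])) (mwE_ns (wt8.getD m [])) H.s0 (hw_sq H _) (hw_mem D H _)
      (hw_mem D H (wt8.getD m []))
    rw [e1, e2] at h
    obtain ⟨l, hl⟩ := hw_word (S := S) (wt8.getD n [])
    obtain ⟨l', hl'⟩ := hw_word (S := S) (wt8.getD m [])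
    rw [hl, hl', ← pS_append] at h
    exact ⟨_, h⟩
  | one => exact ⟨[], hone⟩
  | mul x y _ _ hx hy =>
    obtain ⟨l, hl⟩ := hx
    obtain ⟨l', hl'⟩ := hy
    exact ⟨l ++ l', by rw [pS_append]; exact R.mul hl hl'⟩
  | inv x _ hx =>
    obtain ⟨l, hl⟩ := hx
    exact ⟨l.reverse, inv_mem R hl (pS_mul_rev H.sq l)⟩

theorem Rf.good [FiniteDimensional k V] (h2 : (2 : k) ≠ 0) (hV : Module.finrank k V = 8)
    (hirr : ∀ W : Submodule k V, (∀ i, ∀ w ∈ W, S i w ∈ W) → W = ⊥ ∨ W = ⊤)
    (gen : Subgroup.closure {x | ∃ n m, ns n ∧ ns m ∧ x = τ n m} = ⊤) : Good R := by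
  obtain ⟨b, hb⟩ := H.exists_basis D h2 hV hirr
  refine ⟨{ carrier := {X | ∃ l, X = pS S l}, one_mem' := ⟨[], rfl⟩, mul_mem' := ?_ }, ?_, ?_, ?_⟩
  · rintro _ _ ⟨l, rfl⟩ ⟨l', rfl⟩
    exact ⟨l ++ l', (pS_append _ _ _).symm⟩
  · rintro _ ⟨l, rfl⟩
    exact ⟨_, ⟨l.reverse, rfl⟩, pS_mul_rev H.sq l, pS_rev_mul H.sq l⟩
  · intro s
    obtain ⟨l, hl⟩ := H.word D gen s
    exact ⟨_, ⟨l, rfl⟩, hl⟩
  · rintro _ ⟨l, rfl⟩ X' hX'
    obtain ⟨z, hz1, hz2⟩ := trace_word b hb C8_symm (n := 1) one_ne_zero C8_D8 D8_C8 l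
    rw [eq_rev H.sq hX', hz1, hz2]
    exact ⟨intCast_mem _ _, rfl⟩

end words

end Cfsg.Agent.H916.Om
end

-- part: H916/OmI
section
/-!
# `Ω₈⁺(2)` in dimension eight: the commuting case
-/

set_option autoImplicit false
set_option linter.unusedSectionVars false
set_option linter.unusedVariables false

namespace Cfsg.Agent.H916.Om

open SpSix SpEight Halving Pauli TreeTrace CliffTrace Dbl Matrix

section fano

variable {k V : Type*} [Field k] [AddCommGroup V] [Module k V]

/-- the combination attached to two commuting involutions -/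
def cmb (A B : Module.End k V) : Module.End k V := (2 : k)⁻¹ • (1 - A - B - A * B)

theorem cmb_apply (A B : Module.End k V) (x : V) : cmb A B x = (2 : k)⁻¹ • (x - A x - B x - A (B x)) := rfl

theorem half_two (h2 : (2 : k) ≠ 0) (x : V) : (2 : k)⁻¹ • (x + x) = x := by
  rw [← two_smul k x, smul_smul, inv_mul_cancel₀ h2, one_smul]

variable [FiniteDimensional k V] (h2 : (2 : k) ≠ 0) (hfin : Module.finrank k V ≤ 13)
    {T : Fin 7 → Module.End k V} {g1 g2 : Module.End k V} (D : FanoE T g1 g2) (hl : T 0 * T 1 * T 2 ≠ 1)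

include h2 in
theorem cmb_Z {a b : Fin 7} {x : V} (hx : x ∈ ZZ T) : cmb (T a) (T b) x = -x := by
  rw [cmb_apply, hx b, hx a]
  have : x - x - x - x = -x + -x := by abel
  rw [this, half_two h2]

include h2 in
theorem cmb_E {a b : Fin 7} (hab : a ≠ b) {u : Fin 7} {x : V} (hx : x ∈ EE T u) : cmb (T a) (T b) x = x := by
  rw [cmb_apply]
  have e : x - T a x - T b x - T a (T b x) = x + x := by
    by_cases ha : a = u
    · have hb : b ≠ u := fun h => hab (ha.trans h.symm)
      rw [mem_EE_ne hx hb, map_neg, ha, mem_EE_self hx]; abel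
    · by_cases hb : b = u
      · rw [hb, mem_EE_self hx, mem_EE_ne hx ha]; abel
      · rw [mem_EE_ne hx hb, map_neg, mem_EE_ne hx ha]; abel
  rw [e, half_two h2]

include h2 hfin D hl

theorem ext_fano {X Y : Module.End k V} (hZ : ∀ x ∈ ZZ T, X x = Y x) (hE : ∀ u, ∀ x ∈ EE T u, X x = Y x) : X = Y := by
  ext x
  obtain ⟨p, rfl⟩ := Phi_surj h2 hfin D hl x
  rw [Phi_apply, map_add, map_add, map_sum, map_sum, hZ _ p.1.2]
  congr 1
  exact Finset.sum_congr rfl fun u _ => hE u _ (p.2 u).2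

theorem cmb_eq {a b : Fin 7} (hab : a ≠ b) : cmb (T a) (T b) = cmb (T 0) (T 1) := by
  apply ext_fano h2 hfin D hl
  · intro x hx
    rw [cmb_Z h2 hx, cmb_Z h2 hx]
  · intro u x hx
    rw [cmb_E h2 hab hx, cmb_E h2 (by decide) hx]

theorem cmb_sq : cmb (T 0) (T 1) * cmb (T 0) (T 1) = 1 := by
  apply ext_fano h2 hfin D hl
  · intro x hx
    rw [Module.End.mul_apply, cmb_Z h2 hx, map_neg, cmb_Z h2 hx, neg_neg, Module.End.one_apply]
  · intro u x hx
    rw [Module.End.mul_apply, cmb_E h2 (by decide) hx, cmb_E h2 (by decide) hx, Module.End.one_apply]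

theorem eig_cmb : eig ⊤ (-cmb (T 0) (T 1)) 1 = ZZ T := by
  ext x
  rw [mem_eig, one_smul, LinearMap.neg_apply]
  constructor
  · rintro ⟨-, hx⟩
    have h3 : (2 : k) • x = (2 : k) • (-((2 : k)⁻¹ • (x - T 0 x - T 1 x - T 0 (T 1 x)))) := by
      rw [← cmb_apply, hx]
    rw [smul_neg, smul_smul, mul_inv_cancel₀ h2, one_smul] at h3
    have hs0 := D.sq' 0
    have hs1 := D.sq' 1
    have hc := D.comm' 0 1
    have h4 : (2 : k) • (T 0 x) = (2 : k) • x := by
      have h5 := congrArg (T 0) h3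
      rw [map_smul, map_neg, map_sub, map_sub, map_sub, hs0, hs0] at h5
      -- `2 T0 x = -(T0 x - x - T0 T1 x - T1 x)`
      have h6 : (4 : k) • (T 0 x) = (4 : k) • x := by
        have e1 : (3 : k) • x - T 0 x = T 1 x + T 0 (T 1 x) := by
          have : (3 : k) • x = (2 : k) • x + x := by module
          rw [this, h3]; abel
        have e2 : (3 : k) • (T 0 x) - x = T 1 x + T 0 (T 1 x) := by
          have : (3 : k) • (T 0 x) = (2 : k) • (T 0 x) + T 0 x := by module
          rw [this, h5]; abel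
        have e3 := e2.trans e1.symm
        have : (4 : k) • (T 0 x) = ((3 : k) • (T 0 x) - x) + (T 0 x + x) := by module
        rw [this, e3]
        module
      have : (4 : k) = 2 * 2 := by norm_num
      rw [this, mul_smul, mul_smul] at h6
      exact smul_right_injective V h2 h6
    have h0 : T 0 x = x := smul_right_injective V h2 h4
    apply ZZ_of_two h2 hfin D hl (u := 0) (u' := 1) (by decide) h0
    have h5 : T 0 (T 1 x) = T 1 x := by rw [hc, h0]
    rw [h5, h0] at h3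
    have h6 : (2 : k) • x = (2 : k) • T 1 x := by
      rw [h3]; module
    exact (smul_right_injective V h2 h6).symm
  · intro hx
    exact ⟨trivial, by rw [cmb_Z h2 hx, neg_neg]⟩

theorem eig_cmb_T : eig ⊤ (cmb (T 0) (T 1) * T 0) 1 = EE T 0 := by
  ext x
  rw [mem_eig, one_smul, Module.End.mul_apply]
  have hs0 := D.sq' 0
  have hs1 := D.sq' 1
  have hc := D.comm' 0 1
  constructor
  · rintro ⟨-, hx⟩
    -- decompose
    obtain ⟨p, rfl⟩ := Phi_surj h2 hfin D hl x
    rw [Phi_apply] at hx ⊢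
    set s := ∑ u ∈ Finset.univ.erase (0 : Fin 7), (p.2 u : V) with hs
    rw [← Finset.add_sum_erase _ _ (Finset.mem_univ (0 : Fin 7)), ← hs] at hx ⊢
    have h0s : T 0 s = -s := by
      rw [hs, map_sum, ← Finset.sum_neg_distrib]
      exact Finset.sum_congr rfl (fun u hu => mem_EE_ne (p.2 u).2 (Ne.symm (Finset.ne_of_mem_erase hu)))
    have hrs : cmb (T 0) (T 1) s = s := by
      rw [hs, map_sum]
      exact Finset.sum_congr rfl (fun u hu => cmb_E h2 (by decide) (p.2 u).2)
    have hT : T 0 ((p.1 : V) + (↑(p.2 0) + s)) = (p.1 : V) + (↑(p.2 0) + -s) := by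
      rw [map_add, map_add, p.1.2 0, mem_EE_self (p.2 0).2, h0s]
    have hcm : cmb (T 0) (T 1) ((p.1 : V) + (↑(p.2 0) + -s)) = -(p.1 : V) + (↑(p.2 0) + -s) := by
      rw [map_add, map_add, map_neg, cmb_Z h2 p.1.2, cmb_E h2 (by decide) (p.2 0).2, hrs]
    rw [hT, hcm] at hx
    have h3 : (2 : k) • ((p.1 : V) + s) = 0 := by
      have : (2 : k) • ((p.1 : V) + s) = ((p.1 : V) + (↑(p.2 0) + s)) - (-(p.1 : V) + (↑(p.2 0) + -s)) := by module
      rw [this, hx, sub_self]
    have h4 : (p.1 : V) + s = 0 := by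
      rcases smul_eq_zero.1 h3 with h' | h'
      · exact absurd h' h2
      · exact h'
    rw [show (p.1 : V) + (↑(p.2 0) + s) = (p.2 0 : V) + ((p.1 : V) + s) by abel, h4, add_zero]
    exact (p.2 0).2
  · intro hx
    exact ⟨trivial, by rw [mem_EE_self hx, cmb_E h2 (by decide) hx]⟩

/-- the reflection in terms of three others -/
theorem cmb_three {i j l : Fin 7} (hij : i ≠ j) (hil : i ≠ l) (hjl : j ≠ l) :
    cmb (T 0) (T 1) * T i = -((2 : k)⁻¹ • (1 + T i * T j + T i * T l - T j * T l)) := by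
  apply ext_fano h2 hfin D hl
  · intro x hx
    show cmb (T 0) (T 1) (T i x) = -((2 : k)⁻¹ • (x + T i (T j x) + T i (T l x) - T j (T l x)))
    rw [hx i, hx l, hx j, hx i, cmb_Z h2 hx, show x + x + x - x = x + x by abel, half_two h2]
  · intro u x hx
    show cmb (T 0) (T 1) (T i x) = -((2 : k)⁻¹ • (x + T i (T j x) + T i (T l x) - T j (T l x)))
    by_cases hi : i = u
    · have hj : j ≠ u := fun h => hij (hi.trans h.symm)
      have hl' : l ≠ u := fun h => hil (hi.trans h.symm)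
      rw [mem_EE_ne hx hl', mem_EE_ne hx hj, map_neg, map_neg, mem_EE_ne hx hj, hi, mem_EE_self hx,
        cmb_E h2 (by decide) hx, show x + -x + -x - - -x = -(x + x) by abel, smul_neg, half_two h2, neg_neg]
    · rw [mem_EE_ne hx hi, map_neg, cmb_E h2 (by decide) hx]
      by_cases hj : j = u
      · have hl' : l ≠ u := fun h => hjl (hj.trans h.symm)
        rw [mem_EE_ne hx hl', map_neg, map_neg, hj, mem_EE_self hx, mem_EE_ne hx hi,
          show x + -x + - -x - -x = x + x by abel, half_two h2]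
      · by_cases hl' : l = u
        · rw [hl', mem_EE_self hx, mem_EE_ne hx hj, map_neg, mem_EE_ne hx hi,
            show x + - -x + -x - -x = x + x by abel, half_two h2]
        · rw [mem_EE_ne hx hl', mem_EE_ne hx hj, map_neg, map_neg, mem_EE_ne hx hi, mem_EE_ne hx hj,
            show x + - -x + - -x - - -x = x + x by abel, half_two h2]

end fano

end Cfsg.Agent.H916.Om
end

-- part: H916/OmJ
section
/-!
# Cores with simple group `Ω₈⁺(2)` in dimension eight (and odd characteristic): self-dual, over the prime field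
-/

set_option autoImplicit false
set_option linter.unusedSectionVars false
set_option linter.unusedVariables false

namespace Cfsg.Agent.H916.Om

open SpSix SpEight Halving Pauli TreeTrace CliffTrace Dbl Cfsg Cfsg.Geo Cfsg.Agent.H915.LD Matrix
  Cfsg.Agent.LieClassical.OrthForms

theorem ms_lift : ∀ (i : Fin 8) (h : (i : ℕ) < 7), ms i = lift (sr ⟨i, h⟩) := by decide +kernel

theorem ms_orth : ∀ i : Fin 8, (i : ℕ) < 7 → bf n0 (ms i) = false := by decide +kernel

theorem lift_comm_check : rr 211 (rr (lift 1) (lift 1)) = lift 1 ∧ rr 211 (rr (lift 1) (lift 3)) = lift 3 ∧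
    rr 211 (rr (lift 1) (lift 4)) = lift 4 := by decide

section main

variable {T k V : Type*} [Group T] [Field k] [IsAlgClosed k] [AddCommGroup V] [Module k V] [FiniteDimensional k V]
  (R : PRep T k V) {τ : ℕ → ℕ → T} (D : OmData τ) (h2 : (2 : k) ≠ 0) (hV : Module.finrank k V = 8)

include D h2 hV

set_option maxHeartbeats 400000 in
/-- **The reflection system.** -/
theorem OmData.exists_Rf (hc : R.CommL (τ n0 (lift 1)) (τ n0 (lift 2))) : ∃ S0 S, Rf R τ S0 S := by
  have : Nontrivial V := Module.nontrivial_of_finrank_pos (R := k) (by rw [hV]; norm_num)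
  have hfin : Module.finrank k V ≤ 13 := by omega
  obtain ⟨Γ, hA⟩ := D.spData.exists_CA R hc
  have hl := hA.ne D.spData
  have FE := fanoE hA.cox hA.prod
  have hm : ∀ {v}, 0 < v → v < 64 → Ga Γ v ∈ R.L (τ n0 (lift v)) := fun h0 h => D.spData.ga_mem R hA.mem h0 h
  have hZ1 : Module.finrank k (ZZ (TT Γ)) = 1 := by
    have := finrank_eq h2 hfin FE hl
    omega
  set r0 : Module.End k V := cmb (TT Γ 0) (TT Γ 1) with hr0
  have r0sq : r0 * r0 = 1 := cmb_sq h2 hfin FE hl
  have r0c : ∀ {v}, 0 < v → v < 64 → r0 * Ga Γ v = Ga Γ v * r0 := by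
    intro v h0 hv
    obtain ⟨a, b, hab, ha, hb⟩ := two_orth ⟨v, hv⟩
    have ca : TT Γ a * Ga Γ v = Ga Γ v * TT Γ a := (ga_comm hA.cox (Nat.succ_pos (a : ℕ)) (by omega) h0 hv ha).eq
    have cb : TT Γ b * Ga Γ v = Ga Γ v * TT Γ b := (ga_comm hA.cox (Nat.succ_pos (b : ℕ)) (by omega) h0 hv hb).eq
    rw [hr0, ← cmb_eq h2 hfin FE hl hab, cmb, smul_mul_assoc, mul_smul_comm, sub_mul, sub_mul, sub_mul, mul_sub, mul_sub,
      mul_sub, one_mul, mul_one, ca, cb, mul_assoc, cb, ← mul_assoc, ca, mul_assoc]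
  -- dimensions
  have dmv : ∀ {v}, 0 < v → v < 64 → Module.finrank k (eig ⊤ (r0 * Ga Γ v) 1) = 1 := by
    have key : ∀ (l : List ℕ) (hl' : Adm l) {v : ℕ}, 0 < v → v < 64 →
        Module.finrank k (eig ⊤ (r0 * Ga Γ (act l v)) 1) = 1 → Module.finrank k (eig ⊤ (r0 * Ga Γ v) 1) = 1 := by
      intro l
      induction l with
      | nil => intro _ v _ _ h; exact h
      | cons x l ih =>
        intro hl' v hv0 hv h
        have hx0 := hl'.head.1
        have hx := hl'.head.2
        have h3 := ih hl'.tail (rf_pos hv0 (x := x)) (rf_lt hx hv) h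
        have q := ga_sq hA.cox x
        have e1 : Ga Γ x * (r0 * Ga Γ v) = (r0 * Ga Γ (rf x v)) * Ga Γ x := by
          rw [← mul_assoc, ← r0c hx0 hx, mul_assoc, ga_move hA.cox hx0 hx hv0 hv, mul_assoc]
        have e2 : Ga Γ x * (r0 * Ga Γ (rf x v)) = (r0 * Ga Γ v) * Ga Γ x := by
          calc Ga Γ x * (r0 * Ga Γ (rf x v)) = Ga Γ x * ((r0 * Ga Γ (rf x v)) * Ga Γ x) * Ga Γ x := by
                rw [mul_assoc, mul_assoc, q, mul_one]
            _ = (Ga Γ x * Ga Γ x) * (r0 * Ga Γ v) * Ga Γ x := by rw [← e1]; simp only [mul_assoc]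
            _ = _ := by rw [q, one_mul]
        have i1 := finrank_eig_conj (a := 1) (inj_of_sq q) e1
        have i2 := finrank_eig_conj (a := 1) (inj_of_sq q) e2
        omega
    intro v hv0 hv
    obtain ⟨p1, p3⟩ := toOne_ok ⟨v, hv⟩ (by rw [Ne, Fin.ext_iff]; simp; omega)
    simp only at p1 p3
    rw [List.all_eq_true] at p3
    refine key (toOne v) (fun x hx => by simpa using p3 x hx) hv0 hv ?_
    rw [p1]
    have h3 := eig_cmb_T h2 hfin FE hl
    rw [show r0 * Ga Γ 1 = cmb (TT Γ 0) (TT Γ 1) * TT Γ 0 from rfl, h3]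
    exact finrank_EE h2 hfin FE hl 0
  have dm0 : Module.finrank k (eig ⊤ (-r0) 1) = 1 := by
    rw [hr0, eig_cmb h2 hfin FE hl]
    exact hZ1
  -- the extra reflection
  obtain ⟨G, hG, G', hG', g1, g2⟩ := exists_unit R (τ 211 (lift 1))
  have n211 : ns 211 := by decide
  have l1 : ns (lift 1) := by decide
  have l3 : ns (lift 3) := by decide
  have l4 : ns (lift 4) := by decide
  have hGi : Function.Injective G := by
    intro x y hxy
    have := congrArg G' hxy
    rwa [← Module.End.mul_apply, ← Module.End.mul_apply, g2] at this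
  have hGi' : Function.Injective G' := by
    intro x y hxy
    have := congrArg G hxy
    rwa [← Module.End.mul_apply, ← Module.End.mul_apply, g1] at this
  obtain ⟨q1, q3, q4⟩ := lift_comm_check
  have hGX : ∀ {i j : Fin 7} (hij : i ≠ j), ns (lift (i + 1)) → ns (lift (j + 1)) →
      bf n0 (lift (i + 1)) = false → bf n0 (lift (j + 1)) = false → bf (lift (i + 1)) (lift (j + 1)) = false →
      rr 211 (rr (lift 1) (lift (i + 1))) = lift (i + 1) → rr 211 (rr (lift 1) (lift (j + 1))) = lift (j + 1) →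
      G * (TT Γ i * TT Γ j) = (TT Γ i * TT Γ j) * G := by
    intro i j hij ni nj oi oj oij ei ej
    have hX : TT Γ i * TT Γ j ∈ R.L (τ (lift (i + 1)) (lift (j + 1))) := by
      have h := R.mul (hm (v := (i : ℕ) + 1) (Nat.succ_pos _) (by omega)) (hm (v := (j : ℕ) + 1) (Nat.succ_pos _) (by omega))
      rw [D.symm ns_n0 ni oi, D.mul ni ns_n0 nj] at h
      exact h
    have hX2 : (TT Γ i * TT Γ j) * (TT Γ i * TT Γ j) = 1 := comm_sq (FE.sq i) (FE.sq j) (FE.comm i j)
    have hs : τ 211 (lift 1) * τ (lift (i + 1)) (lift (j + 1)) = τ (lift (i + 1)) (lift (j + 1)) * τ 211 (lift 1) := by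
      have h := D.conj n211 l1 ni nj
      rw [ei, ej, ← D.inv n211 l1] at h
      calc τ 211 (lift 1) * τ (lift (i + 1)) (lift (j + 1)) =
          (τ 211 (lift 1) * τ (lift (i + 1)) (lift (j + 1)) * (τ 211 (lift 1))⁻¹) * τ 211 (lift 1) := by group
        _ = _ := by rw [h]
    rcases R.conj_lift hG hX hX2 hX hX2 hs with h | h
    · exact h
    · exfalso
      have h' : G * (TT Γ i * TT Γ j) = (-(TT Γ i * TT Γ j)) * G := by rw [h, neg_mul]
      have h4 := finrank_eig_conj (a := 1) hGi h'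
      rw [eig_neg] at h4
      have h5 := finrank_prod_minus h2 hfin FE hl hij
      have h6 := finrank_add (W := ⊤) (A := TT Γ i * TT Γ j) (a := 1) h2 one_ne_zero (fun _ _ => trivial) (by
        rw [hX2, mul_one, one_smul])
      rw [finrank_top] at h6
      omega
  have c02 := hGX (i := 0) (j := 2) (by decide) l1 l3 (by decide) (by decide) (by decide) q1 q3
  have c03 := hGX (i := 0) (j := 3) (by decide) l1 l4 (by decide) (by decide) (by decide) q1 q4
  have c23 := hGX (i := 2) (j := 3) (by decide) l3 l4 (by decide) (by decide) (by decide) q3 q4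
  have hM : G * (r0 * TT Γ 0) = (r0 * TT Γ 0) * G := by
    rw [hr0, cmb_three h2 hfin FE hl (i := 0) (j := 2) (l := 3) (by decide) (by decide) (by decide), mul_neg, neg_mul,
      mul_smul_comm, smul_mul_assoc, mul_sub, mul_add, mul_add, sub_mul, add_mul, add_mul, c02, c03, c23, mul_one, one_mul]
  have hM2 : (r0 * TT Γ 0) * (r0 * TT Γ 0) = 1 :=
    comm_sq r0sq (FE.sq 0) (r0c (v := 1) (by norm_num) (by norm_num))
  have hMG' : (r0 * TT Γ 0) * G' * (r0 * TT Γ 0) = G' := by
    calc (r0 * TT Γ 0) * G' * (r0 * TT Γ 0) = (G' * G) * ((r0 * TT Γ 0) * G' * (r0 * TT Γ 0)) := by rw [g2, one_mul]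
      _ = G' * ((G * (r0 * TT Γ 0)) * G') * (r0 * TT Γ 0) := by simp only [mul_assoc]
      _ = G' * (r0 * TT Γ 0) * (G * G') * (r0 * TT Γ 0) := by rw [hM]; simp only [mul_assoc]
      _ = G' * ((r0 * TT Γ 0) * (r0 * TT Γ 0)) := by rw [g1, mul_one, mul_assoc]
      _ = G' := by rw [hM2, mul_one]
  -- conjugation of `G'` by `r0`
  have hr0G : r0 * G' * r0 = TT Γ 0 * G' * TT Γ 0 := by
    have hc0 : r0 * TT Γ 0 = TT Γ 0 * r0 := r0c (v := 1) (by norm_num) (by norm_num)
    have e1 : r0 = TT Γ 0 * (r0 * TT Γ 0) := by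
      rw [hc0, ← mul_assoc, FE.sq 0, one_mul]
    have e2 : r0 = (r0 * TT Γ 0) * TT Γ 0 := by
      rw [mul_assoc, FE.sq 0, mul_one]
    calc r0 * G' * r0 = (TT Γ 0 * (r0 * TT Γ 0)) * G' * ((r0 * TT Γ 0) * TT Γ 0) := by rw [← e1, ← e2]
      _ = TT Γ 0 * ((r0 * TT Γ 0) * G' * (r0 * TT Γ 0)) * TT Γ 0 := by simp only [mul_assoc]
      _ = _ := by rw [hMG']
  have hT0 : TT Γ 0 ∈ R.L (τ n0 (lift 1)) := hm (v := 1) (by norm_num) (by norm_num)
  have hmem7 : G * (-r0) * G' * (-r0) ∈ R.L (τ 91 n0) := by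
    have e : G * (-r0) * G' * (-r0) = G * TT Γ 0 * G' * TT Γ 0 := by
      rw [mul_neg, mul_neg, neg_mul, neg_mul, neg_neg]
      calc G * r0 * G' * r0 = G * (r0 * G' * r0) := by simp only [mul_assoc]
        _ = _ := by rw [hr0G]; simp only [mul_assoc]
    rw [e]
    have h := R.mul (R.mul (R.mul hG hT0) hG') hT0
    rw [D.inv n211 l1, D.conj n211 l1 ns_n0 l1, show rr 211 (rr (lift 1) n0) = 91 from by decide, q1,
      D.symm ns_n0 l1 (by decide), D.mul (by decide : ns 91) l1 ns_n0] at h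
    exact h
  refine ⟨-r0, fun i => if h : (i : ℕ) < 7 then r0 * Ga Γ (sr ⟨i, h⟩) else G * (-r0) * G', ?_, ?_, ?_, ?_⟩
  · rw [neg_mul_neg, r0sq]
  · intro i
    split_ifs with h
    · exact comm_sq r0sq (ga_sq hA.cox (sr ⟨i, h⟩)) (r0c (v := sr ⟨i, h⟩) (sr_pos ⟨i, h⟩) (sr_lt ⟨i, h⟩))
    · calc G * (-r0) * G' * (G * (-r0) * G') = G * (-r0) * (G' * G) * (-r0) * G' := by simp only [mul_assoc]
        _ = G * (-r0 * -r0) * G' := by rw [g2, mul_one]; simp only [mul_assoc]
        _ = 1 := by rw [neg_mul_neg, r0sq, mul_one, g1]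
  · intro i
    by_cases h : (i : ℕ) < 7
    · rw [dif_pos h]
      exact dmv (v := sr ⟨i, h⟩) (sr_pos ⟨i, h⟩) (sr_lt ⟨i, h⟩)
    · rw [dif_neg h]
      have e1 : G * (-r0) = (G * (-r0) * G') * G := by rw [mul_assoc (G * (-r0)), g2, mul_one]
      have e2 : G' * (G * (-r0) * G') = (-r0) * G' := by
        rw [mul_assoc G, ← mul_assoc G', g2, one_mul]
      have i1 := finrank_eig_conj (a := 1) hGi e1
      have i2 := finrank_eig_conj (a := 1) hGi' e2
      omega
  · intro i
    split_ifs with h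
    · have h3 := hm (sr_pos ⟨i, h⟩) (sr_lt ⟨i, h⟩)
      rw [← ms_lift i h, D.symm ns_n0 (ms_ns i) (ms_orth i h)] at h3
      have e : r0 * Ga Γ (sr ⟨i, h⟩) * -r0 = (-1 : k) • Ga Γ (sr ⟨i, h⟩) := by
        rw [mul_neg, r0c (v := sr ⟨i, h⟩) (sr_pos ⟨i, h⟩) (sr_lt ⟨i, h⟩), mul_assoc, r0sq, mul_one, neg_one_smul]
      rw [e]
      exact R.smul (by norm_num) h3
    · have hi : i = 7 := by apply Fin.ext; show (i : ℕ) = 7; omega
      rw [hi]
      exact hmem7

end main

section core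

universe u v

variable {ι : Type} [Fintype ι] [DecidableEq ι] {F : Type u} [Field F] {P : Subgroup (GL ι F)}

theorem core_good {T : Type v} [Group T] (hC : Core P) (e : Soc P ≃* T) {τ : ℕ → ℕ → T} (D : OmData τ)
    (gen : Subgroup.closure {x | ∃ n m, ns n ∧ ns m ∧ x = τ n m} = ⊤) (h2 : (2 : F) ≠ 0)
    (hn : Fintype.card ι = 8) : Good (coreRep hC e) := by
  have : Nonempty ι := hC.nonempty
  have h2' : (2 : AlgebraicClosure F) ≠ 0 := by
    intro h
    apply h2
    apply (algebraMap F (AlgebraicClosure F)).injective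
    rw [map_zero, map_ofNat, h]
  have hV : Module.finrank (AlgebraicClosure F) (ι → AlgebraicClosure F) = 8 := by
    rw [Module.finrank_fintype_fun_eq_card]; exact hn
  rcases D.spData.dichotomy (coreRep hC e) with hc | hc
  · obtain ⟨S0, S, H⟩ := D.exists_Rf (coreRep hC e) h2' hV hc
    exact H.good D h2' hV (irr_of_word hC e (H.word D gen)) gen
  · exact D.good_of_anti (coreRep hC e) h2' hV hc gen

/-- **`Ω₈⁺(2)` in dimension 8: self-dual, over the prime field.** -/
theorem omega_eight {K : Type v} [Field K] [Fintype K] (hK : ∀ x : K, x = 0 ∨ x = 1) (hC : Core P) (p : ℕ)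
    [_root_.Fact p.Prime] [CharP F p] (e : Soc P ≃* POmega K (quadFormPlus 4 K)) (h2 : (2 : F) ≠ 0)
    (hn : Fintype.card ι ≤ 13) : Fintype.card ι = 8 ∧ SD P ∧ Fr P p := by
  have h8 := omega_dim hK hC e h2 hn
  refine ⟨h8, ?_⟩
  rw [← coe_plusForm] at e
  exact of_bot (core_of_good hC e (core_good hC e (omData hK) (omGen hK) h2 h8))

end core

end Cfsg.Agent.H916.Om
end

-- part: H916/T8
section
/-!
# Summary: cores with simple group `Sp₆(2)` or `Ω₈⁺(2)` in odd characteristic and dimension at most 13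
-/

set_option autoImplicit false

namespace Cfsg.Agent.H916.T8

open Cfsg Cfsg.Agent.H915.LD

universe u v

variable {ι : Type} [Fintype ι] [DecidableEq ι] {F : Type u} [Field F] {P : Subgroup (GL ι F)}
  {K : Type v} [Field K] [Fintype K]

theorem zero_or_one (hK : Fintype.card K = 2) (x : K) : x = 0 ∨ x = 1 := by
  classical
  by_contra h
  rw [not_or] at h
  have h3 : ({0, 1, x} : Finset K).card ≤ Fintype.card K := Finset.card_le_univ _
  rw [Finset.card_insert_of_notMem, Finset.card_insert_of_notMem, Finset.card_singleton, hK] at h3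
  · omega
  · rw [Finset.mem_singleton]; exact fun h' => h.2 h'.symm
  · rw [Finset.mem_insert, Finset.mem_singleton]
    rintro (h' | h')
    · exact zero_ne_one h'
    · exact h.1 h'.symm

/-- **`Sp₆(2)`**: dimension 7 or 8, self-dual, over the prime field. -/
theorem sp (hK : Fintype.card K = 2) (hC : Core P) (p : ℕ) [Fact p.Prime] [CharP F p] (e : Soc P ≃* PSp 3 K)
    (h2 : (2 : F) ≠ 0) (hn : Fintype.card ι ≤ 13) :
    (Fintype.card ι = 7 ∨ Fintype.card ι = 8) ∧ SD P ∧ Fr P p := by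
  rcases SpSix.spSix_dim (zero_or_one hK) hC e h2 hn with h | h
  · exact ⟨Or.inl h, SpSix.spSix_seven (zero_or_one hK) hC p e h2 h⟩
  · exact ⟨Or.inr h, SpEight.spSix_eight (zero_or_one hK) hC p e h2 h⟩

/-- **`Ω₈⁺(2)`**: dimension 8, self-dual, over the prime field. -/
theorem om (hK : Fintype.card K = 2) (hC : Core P) (p : ℕ) [Fact p.Prime] [CharP F p]
    (e : Soc P ≃* POmega K (quadFormPlus 4 K)) (h2 : (2 : F) ≠ 0) (hn : Fintype.card ι ≤ 13) :
    Fintype.card ι = 8 ∧ SD P ∧ Fr P p :=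
  Om.omega_eight (zero_or_one hK) hC p e h2 hn

end Cfsg.Agent.H916.T8
end

private theorem dce_2e651e8c496f : _root_.True := by
  try have : _root_.True := by simp only [_root_.Cfsg.Agent.H916.CliffTrace.mvL.eq_2]
  try have : _root_.True := by simp only [_root_.Cfsg.Agent.H916.CliffTrace.mvR.eq_1]
  try have : _root_.True := by simp only [_root_.Cfsg.Agent.H916.Om.mwE.eq_2]
  try have : _root_.True := by simp only [_root_.Cfsg.Agent.H916.CliffTrace.mvL.eq_def]
  try have : _root_.True := by simp only [_root_.Cfsg.Agent.H916.Om.candz.eq_1]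
  try have : _root_.True := by simp only [_root_.Cfsg.Agent.H916.Om.cmb.eq_1]
  try have : _root_.True := by simp only [_root_.Cfsg.Agent.H916.Om.chkz.eq_1]
  try have : _root_.True := by simp only [_root_.Cfsg.Agent.H916.Om.hw.eq_def]
  try have : _root_.True := by simp only [_root_.Cfsg.Agent.H916.CliffTrace.mvR.eq_2]
  try have : _root_.True := by simp only [_root_.Cfsg.Agent.H916.Om.mwE.eq_1]
  try have : _root_.True := by simp only [_root_.Cfsg.Agent.H916.CliffTrace.mvL.eq_1]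
  try have : _root_.True := by simp only [_root_.Cfsg.Agent.H916.Om.nsl.eq_1]
  try have : _root_.True := by simp only [_root_.Cfsg.Agent.H916.CliffTrace.mvR.eq_def]
  try have : _root_.True := by simp only [_root_.Cfsg.Agent.H916.Om.hw.eq_2]
  try have : _root_.True := by simp only [_root_.Cfsg.Agent.H916.Om.okz.eq_1]
  try have : _root_.True := by simp only [_root_.Cfsg.Agent.H916.Om.hw.eq_1]
  try have : _root_.True := by simp only [_root_.Cfsg.Agent.H916.Om.mwE.eq_def]
  exact _root_.True.intro
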