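import Cfsg.Agent.H916.SpSixJ_mg
import Cfsg.Agent.S0296
import Cfsg.Agent.ClassicalGeometry.Reflection
import Cfsg.Agent.FastGrp
import Cfsg.Agent.Prune
set_option linter.all false
prune_inst 0x7f00000000000000000000000000000000000000000000000000000000000000000000000000000000000000000000000000000000000000000000000000000000000000000000000000000000000000003fffffffffffffffffffffffffffbeffbdffffffff
open scoped Cfsg.Agent.FastGrp

/-!
# The simple group `Ω₈⁺(2)`: the products of two reflections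
-/

set_option autoImplicit false
set_option linter.unusedSectionVars false
set_option linter.unusedVariables false

namespace Cfsg.Agent.H916.Om

open scoped commutatorElement
open SpSix Cfsg Matrix QuadraticMap Cfsg.Agent.ClassicalGeometry.Reflection Cfsg.Agent.LieClassical.OrthForms

section bits

variable {K : Type*} [Field K] (hK : ∀ x : K, x = 0 ∨ x = 1)

/-- the vector of a mask -/
def vec (K : Type*) [Field K] (v : ℕ) : Fin 4 ⊕ Fin 4 → K :=
  Sum.elim (fun i => cb K (v.testBit i)) (fun i => cb K (v.testBit (i + 4)))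

include hK in
theorem q_vec (a : ℕ) : plusForm 4 K (vec K a) = cb K (qf a) := by
  rw [coe_plusForm, quadFormPlus_apply, Fin.sum_univ_four]
  simp only [vec, Sum.elim_inl, Sum.elim_inr, cb_mul, cb_add hK]
  congr 1
  show (((((a.testBit 0 && a.testBit 4) ^^ (a.testBit 1 && a.testBit 5)) ^^
    (a.testBit 2 && a.testBit 6)) ^^ (a.testBit 3 && a.testBit 7))) = _
  rw [qf, Bool.xor_assoc]

include hK in
theorem polar_vec (a b : ℕ) : polar (plusForm 4 K) (vec K a) (vec K b) = cb K (bf a b) := by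
  rw [polar_plusForm, Fin.sum_univ_four]
  simp only [vec, Sum.elim_inl, Sum.elim_inr, cb_mul, cb_add hK]
  congr 1
  have key : ∀ x y : Bool, (x && y) = (y && x) := by decide
  show ((((((a.testBit 0 && b.testBit 4) ^^ (b.testBit 0 && a.testBit 4)) ^^
    ((a.testBit 1 && b.testBit 5) ^^ (b.testBit 1 && a.testBit 5))) ^^
    ((a.testBit 2 && b.testBit 6) ^^ (b.testBit 2 && a.testBit 6)))) ^^
    ((a.testBit 3 && b.testBit 7) ^^ (b.testBit 3 && a.testBit 7))) = _
  rw [bf, Bool.xor_assoc, key (b.testBit 0), key (b.testBit 1), key (b.testBit 2), key (b.testBit 3)]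

include hK in
theorem vec_add (a b : ℕ) : vec K a + vec K b = vec K (a ^^^ b) := by
  funext i
  rcases i with i | i <;> simp [vec, cb_add hK, Nat.testBit_xor]

theorem exists_mask8 : ∀ ε : Fin 8 → Bool, ∃ m : Fin 256, ∀ i : Fin 8, (m : ℕ).testBit i = ε i :=
  fun ε => ⟨⟨Nat.ofBits ε, Nat.ofBits_lt_two_pow ε⟩, fun i => Nat.testBit_ofBits_lt ε i i.2⟩

include hK in
theorem exists_vec (x : Fin 4 ⊕ Fin 4 → K) : ∃ v : ℕ, v < 256 ∧ x = vec K v := by
  classical
  obtain ⟨m, hm⟩ := exists_mask8 (fun i => if h : (i : ℕ) < 4 then decide (x (Sum.inl ⟨i, h⟩) = 1) else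
    decide (x (Sum.inr ⟨(i : ℕ) - 4, by omega⟩) = 1))
  refine ⟨m, m.2, ?_⟩
  have hc : ∀ y : K, y = cb K (decide (y = 1)) := by
    intro y
    rcases hK y with h | h <;> simp [cb, h]
  funext j
  rcases j with j | j
  · have h1 := hm ⟨j, by omega⟩
    simp only [j.2, dif_pos, Fin.eta] at h1
    rw [vec, Sum.elim_inl, h1]
    exact hc _
  · have h1 := hm ⟨j + 4, by omega⟩
    simp only [Nat.not_lt.2 (Nat.le_add_left 4 (j : ℕ)), dif_neg, not_false_eq_true] at h1
    rw [vec, Sum.elim_inr, h1]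
    have h2 : (⟨(j : ℕ) + 4 - 4, by omega⟩ : Fin 4) = j := by ext; simp
    rw [h2]
    exact hc _

theorem vec_inj {a b : ℕ} (ha : a < 256) (hb : b < 256) (h : vec K a = vec K b) : a = b := by
  have h1 : ∀ i : Fin 4, a.testBit i = b.testBit i := fun i => cb_inj (congrFun h (Sum.inl i))
  have h2 : ∀ i : Fin 4, a.testBit (i + 4) = b.testBit (i + 4) := fun i => cb_inj (congrFun h (Sum.inr i))
  apply Nat.eq_of_testBit_eq
  intro j
  by_cases hj : j < 4
  · exact h1 ⟨j, hj⟩
  by_cases hj' : j < 8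
  · have := h2 ⟨j - 4, by omega⟩
    simp only at this
    rwa [Nat.sub_add_cancel (by omega)] at this
  · rw [Nat.testBit_lt_two_pow (lt_of_lt_of_le ha (by
      calc 256 = 2 ^ 8 := by norm_num
        _ ≤ 2 ^ j := Nat.pow_le_pow_right (by norm_num) (by omega))),
      Nat.testBit_lt_two_pow (lt_of_lt_of_le hb (by
      calc 256 = 2 ^ 8 := by norm_num
        _ ≤ 2 ^ j := Nat.pow_le_pow_right (by norm_num) (by omega)))]

theorem cb_true : cb K true = 1 := rfl

theorem cb_false : cb K false = 0 := rfl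

end bits

section group

variable {K : Type*} [Field K] (hK : ∀ x : K, x = 0 ∨ x = 1)

/-- isometries -/
abbrev Iso (K : Type*) [Field K] := isometryGroup K (⇑(plusForm 4 K))

/-- matrix of an isometry -/
abbrev mt (g : Iso K) : Matrix (Fin 4 ⊕ Fin 4) (Fin 4 ⊕ Fin 4) K := ((g : Matrix.GeneralLinearGroup (Fin 4 ⊕ Fin 4) K) :
  Matrix (Fin 4 ⊕ Fin 4) (Fin 4 ⊕ Fin 4) K)

open Classical in
/-- the reflection of a mask -/
noncomputable def rf8 (K : Type*) [Field K] (v : ℕ) : Iso K :=
  if h : plusForm 4 K (vec K v) ≠ 0 then reflIso (plusForm 4 K) (vec K v) h else 1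

include hK in
theorem q_ne {v : ℕ} (hv : ns v) : plusForm 4 K (vec K v) ≠ 0 := by
  rw [q_vec hK, hv.2, cb_true]; exact one_ne_zero

include hK in
theorem rf8_eq {v : ℕ} (hv : ns v) : rf8 K v = reflIso (plusForm 4 K) (vec K v) (q_ne hK hv) := by
  rw [rf8, dif_pos (q_ne hK hv)]

include hK in
theorem rf8_sq {v : ℕ} (hv : ns v) : rf8 K v * rf8 K v = 1 := by
  rw [rf8_eq hK hv, reflIso_mul_self]

include hK in
theorem rf8_vec {v : ℕ} (hv : ns v) (x : ℕ) : mt (rf8 K v) *ᵥ vec K x = vec K (rr v x) := by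
  rw [rf8_eq hK hv]
  unfold mt
  rw [coe_reflIso, reflectionMatrix_mulVec, q_vec hK, hv.2, polar_vec hK, cb_true, inv_one, one_mul]
  cases h : bf v x
  · rw [cb_false, zero_smul, sub_zero, rr_of_orth h]
  · rw [cb_true, one_smul, rr_of_not h, ← vec_add hK, sub_eq_add_neg, add_comm]
    congr 1
    funext i
    exact neg_eq' hK _

include hK in
theorem conj_rf8 {v w : ℕ} (hv : ns v) (hw : ns w) (g : Iso K) (h : mt g *ᵥ vec K v = vec K w) :
    g * rf8 K v * g⁻¹ = rf8 K w := by
  rw [rf8_eq hK hv, rf8_eq hK hw, conj_reflIso _ _ _ g (by rw [h]; exact q_ne hK hw)]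
  congr 1

include hK in
theorem rf8_conj {v w : ℕ} (hv : ns v) (hw : ns w) : rf8 K v * rf8 K w * rf8 K v = rf8 K (rr v w) := by
  have h := conj_rf8 hK hw (rr_ns hv hw) (rf8 K v) (rf8_vec hK hv w)
  rwa [inv_eq_of_mul_eq_one_left (rf8_sq hK hv)] at h

include hK in
theorem mem_omega {n m : ℕ} (hn : ns n) (hm : ns m) : rf8 K n * rf8 K m ∈ Omega K (⇑(plusForm 4 K)) := by
  have key : ∀ {n m : ℕ}, ns n → ns m → bf n m = true → rf8 K n * rf8 K m ∈ Omega K (⇑(plusForm 4 K)) := by
    intro n m hn hm h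
    have hx : ns (n ^^^ m) := ⟨Nat.xor_lt_two_pow (n := 8) hn.1 hm.1, by rw [qf_xor, hn.2, hm.2, h]; rfl⟩
    have h1 : rr (n ^^^ m) n = m := by
      rw [rr_of_not (by rw [bf_comm, bf_xor, bf_self, h]; rfl), Nat.xor_comm n m, Nat.xor_assoc, Nat.xor_self,
        Nat.xor_zero]
    have h2 := rf8_conj hK hx hn
    rw [h1] at h2
    rw [← h2]
    have h3 : rf8 K n * (rf8 K (n ^^^ m) * rf8 K n * rf8 K (n ^^^ m)) = ⁅rf8 K n, rf8 K (n ^^^ m)⁆ := by
      rw [commutatorElement_def, inv_eq_of_mul_eq_one_left (rf8_sq hK hn),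
        inv_eq_of_mul_eq_one_left (rf8_sq hK hx)]
      simp only [mul_assoc]
    rw [h3]
    exact Subgroup.commutator_mem_commutator (Subgroup.mem_top _) (Subgroup.mem_top _)
  cases h : bf n m
  · obtain ⟨z, hz, h1, h2⟩ := exists_mid ⟨n, hn.1⟩ ⟨m, hm.1⟩ hn hm h
    have h3 : rf8 K n * rf8 K m = (rf8 K n * rf8 K z) * (rf8 K z * rf8 K m) := by
      calc rf8 K n * rf8 K m = rf8 K n * (rf8 K z * rf8 K z) * rf8 K m := by rw [rf8_sq hK hz, mul_one]
        _ = _ := by simp only [mul_assoc]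
    rw [h3]
    exact Subgroup.mul_mem _ (key hn hz h1) (key hz hm h2)
  · exact key hn hm h

open Classical in
/-- products of two reflections in `Ω` -/
noncomputable def tauO (K : Type*) [Field K] (n m : ℕ) : Omega K (⇑(plusForm 4 K)) :=
  if h : rf8 K n * rf8 K m ∈ Omega K (⇑(plusForm 4 K)) then ⟨_, h⟩ else 1

include hK in
theorem coe_tauO {n m : ℕ} (hn : ns n) (hm : ns m) : (tauO K n m : Iso K) = rf8 K n * rf8 K m := by
  rw [tauO, dif_pos (mem_omega hK hn hm)]

/-- products of two reflections in the simple group -/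
noncomputable def tauP (K : Type*) [Field K] (n m : ℕ) : POmega K (⇑(plusForm 4 K)) := QuotientGroup.mk (tauO K n m)

include hK in
theorem tauO_mul {n m y : ℕ} (hn : ns n) (hm : ns m) (hy : ns y) : tauO K n m * tauO K m y = tauO K n y := by
  apply Subtype.ext
  rw [Subgroup.coe_mul, coe_tauO hK hn hm, coe_tauO hK hm hy, coe_tauO hK hn hy]
  calc rf8 K n * rf8 K m * (rf8 K m * rf8 K y) = rf8 K n * (rf8 K m * rf8 K m) * rf8 K y := by simp only [mul_assoc]
    _ = _ := by rw [rf8_sq hK hm, mul_one]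

include hK in
theorem tauO_cj {n m y : ℕ} (hn : ns n) (hm : ns m) (hy : ns y) :
    tauO K m n * tauO K m y = tauO K (rr m n) y := by
  apply Subtype.ext
  rw [Subgroup.coe_mul, coe_tauO hK hm hn, coe_tauO hK hm hy, coe_tauO hK (rr_ns hm hn) hy, ← rf8_conj hK hm hn]
  simp only [mul_assoc]

include hK in
theorem ext8 {A B : Iso K} (h : ∀ v : ℕ, v < 256 → mt A *ᵥ vec K v = mt B *ᵥ vec K v) : A = B := by
  apply isometryGroup_ext
  intro x
  obtain ⟨v, hv, rfl⟩ := exists_vec hK x
  exact h v hv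

include hK in
theorem tauO_vec {n m : ℕ} (hn : ns n) (hm : ns m) (x : ℕ) :
    mt (tauO K n m : Iso K) *ᵥ vec K x = vec K (rr n (rr m x)) := by
  rw [coe_tauO hK hn hm, coe_mul_mulVec, rf8_vec hK hm, rf8_vec hK hn]

include hK in
theorem tauO_fano : tauO K n0 (lift 1) * tauO K n0 (lift 2) * tauO K n0 (lift 3) * tauO K n0 (lift 4) *
    tauO K n0 (lift 5) * tauO K n0 (lift 6) * tauO K n0 (lift 7) = 1 := by
  apply Subtype.ext
  apply ext8 hK
  intro v hv
  have c : ∀ (a b : Omega K (⇑(plusForm 4 K))) (x : Fin 4 ⊕ Fin 4 → K),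
      mt ((a * b : Omega K (⇑(plusForm 4 K))) : Iso K) *ᵥ x = mt (a : Iso K) *ᵥ (mt (b : Iso K) *ᵥ x) :=
    fun a b x => coe_mul_mulVec _ _ _ _
  rw [c, c, c, c, c, c]
  rw [tauO_vec hK ns_n0 (m := lift 7) (by decide), tauO_vec hK ns_n0 (m := lift 6) (by decide),
    tauO_vec hK ns_n0 (m := lift 5) (by decide), tauO_vec hK ns_n0 (m := lift 4) (by decide),
    tauO_vec hK ns_n0 (m := lift 3) (by decide), tauO_vec hK ns_n0 (m := lift 2) (by decide),
    tauO_vec hK ns_n0 (m := lift 1) (by decide)]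
  have h := fano_check ⟨v, hv⟩
  simp only at h
  rw [h]
  rw [Subgroup.coe_one]
  show _ = ((1 : Matrix.GeneralLinearGroup (Fin 4 ⊕ Fin 4) K) : Matrix (Fin 4 ⊕ Fin 4) (Fin 4 ⊕ Fin 4) K) *ᵥ _
  rw [Units.val_one, Matrix.one_mulVec]

include hK in
theorem tauO_ne : tauO K n0 (lift 1) * tauO K n0 (lift 2) * tauO K n0 (lift 3) ∉
    Subgroup.center (Omega K (⇑(plusForm 4 K))) := by
  intro h
  have h1 := Subgroup.mem_center_iff.1 h (tauO K 17 21)
  have c : ∀ (a b : Omega K (⇑(plusForm 4 K))) (x : Fin 4 ⊕ Fin 4 → K),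
      mt ((a * b : Omega K (⇑(plusForm 4 K))) : Iso K) *ᵥ x = mt (a : Iso K) *ᵥ (mt (b : Iso K) *ᵥ x) :=
    fun a b x => coe_mul_mulVec _ _ _ _
  have h2 := congrArg (fun y : Omega K (⇑(plusForm 4 K)) => mt (y : Iso K) *ᵥ vec K 32) h1
  simp only [c] at h2
  rw [tauO_vec hK (n := 17) (m := 21) (by decide) (by decide), tauO_vec hK ns_n0 (m := lift 3) (by decide),
    tauO_vec hK ns_n0 (m := lift 2) (by decide), tauO_vec hK ns_n0 (m := lift 1) (by decide),
    tauO_vec hK (n := 17) (m := 21) (by decide) (by decide), tauO_vec hK ns_n0 (m := lift 3) (by decide),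
    tauO_vec hK ns_n0 (m := lift 2) (by decide), tauO_vec hK ns_n0 (m := lift 1) (by decide)] at h2
  have h5 := vec_inj (by decide +kernel) (by decide +kernel) h2
  revert h5
  decide +kernel

include hK in
theorem omData : OmData (tauP K) where
  mul {n m y} hn hm hy := by
    show QuotientGroup.mk (tauO K n m * tauO K m y) = QuotientGroup.mk _
    rw [tauO_mul hK hn hm hy]
  cj {n m y} hn hm hy := by
    show QuotientGroup.mk (tauO K m n * tauO K m y) = QuotientGroup.mk _
    rw [tauO_cj hK hn hm hy]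
  fano := by
    show QuotientGroup.mk (tauO K n0 (lift 1) * tauO K n0 (lift 2) * tauO K n0 (lift 3) * tauO K n0 (lift 4) *
      tauO K n0 (lift 5) * tauO K n0 (lift 6) * tauO K n0 (lift 7)) = _
    rw [tauO_fano hK]; rfl
  ne := by
    intro h
    apply tauO_ne hK
    rw [← QuotientGroup.eq_one_iff]
    exact h

include hK in
theorem omGen [Fintype K] : Subgroup.closure {x : POmega K (⇑(plusForm 4 K)) | ∃ n m, ns n ∧ ns m ∧ x = tauP K n m} = ⊤ := by
  have hs : IsSimpleGroup (POmega K (⇑(plusForm 4 K))) := by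
    rw [coe_plusForm]
    exact S0296.result 4 le_rfl
  have hnorm : (Subgroup.closure {x : POmega K (⇑(plusForm 4 K)) | ∃ n m, ns n ∧ ns m ∧ x = tauP K n m}).Normal := by
    apply Subgroup.Normal.mk
    intro x hx g
    induction g using QuotientGroup.induction_on with
    | H g =>
      induction hx using Subgroup.closure_induction with
      | mem x hx =>
        obtain ⟨n, m, hn, hm, rfl⟩ := hx
        apply Subgroup.subset_closure
        obtain ⟨n', hn', e1⟩ := exists_vec hK (mt (g : Iso K) *ᵥ vec K n)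
        obtain ⟨m', hm', e2⟩ := exists_vec hK (mt (g : Iso K) *ᵥ vec K m)
        have hq : ∀ {n n' : ℕ}, ns n → n' < 256 → mt (g : Iso K) *ᵥ vec K n = vec K n' → ns n' := by
          intro n n' hn hn' he
          refine ⟨hn', ?_⟩
          have h1 := (mem_isometryGroup_iff _ _).1 (g : Iso K).2 (vec K n)
          rw [show ((((g : Iso K) : Matrix.GeneralLinearGroup (Fin 4 ⊕ Fin 4) K) : Matrix _ _ K) *ᵥ vec K n) = vec K n' from he,
            q_vec hK, q_vec hK, hn.2] at h1
          exact cb_inj h1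
        have hn2 := hq hn hn' e1
        have hm2 := hq hm hm' e2
        refine ⟨n', m', hn2, hm2, ?_⟩
        show QuotientGroup.mk (g * tauO K n m * g⁻¹) = QuotientGroup.mk _
        congr 1
        apply Subtype.ext
        rw [Subgroup.coe_mul, Subgroup.coe_mul, Subgroup.coe_inv, coe_tauO hK hn hm, coe_tauO hK hn2 hm2,
          ← conj_rf8 hK hn hn2 _ e1, ← conj_rf8 hK hm hm2 _ e2]
        group
      | one => rw [mul_one, mul_inv_cancel]; exact Subgroup.one_mem _
      | mul a b _ _ ha hb =>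
        have : (QuotientGroup.mk g : POmega K (⇑(plusForm 4 K))) * (a * b) * (QuotientGroup.mk g)⁻¹ =
          (QuotientGroup.mk g * a * (QuotientGroup.mk g)⁻¹) * (QuotientGroup.mk g * b * (QuotientGroup.mk g)⁻¹) := by group
        rw [this]
        exact Subgroup.mul_mem _ ha hb
      | inv a _ ha =>
        have : (QuotientGroup.mk g : POmega K (⇑(plusForm 4 K))) * a⁻¹ * (QuotientGroup.mk g)⁻¹ =
          (QuotientGroup.mk g * a * (QuotientGroup.mk g)⁻¹)⁻¹ := by group
        rw [this]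
        exact Subgroup.inv_mem _ ha
  rcases hnorm.eq_bot_or_eq_top with h | h
  · exfalso
    have hmem : ∀ {m : ℕ}, ns m → tauP K n0 m = 1 := by
      intro m hm
      rw [← Subgroup.mem_bot, ← h]
      exact Subgroup.subset_closure ⟨n0, m, ns_n0, hm, rfl⟩
    have h2 := (omData hK).ne
    rw [hmem (m := lift 1) (by decide), hmem (m := lift 2) (by decide), hmem (m := lift 3) (by decide)] at h2
    exact h2 (by rw [one_mul, one_mul])
  · exact h

end group

end Cfsg.Agent.H916.Om

private theorem dce_42f8862ce03b : _root_.True := by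
  try have : _root_.True := by simp only [_root_.Cfsg.Agent.H916.Om.tauO.eq_1]
  try have : _root_.True := by simp only [_root_.Cfsg.Agent.H916.Om.rf8.eq_1]
  try have : _root_.True := by simp only [_root_.Cfsg.Agent.H916.Om.vec.eq_1]
  try have : _root_.True := by simp only [_root_.Cfsg.Agent.H916.Om.qf.eq_1]
  try have : _root_.True := by simp only [_root_.Cfsg.Agent.H916.Om.bf.eq_1]
  exact _root_.True.intro
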