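import Mathlib
import Cfsg.Agent.H916.SpSixJ_mg
import Cfsg.Agent.H906.Cover_m3
import Cfsg.Agent.H916.OmB
import Cfsg.Agent.Lib.Hoist
import Cfsg.Agent.FastGrp
import Cfsg.Agent.Prune
set_option linter.all false
prune_inst 0x7fffedffbbfe7bffdfff7e7fa79ecffdffbfbfffe6fff9cbffe069ffabbf7b928dc57bad8be032fe1fd7e21410f87b43fffffeffea6bd87ffffd1ff41ffbffdffdf7b508519c88b41fbc2ff603f0778e7f3fffffffffffffffffffffffffffbeffbfffffffff
open scoped Cfsg.Agent.FastGrp

-- part: H916/SpSixA
section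
/-!
# Seven commuting involutions permuted like the points of the Fano plane, acting on a 7-dimensional space
-/

set_option autoImplicit false
set_option linter.unusedSectionVars false
set_option linter.unusedVariables false

namespace Cfsg.Agent.H916.SpSix

section masks

/-- the action of the matrix `e1 → e2 → e3 → e1` on the seven points (the point `i` is the vector with bits `i+1`) -/
def s1 : Fin 7 → Fin 7 := ![1, 3, 5, 0, 2, 4, 6]

/-- the action of the matrix `e1 → e1 + e2` -/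
def s2 : Fin 7 → Fin 7 := ![2, 1, 0, 3, 6, 5, 4]

/-- the action on masks -/
def pm (s : Fin 7 → Fin 7) (m : ℕ) : ℕ :=
  ((List.finRange 7).map fun i : Fin 7 => if m.testBit i.val then 2 ^ (s i).val else 0).sum

def stepL (l : List ℕ) : List ℕ := (l ++ l.map (pm s1) ++ l.map (pm s2)).eraseDups

def orb (m : ℕ) : List ℕ := stepL (stepL (stepL (stepL (stepL (stepL [m])))))

theorem s1_surj : Function.Surjective s1 := by decide

theorem s2_surj : Function.Surjective s2 := by decide

private noncomputable def _root_.Cfsg.Agent.KO98afb64.k0 : type_of% @Decidable.decide := @(fun x0 x1 => @Decidable.rec.{1} _ @(fun x2 => @Bool) @(fun x2 => @Bool.false) @(fun x2 => @Bool.true) @x1)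
private theorem _root_.Cfsg.Agent.KO98afb64.e0 : @Decidable.decide = @_root_.Cfsg.Agent.KO98afb64.k0 := by delta _root_.Cfsg.Agent.KO98afb64.k0; rfl'
private noncomputable def _root_.Cfsg.Agent.KO98afb64.k1l (n : Nat) (P : ∀ k, k < n → Prop) (H : ∀ k h, Decidable (P k h)) (m : Nat) : m ≤ n → Bool := @Nat.rec (fun m => m ≤ n → Bool) (fun _ => true) (fun k ih h => @Decidable.rec (P k h) (fun _ => Bool) (fun _ => false) (fun _ => ih (Nat.le_of_succ_le h)) (H k h)) m
private theorem _root_.Cfsg.Agent.KO98afb64.k1ls (n : Nat) (P : ∀ k, k < n → Prop) (H : ∀ k h, Decidable (P k h)) (m : Nat) : ∀ h : m ≤ n, _root_.Cfsg.Agent.KO98afb64.k1l n P H m h = true ↔ ∀ k (g : k < m), P k (Nat.lt_of_lt_of_le g h) := by induction m with | zero => exact fun _ => ⟨fun _ _ g => absurd g (Nat.not_lt_zero _), fun _ => rfl⟩ | succ m ih => intro h; show @Decidable.rec (P m h) (fun _ => Bool) (fun _ => false) (fun _ => _root_.Cfsg.Agent.KO98afb64.k1l n P H m (Nat.le_of_succ_le h)) (H m h)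 = true ↔ _; cases H m h with | isFalse q => exact ⟨fun g => absurd g Bool.false_ne_true, fun g => absurd (g m (Nat.lt_succ_self m)) q⟩ | isTrue q => exact ⟨fun g k hk => (Nat.lt_succ_iff_lt_or_eq.1 hk).elim ((ih _).1 g k) fun e => by subst e; exact q, fun g => (ih _).2 fun k hk => g k (Nat.lt_succ_of_lt hk)⟩
private noncomputable def _root_.Cfsg.Agent.KO98afb64.k1 (n : Nat) (P : ∀ k, k < n → Prop) (H : ∀ k h, Decidable (P k h)) : Decidable (∀ k h, P k h) := @Bool.rec (fun b => _root_.Cfsg.Agent.KO98afb64.k1l n P H n (Nat.le_refl n) = b → Decidable (∀ k h, P k h)) (fun g => isFalse fun q => Bool.false_ne_true (g.symm.trans ((_root_.Cfsg.Agent.KO98afb64.k1ls n P H n _).2 fun k h => q k h))) (fun g => isTrue fun k h => (_root_.Cfsg.Agent.KO98afb64.k1ls n P H n _).1 g k h) (_root_.Cfsg.Agent.KO98afb64.k1l n P H n (Nat.le_refl n)) rfl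
private theorem _root_.Cfsg.Agent.KO98afb64.e1 : @Nat.decidableBallLT = @_root_.Cfsg.Agent.KO98afb64.k1 := funext fun _ => funext fun _ => funext fun _ => Subsingleton.elim _ _
private noncomputable def _root_.Cfsg.Agent.KO98afb64.k2 : type_of% @Nat.decidableForallFin := @(fun x0 x1 x2 => @Decidable.rec.{1} _ @(fun x3 => @Decidable ((x4 : @Fin @x0) → @x1 @x4)) @(fun x3 => @Decidable.isFalse _ (@decidable_of_decidable_of_iff._proof_1 _ _ (@Nat.decidableForallFin._proof_1 _ @x1) @x3)) @(fun x3 => @Decidable.isTrue _ (@Iff.mp _ _ (@Nat.decidableForallFin._proof_1 _ @x1) @x3)) (@Cfsg.Agent.KO98afb64.k1 @x0 @(fun x3 x4 => @x1 (@Fin.mk _ @x3 @x4)) @(fun x3 x4 => @x2 (@Fin.mk _ @x3 @x4))))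
private theorem _root_.Cfsg.Agent.KO98afb64.e2 : @Nat.decidableForallFin = @_root_.Cfsg.Agent.KO98afb64.k2 := by delta _root_.Cfsg.Agent.KO98afb64.k2; rewrite [← Cfsg.Agent.KO98afb64.e1]; rfl'
private noncomputable def _root_.Cfsg.Agent.KO98afb64.k3 : type_of% @Bool.decEq := @(fun x0 x1 => @Bool.rec.{1} @(fun x2 => @Decidable (@Eq.{1} _ @x2 @x1)) (@Bool.rec.{1} @(fun x2 => @Decidable (@Eq.{1} _ @Bool.false @x2)) (@Decidable.isTrue _ (@rfl.{1} _ _)) (@Decidable.isFalse _ @(fun x2 => @Bool.noConfusion.{0} _ _ _ @x2)) @x1) (@Bool.rec.{1} @(fun x2 => @Decidable (@Eq.{1} _ @Bool.true @x2)) (@Decidable.isFalse _ @(fun x2 => @Bool.noConfusion.{0} _ _ _ @x2)) (@Decidable.isTrue _ (@rfl.{1} _ _)) @x1) @x0)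
private theorem _root_.Cfsg.Agent.KO98afb64.e3 : @Bool.decEq = @_root_.Cfsg.Agent.KO98afb64.k3 := by delta _root_.Cfsg.Agent.KO98afb64.k3; rfl'
private noncomputable def _root_.Cfsg.Agent.KO98afb64.k4 : type_of% @instDecidableEqBool := @Cfsg.Agent.KO98afb64.k3
private theorem _root_.Cfsg.Agent.KO98afb64.e4 : @instDecidableEqBool = @_root_.Cfsg.Agent.KO98afb64.k4 := by delta _root_.Cfsg.Agent.KO98afb64.k4; rewrite [← Cfsg.Agent.KO98afb64.e3]; rfl'
private noncomputable def _root_.Cfsg.Agent.KO98afb64.oEq.{ku} (α : Sort ku) (a b : Nat) (f t : α) : α := @Decidable.rec (a = b) (fun _ => α) (fun _ => f) (fun _ => t) (Nat.decEq a b)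
private noncomputable def _root_.Cfsg.Agent.KO98afb64.k5.{ku} (α : Sort ku) (a b : Nat) (f t : α) : α := @Bool.rec (fun _ => α) f t (Nat.beq a b)
private theorem _root_.Cfsg.Agent.KO98afb64.e5.{ku} : @_root_.Cfsg.Agent.KO98afb64.oEq.{ku} = @_root_.Cfsg.Agent.KO98afb64.k5.{ku} := funext fun α => funext fun a => funext fun b => funext fun f => funext fun t => by delta _root_.Cfsg.Agent.KO98afb64.oEq _root_.Cfsg.Agent.KO98afb64.k5; cases h : Nat.beq a b <;> cases Nat.decEq a b <;> rename_i g <;> first | rfl | exact absurd g (Nat.ne_of_beq_eq_false h) | exact absurd (Nat.eq_of_beq_eq_true h) g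
private noncomputable def _root_.Cfsg.Agent.KO98afb64.k6 : type_of% @Nat.testBit := @(fun x0 x1 => @Bool.rec.{1} @(fun x2 => @Bool) @Bool.true @Bool.false (@Cfsg.Agent.KO98afb64.k5.{1} @Bool (@Nat.land (nat_lit 1) (@Nat.shiftRight @x0 @x1)) (nat_lit 0) @Bool.false @Bool.true))
private theorem _root_.Cfsg.Agent.KO98afb64.e6 : @Nat.testBit = @_root_.Cfsg.Agent.KO98afb64.k6 := by delta _root_.Cfsg.Agent.KO98afb64.k6; rewrite [← Cfsg.Agent.KO98afb64.e5.{1}]; rfl'
private noncomputable def _root_.Cfsg.Agent.KO98afb64.oB.{ku} (α : Sort ku) (c : Bool) (f t : α) : α := @Decidable.rec (c = true) (fun _ => α) (fun _ => f) (fun _ => t) (instDecidableEqBool c true)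
private noncomputable def _root_.Cfsg.Agent.KO98afb64.k7.{ku} (α : Sort ku) (c : Bool) (f t : α) : α := @Bool.rec (fun _ => α) f t c
private theorem _root_.Cfsg.Agent.KO98afb64.e7.{ku} : @_root_.Cfsg.Agent.KO98afb64.oB.{ku} = @_root_.Cfsg.Agent.KO98afb64.k7.{ku} := funext fun α => funext fun c => funext fun f => funext fun t => by cases c <;> rfl
private theorem _root_.Cfsg.Agent.KO98afb64.e8.{ku, kv} {α : Type kv} {M : List α → Sort ku} (φ : ∀ l, M l) {z : M List.nil} {s : ∀ a l, M l → M (List.cons a l)} (h0 : φ List.nil = z) (hs : ∀ a l, φ (List.cons a l) = s a l (φ l)) (l : List α) : φ l = @List.rec α M z s l := List.rec h0 (fun a l ih => (hs a l).trans (congrArg (s a l) ih)) l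
private noncomputable def _root_.Cfsg.Agent.KO98afb64.k9.{ku0, ku1} : type_of% @List.foldr.{ku0, ku1} := @(fun x0 x1 x2 x3 x4 => @List.rec.{(ku1+1), ku0} @x0 @(fun x5 => @x1) @x3 @(fun x5 x6 x7 => @x2 @x5 @x7) @x4)
private theorem _root_.Cfsg.Agent.KO98afb64.e9.{ku0, ku1} : @List.foldr.{ku0, ku1} = @_root_.Cfsg.Agent.KO98afb64.k9.{ku0, ku1} := by delta _root_.Cfsg.Agent.KO98afb64.k9; funext a0 a1 a2 a3 a4; refine (_root_.Cfsg.Agent.KO98afb64.e8 (fun a4 => @List.foldr.{ku0, ku1} a0 a1 a2 a3 a4) ?_ (fun c0 c1 => ?_) a4 :) <;> (rfl')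
private noncomputable def _root_.Cfsg.Agent.KO98afb64.k10.{ku0, ku1} : type_of% @List.map.{ku0, ku1} := @(fun x0 x1 x2 x3 => @List.rec.{(ku1+1), ku0} @x0 @(fun x4 => @List.{ku1} @x1) [] @(fun x4 x5 x6 => (@x2 @x4) :: @x6) @x3)
private theorem _root_.Cfsg.Agent.KO98afb64.e10.{ku0, ku1} : @List.map.{ku0, ku1} = @_root_.Cfsg.Agent.KO98afb64.k10.{ku0, ku1} := by delta _root_.Cfsg.Agent.KO98afb64.k10; funext a0 a1 a2 a3; refine (_root_.Cfsg.Agent.KO98afb64.e8 (fun a3 => @List.map.{ku0, ku1} a0 a1 a2 a3) ?_ (fun c0 c1 => ?_) a3 :) <;> (rfl')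
private theorem _root_.Cfsg.Agent.KO98afb64.e11.{ku} {M : Nat → Sort ku} (φ : ∀ n, M n) {z : M Nat.zero} {s : ∀ n, M n → M (Nat.succ n)} (h0 : φ Nat.zero = z) (hs : ∀ n, φ (Nat.succ n) = s n (φ n)) (n : Nat) : φ n = @Nat.rec M z s n := Nat.rec h0 (fun n ih => (hs n).trans (congrArg (s n) ih)) n
private noncomputable def _root_.Cfsg.Agent.KO98afb64.k12.{ku0} : type_of% @Fin.foldr.loop.{ku0} := @(fun x0 x1 x2 x3 x4 x5 => @Nat.rec.{ku0} @(fun x6 => (@LE.le.{0} _ _ @x6 @x1) → @x0 → @x0) @(fun x6 x7 => @x7) @(fun x6 x7 x8 x9 => @x7 (@Nat.le_of_lt _ _ @x8) (@x2 (@Fin.mk _ @x6 @x8) @x9)) @x3 @x4 @x5)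
private theorem _root_.Cfsg.Agent.KO98afb64.e12.{ku0} : @Fin.foldr.loop.{ku0} = @_root_.Cfsg.Agent.KO98afb64.k12.{ku0} := by delta _root_.Cfsg.Agent.KO98afb64.k12; funext a0 a1 a2 a3 a4 a5; refine (congrFun (congrFun (_root_.Cfsg.Agent.KO98afb64.e11 (fun a3 a4 a5 => @Fin.foldr.loop.{ku0} a0 a1 a2 a3 a4 a5) ?_ (fun c0 => ?_) a3) a4) a5 :) <;> (rfl')
private noncomputable def _root_.Cfsg.Agent.KO98afb64.k13 : (by first | exact type_of% @Cfsg.Agent.H916.SpSix.pm | exact Unit : Sort _) := by first | (refine @Subtype.val _ (fun g => @Cfsg.Agent.H916.SpSix.pm = @g) (@Subtype.mk _ _ (@(fun x0 x1 => @Cfsg.Agent.KO98afb64.k9.{0, 0} _ _ @(fun x2 x3 => @Nat.add @x2 @x3) (nat_lit 0) (@Cfsg.Agent.KO98afb64.k10.{0, 0} _ _ @(fun x2 => @Cfsg.Agent.KO98afb64.k7.{1} ℕ (@Bool.rec.{1} @(fun x3 => @Bool) @Bool.true @Bool.false (@Cfsg.Agent.KO98afb64.k5.{1} @Bool (@Nat.land (nat_lit 1) (@Nat.shiftRight @x1 (@Fin.val _ @x2))) (nat_lit 0) @Bool.false @Bool.true)) (nat_lit 0) (@Nat.pow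 (nat_lit 2) (@Fin.val _ (@x0 @x2)))) (@Cfsg.Agent.KO98afb64.k12.{1} _ (nat_lit 7) @(fun x2 x3 => @x2 :: @x3) (nat_lit 7) (@Nat.le_refl ((7 : ℕ))) [])))) ?_); rewrite [← Cfsg.Agent.KO98afb64.e12.{1}, ← Cfsg.Agent.KO98afb64.e5.{1}, ← Cfsg.Agent.KO98afb64.e7.{1}, ← Cfsg.Agent.KO98afb64.e10.{0, 0}, ← Cfsg.Agent.KO98afb64.e9.{0, 0}]; rfl') | exact @Cfsg.Agent.H916.SpSix.pm | exact ()
private theorem _root_.Cfsg.Agent.KO98afb64.e13 : (by first | exact @Cfsg.Agent.H916.SpSix.pm = @_root_.Cfsg.Agent.KO98afb64.k13 | exact True : Prop) := by first | (delta _root_.Cfsg.Agent.KO98afb64.k13; exact @Subtype.property _ (fun g => @Cfsg.Agent.H916.SpSix.pm = @g) _) | rfl | trivial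

theorem pm_s1 : ∀ m : Fin 128, ∀ i : Fin 7, (pm s1 m).testBit (s1 i) = (m : ℕ).testBit i := by (first | (refine of_decide_eq_true ?_; rewrite [Cfsg.Agent.KO98afb64.e0, Cfsg.Agent.KO98afb64.e2, Cfsg.Agent.KO98afb64.e4, Cfsg.Agent.KO98afb64.e6, Cfsg.Agent.KO98afb64.e13]; decide +kernel) | decide +kernel)

theorem pm_s2 : ∀ m : Fin 128, ∀ i : Fin 7, (pm s2 m).testBit (s2 i) = (m : ℕ).testBit i := by (first | (refine of_decide_eq_true ?_; rewrite [Cfsg.Agent.KO98afb64.e0, Cfsg.Agent.KO98afb64.e2, Cfsg.Agent.KO98afb64.e4, Cfsg.Agent.KO98afb64.e6, Cfsg.Agent.KO98afb64.e13]; decide +kernel) | decide +kernel)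

theorem pm_lt : ∀ m : Fin 128, pm s1 m < 128 ∧ pm s2 m < 128 := by decide +kernel

theorem exists_mask : ∀ ε : Fin 7 → Bool, ∃ m : Fin 128, ∀ i : Fin 7, (m : ℕ).testBit i = ε i := by
  (set_option synthInstance.maxSize 2000 in open scoped Cfsg.Agent.Lib.HoistLin in decide +kernel)

/-- complements of points -/
def ptc (i : Fin 7) : ℕ := 127 - 2 ^ (i : ℕ)

/-- the seven lines -/
def lines : Fin 7 → Fin 3 → Fin 7 :=
  ![![0, 1, 2], ![0, 3, 4], ![0, 5, 6], ![1, 3, 5], ![1, 4, 6], ![2, 3, 6], ![2, 4, 5]]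

/-- complements of lines -/
def lnc (l : Fin 7) : ℕ := 127 - 2 ^ (lines l 0 : ℕ) - 2 ^ (lines l 1 : ℕ) - 2 ^ (lines l 2 : ℕ)

def par (m : ℕ) : Bool :=
  (((m.testBit 0 ^^ m.testBit 1) ^^ (m.testBit 2 ^^ m.testBit 3)) ^^ ((m.testBit 4 ^^ m.testBit 5) ^^ m.testBit 6))

def orb2 (m : ℕ) : List ℕ := stepL (stepL (orb m))

private noncomputable def _root_.Cfsg.Agent.KO98afb64.k19 : type_of% @instDecidableAnd := @(fun x0 x1 x2 x3 => @Decidable.rec.{1} _ @(fun x4 => @Decidable (@And @x0 @x1)) @(fun x4 => @Decidable.isFalse _ (@instDecidableAnd._proof_2 _ _ @x4)) @(fun x4 => @Decidable.rec.{1} _ @(fun x5 => @Decidable (@And @x0 @x1)) @(fun x5 => @Decidable.isFalse _ (@instDecidableAnd._proof_1 _ _ @x5)) @(fun x5 => @Decidable.isTrue _ (@And.intro _ _ @x4 @x5)) @x3) @x2)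
private theorem _root_.Cfsg.Agent.KO98afb64.e19 : @instDecidableAnd = @_root_.Cfsg.Agent.KO98afb64.k19 := by delta _root_.Cfsg.Agent.KO98afb64.k19; rfl'
private noncomputable def _root_.Cfsg.Agent.KO98afb64.k20 : type_of% @Nat.decLe := @(fun x0 x1 => @Decidable.rec.{1} _ @(fun x2 => @Decidable (@LE.le.{0} _ _ @x0 @x1)) @(fun x2 => @Decidable.isFalse _ (@Nat.not_le_of_not_ble_eq_true _ _ @x2)) @(fun x2 => @Decidable.isTrue _ (@Nat.le_of_ble_eq_true _ _ @x2)) (@Cfsg.Agent.KO98afb64.k3 (@Nat.ble @x0 @x1) @Bool.true))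
private theorem _root_.Cfsg.Agent.KO98afb64.e20 : @Nat.decLe = @_root_.Cfsg.Agent.KO98afb64.k20 := by delta _root_.Cfsg.Agent.KO98afb64.k20; rewrite [← Cfsg.Agent.KO98afb64.e3]; rfl'
private noncomputable def _root_.Cfsg.Agent.KO98afb64.k32 : type_of% @Nat.decEq := @(fun x0 x1 => @Bool.rec.{1} @(fun x2 => (@Eq.{1} _ (@Nat.beq @x0 @x1) @x2) → @Decidable (@Eq.{1} _ @x0 @x1)) @(fun x2 => @Decidable.isFalse _ (@Nat.ne_of_beq_eq_false _ _ @x2)) @(fun x2 => @Decidable.isTrue _ (@Nat.eq_of_beq_eq_true _ _ @x2)) (@Nat.beq @x0 @x1) (@Eq.refl.{1} _ (@Nat.beq @x0 @x1)))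
private theorem _root_.Cfsg.Agent.KO98afb64.e32 : @Nat.decEq = @_root_.Cfsg.Agent.KO98afb64.k32 := by delta _root_.Cfsg.Agent.KO98afb64.k32; rfl'
private noncomputable def _root_.Cfsg.Agent.KO98afb64.k33 : type_of% @instDecidableEqFin := @(fun x0 x1 x2 => @Decidable.rec.{1} _ @(fun x3 => @Decidable (@Eq.{1} _ @x1 @x2)) @(fun x3 => @Decidable.isFalse _ (@instDecidableEqFin._proof_1 @x0 @x1 @x2 @x3)) @(fun x3 => @Decidable.isTrue _ (@Fin.eq_of_val_eq _ _ _ @x3)) (@Cfsg.Agent.KO98afb64.k32 (@Fin.val _ @x1) (@Fin.val _ @x2)))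
private theorem _root_.Cfsg.Agent.KO98afb64.e33 : @instDecidableEqFin = @_root_.Cfsg.Agent.KO98afb64.k33 := by delta _root_.Cfsg.Agent.KO98afb64.k33; rewrite [← Cfsg.Agent.KO98afb64.e32]; rfl'
private noncomputable def _root_.Cfsg.Agent.KO98afb64.k34 : type_of% @forall_prop_decidable := @(fun x0 x1 x2 x3 => @Decidable.rec.{1} _ @(fun x4 => @Decidable ((x5 : @x0) → @x1 @x5)) @(fun x4 => @Decidable.isTrue _ (@forall_prop_decidable._proof_2 _ @x1 @x4)) @(fun x4 => @Decidable.rec.{1} _ @(fun x5 => @Decidable ((x6 : @x0) → @x1 @x6)) @(fun x5 => @Decidable.isFalse _ (@decidable_of_decidable_of_iff._proof_1 _ _ (@forall_prop_decidable._proof_1 _ @x1 @x4) @x5)) @(fun x5 => @Decidable.isTrue _ (@Iff.mp _ _ (@forall_prop_decidable._proof_1 _ @x1 @x4) @x5)) (@x3 @x4)) @x2)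
private theorem _root_.Cfsg.Agent.KO98afb64.e34 : @forall_prop_decidable = @_root_.Cfsg.Agent.KO98afb64.k34 := by delta _root_.Cfsg.Agent.KO98afb64.k34; rfl'
private noncomputable def _root_.Cfsg.Agent.KO98afb64.k36 : type_of% @instDecidableNot := @(fun x0 x1 => @Decidable.rec.{1} _ @(fun x2 => @Decidable (¬ @x0)) @(fun x2 => @Decidable.isTrue _ @x2) @(fun x2 => @Decidable.isFalse _ (@absurd.{0} _ _ @x2)) @x1)
private theorem _root_.Cfsg.Agent.KO98afb64.e36 : @instDecidableNot = @_root_.Cfsg.Agent.KO98afb64.k36 := by delta _root_.Cfsg.Agent.KO98afb64.k36; rfl'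
private noncomputable def _root_.Cfsg.Agent.KO98afb64.k37 : type_of% @instDecidableOr := @(fun x0 x1 x2 x3 => @Decidable.rec.{1} _ @(fun x4 => @Decidable (@Or @x0 @x1)) @(fun x4 => @Decidable.rec.{1} _ @(fun x5 => @Decidable (@Or @x0 @x1)) @(fun x5 => @Decidable.isFalse _ (@instDecidableOr._proof_1 _ _ @x4 @x5)) @(fun x5 => @Decidable.isTrue _ (@Or.inr _ _ @x5)) @x3) @(fun x4 => @Decidable.isTrue _ (@Or.inl _ _ @x4)) @x2)
private theorem _root_.Cfsg.Agent.KO98afb64.e37 : @instDecidableOr = @_root_.Cfsg.Agent.KO98afb64.k37 := by delta _root_.Cfsg.Agent.KO98afb64.k37; rfl'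
private noncomputable def _root_.Cfsg.Agent.KO98afb64.k39.{ku0} : type_of% @Finset.card.{ku0} := @(fun x0 x1 => @Quot.lift.{(ku0+1), 1} _ _ _ (@List.length.{ku0} _) @(fun x2 x3 => @List.Perm.length_eq.{ku0} _ _ _) (@Finset.val.{ku0} _ @x1))
private theorem _root_.Cfsg.Agent.KO98afb64.e39.{ku0} : @Finset.card.{ku0} = @_root_.Cfsg.Agent.KO98afb64.k39.{ku0} := by delta _root_.Cfsg.Agent.KO98afb64.k39; rfl'
private noncomputable def _root_.Cfsg.Agent.KO98afb64.k43.{ku0} : type_of% @List.reverseAux.{ku0} := @(fun x0 x1 x2 => @List.rec.{(ku0+1), ku0} @x0 @(fun x3 => (@List.{ku0} @x0) → @List.{ku0} @x0) @(fun x3 => @x3) @(fun x3 x4 x5 x6 => @x5 (@x3 :: @x6)) @x1 @x2)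
private theorem _root_.Cfsg.Agent.KO98afb64.e43.{ku0} : @List.reverseAux.{ku0} = @_root_.Cfsg.Agent.KO98afb64.k43.{ku0} := by delta _root_.Cfsg.Agent.KO98afb64.k43; funext a0 a1 a2; refine (congrFun (_root_.Cfsg.Agent.KO98afb64.e8 (fun a1 a2 => @List.reverseAux.{ku0} a0 a1 a2) ?_ (fun c0 c1 => ?_) a1) a2 :) <;> (rfl')
private noncomputable def _root_.Cfsg.Agent.KO98afb64.k44.{ku0} : type_of% @List.any.{ku0} := @(fun x0 x1 x2 => @List.rec.{(ku0+1), ku0} @x0 @(fun x3 => (@x0 → @Bool) → @Bool) @(fun x3 => @Bool.false) @(fun x3 x4 x5 x6 => @Bool.rec.{1} @(fun x7 => @Bool) (@x5 @x6) @Bool.true (@x6 @x3)) @x1 @x2)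
private theorem _root_.Cfsg.Agent.KO98afb64.e44.{ku0} : @List.any.{ku0} = @_root_.Cfsg.Agent.KO98afb64.k44.{ku0} := by delta _root_.Cfsg.Agent.KO98afb64.k44; funext a0 a1 a2; refine (congrFun (_root_.Cfsg.Agent.KO98afb64.e8 (fun a1 a2 => @List.any.{ku0} a0 a1 a2) ?_ (fun c0 c1 => ?_) a1) a2 :) <;> (rfl')
private noncomputable def _root_.Cfsg.Agent.KO98afb64.k45.{ku0} : type_of% @List.eraseDupsBy.loop.{ku0} := @(fun x0 x1 x2 x3 => @List.rec.{(ku0+1), ku0} @x0 @(fun x4 => (@List.{ku0} @x0) → @List.{ku0} @x0) @(fun x4 => @Cfsg.Agent.KO98afb64.k43.{ku0} _ @x4 []) @(fun x4 x5 x6 x7 => @Bool.rec.{(ku0+1)} @(fun x8 => @List.{ku0} @x0) (@x6 (@x4 :: @x7)) (@x6 @x7) (@Cfsg.Agent.KO98afb64.k44.{ku0} _ @x7 (@x1 @x4))) @x2 @x3)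
private theorem _root_.Cfsg.Agent.KO98afb64.e45.{ku0} : @List.eraseDupsBy.loop.{ku0} = @_root_.Cfsg.Agent.KO98afb64.k45.{ku0} := by delta _root_.Cfsg.Agent.KO98afb64.k45; rewrite [← Cfsg.Agent.KO98afb64.e44.{ku0}, ← Cfsg.Agent.KO98afb64.e43.{ku0}]; funext a0 a1 a2 a3; refine (congrFun (_root_.Cfsg.Agent.KO98afb64.e8 (fun a2 a3 => @List.eraseDupsBy.loop.{ku0} a0 a1 a2 a3) ?_ (fun c0 c1 => ?_) a2) a3 :) <;> (rfl')
private noncomputable def _root_.Cfsg.Agent.KO98afb64.k46.{ku0} : type_of% @List.append.{ku0} := @(fun x0 x1 x2 => @List.rec.{(ku0+1), ku0} @x0 @(fun x3 => (@List.{ku0} @x0) → @List.{ku0} @x0) @(fun x3 => @x3) @(fun x3 x4 x5 x6 => @x3 :: (@x5 @x6)) @x1 @x2)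
private theorem _root_.Cfsg.Agent.KO98afb64.e46.{ku0} : @List.append.{ku0} = @_root_.Cfsg.Agent.KO98afb64.k46.{ku0} := by delta _root_.Cfsg.Agent.KO98afb64.k46; funext a0 a1 a2; refine (congrFun (_root_.Cfsg.Agent.KO98afb64.e8 (fun a1 a2 => @List.append.{ku0} a0 a1 a2) ?_ (fun c0 c1 => ?_) a1) a2 :) <;> (rfl')
private noncomputable def _root_.Cfsg.Agent.KO98afb64.k47 : (by first | exact type_of% @Cfsg.Agent.H916.SpSix.stepL | exact Unit : Sort _) := by first | (refine @Subtype.val _ (fun g => @Cfsg.Agent.H916.SpSix.stepL = @g) (@Subtype.mk _ _ (@(fun x0 => @Cfsg.Agent.KO98afb64.k45.{0} _ @(fun x1 x2 => @Cfsg.Agent.KO98afb64.k5.{1} @Bool @x1 @x2 @Bool.false @Bool.true) (@Cfsg.Agent.KO98afb64.k46.{0} _ (@Cfsg.Agent.KO98afb64.k46.{0} _ @x0 (@Cfsg.Agent.KO98afb64.k10.{0, 0} _ _ (@Cfsg.Agent.KO98afb64.k13 @Cfsg.Agent.H916.SpSix.s1) @x0)) (@Cfsg.Agent.KO98afb64.k10.{0, 0} _ _ (@Cfsg.Agent.KO98afb64.k13 @Cfsg.Agent.H916.SpSix.s2) @x0)) [])) ?_); rewrite [← Cfsg.Agent.KO98afb64.e13,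 ← Cfsg.Agent.KO98afb64.e10.{0, 0}, ← Cfsg.Agent.KO98afb64.e46.{0}, ← Cfsg.Agent.KO98afb64.e5.{1}, ← Cfsg.Agent.KO98afb64.e45.{0}]; (try delta Cfsg.Agent.H916.SpSix.stepL); (try generalize @Cfsg.Agent.H916.SpSix.pm = g0); (try generalize @Cfsg.Agent.H916.SpSix.s1 = g1); (try generalize @Cfsg.Agent.H916.SpSix.s2 = g2); rfl') | exact @Cfsg.Agent.H916.SpSix.stepL | exact ()
private theorem _root_.Cfsg.Agent.KO98afb64.e47 : (by first | exact @Cfsg.Agent.H916.SpSix.stepL = @_root_.Cfsg.Agent.KO98afb64.k47 | exact True : Prop) := by first | (delta _root_.Cfsg.Agent.KO98afb64.k47; exact @Subtype.property _ (fun g => @Cfsg.Agent.H916.SpSix.stepL = @g) _) | rfl | trivial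
private noncomputable def _root_.Cfsg.Agent.KO98afb64.k48 : (by first | exact type_of% @Cfsg.Agent.H916.SpSix.orb2 | exact Unit : Sort _) := by first | (refine @Subtype.val _ (fun g => @Cfsg.Agent.H916.SpSix.orb2 = @g) (@Subtype.mk _ _ (@(fun x0 => @Cfsg.Agent.KO98afb64.k47 (@Cfsg.Agent.KO98afb64.k47 (@Cfsg.Agent.KO98afb64.k47 (@Cfsg.Agent.KO98afb64.k47 (@Cfsg.Agent.KO98afb64.k47 (@Cfsg.Agent.KO98afb64.k47 (@Cfsg.Agent.KO98afb64.k47 (@Cfsg.Agent.KO98afb64.k47 (@x0 :: [])))))))))) ?_); rewrite [← Cfsg.Agent.KO98afb64.e47]; (try delta Cfsg.Agent.H916.SpSix.orb2 Cfsg.Agent.H916.SpSix.orb); (try generalize @Cfsg.Agent.H916.SpSix.stepL = g0); rfl') | exact @Cfsg.Agent.H916.SpSix.orb2 | exact ()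
private theorem _root_.Cfsg.Agent.KO98afb64.e48 : (by first | exact @Cfsg.Agent.H916.SpSix.orb2 = @_root_.Cfsg.Agent.KO98afb64.k48 | exact True : Prop) := by first | (delta _root_.Cfsg.Agent.KO98afb64.k48; exact @Subtype.property _ (fun g => @Cfsg.Agent.H916.SpSix.orb2 = @g) _) | rfl | trivial
private noncomputable def _root_.Cfsg.Agent.KO98afb64.k49 : type_of% @Nat.decidableExistsLT := @(fun x0 x1 x2 => @Nat.rec.{1} @(fun x3 => @Decidable (@Exists.{1} _ @(fun x4 => @And (@LT.lt.{0} _ _ @x4 @x3) (@x0 @x4)))) (@Decidable.isFalse _ (@Nat.decidableExistsLT._proof_5 _)) @(fun x3 x4 => @Decidable.rec.{1} _ @(fun x5 => @Decidable (@Exists.{1} _ @(fun x6 => @And (@LT.lt.{0} _ _ @x6 (@HAdd.hAdd.{0, 0, 0} _ _ _ _ @x3 ((1 : ℕ)))) (@x0 @x6)))) @(fun x5 => @Decidable.isFalse _ (@decidable_of_decidable_of_iff._proof_1 _ _ (@Nat.decidableExistsLT._proof_10 _ @x3) @x5)) @(fun x5 => @Decidable.isTrue _ (@Iff.mp _ _ (@Nat.decidableExistsLT._proof_10 _ @x3) @x5)) (@Cfsg.Agent.KO98afb64.k37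 _ _ @x4 (@x1 @x3))) @x2)
private theorem _root_.Cfsg.Agent.KO98afb64.e49 : @Nat.decidableExistsLT = @_root_.Cfsg.Agent.KO98afb64.k49 := by delta _root_.Cfsg.Agent.KO98afb64.k49; rewrite [← Cfsg.Agent.KO98afb64.e37]; funext a0 a1 a2; refine (_root_.Cfsg.Agent.KO98afb64.e11 (fun a2 => @Nat.decidableExistsLT a0 a1 a2) ?_ (fun c0 => ?_) a2 :) <;> (rfl')
private noncomputable def _root_.Cfsg.Agent.KO98afb64.k50 : type_of% @Nat.decidableExistsFin := @(fun x0 x1 x2 => @Decidable.rec.{1} _ @(fun x3 => @Decidable (@Exists.{1} _ @(fun x4 => @x1 @x4))) @(fun x3 => @Decidable.isFalse _ (@decidable_of_decidable_of_iff._proof_1 _ _ (@Nat.decidableExistsFin._proof_1 _ @x1) @x3)) @(fun x3 => @Decidable.isTrue _ (@Iff.mp _ _ (@Nat.decidableExistsFin._proof_1 _ @x1) @x3)) (@Cfsg.Agent.KO98afb64.k49 @(fun x3 => (x4 : @LT.lt.{0} _ _ @x3 @x0) → @x1 (@Fin.mk _ @x3 @x4)) @(fun x3 => @Decidable.rec.{1} _ @(fun x4 => @Decidable ((x5 : @LT.lt.{0} _ _ @x3 @x0) → @x1 (@Fin.mk _ @x3 @x5)))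 @(fun x4 => @Decidable.isTrue _ (@forall_prop_decidable._proof_2 _ @(fun x5 => @x1 (@Fin.mk _ @x3 @x5)) @x4)) @(fun x4 => @Decidable.rec.{1} _ @(fun x5 => @Decidable ((x6 : @LT.lt.{0} _ _ @x3 @x0) → @x1 (@Fin.mk _ @x3 @x6))) @(fun x5 => @Decidable.isFalse _ (@decidable_of_decidable_of_iff._proof_1 _ _ (@forall_prop_decidable._proof_1 _ @(fun x6 => @x1 (@Fin.mk _ @x3 @x6)) @x4) @x5)) @(fun x5 => @Decidable.isTrue _ (@Iff.mp _ _ (@forall_prop_decidable._proof_1 _ @(fun x6 => @x1 (@Fin.mk _ @x3 @x6)) @x4) @x5)) (@x2 (@Fin.mk _ @x3 @x4))) (@Cfsg.Agent.KO98afb64.k20 (@Nat.succ @x3) @x0)) @x0))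
private theorem _root_.Cfsg.Agent.KO98afb64.e50 : @Nat.decidableExistsFin = @_root_.Cfsg.Agent.KO98afb64.k50 := by delta _root_.Cfsg.Agent.KO98afb64.k50; rewrite [← Cfsg.Agent.KO98afb64.e20, ← Cfsg.Agent.KO98afb64.e49]; rfl'
private noncomputable def _root_.Cfsg.Agent.KO98afb64.k51 : (by first | exact type_of% @Cfsg.Agent.H916.SpSix.ptc | exact Unit : Sort _) := by first | (refine @Subtype.val _ (fun g => @Cfsg.Agent.H916.SpSix.ptc = @g) (@Subtype.mk _ _ (@(fun x0 => @Nat.sub (nat_lit 127) (@Nat.pow (nat_lit 2) (@Fin.val _ @x0)))) ?_); rfl') | exact @Cfsg.Agent.H916.SpSix.ptc | exact ()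
private theorem _root_.Cfsg.Agent.KO98afb64.e51 : (by first | exact @Cfsg.Agent.H916.SpSix.ptc = @_root_.Cfsg.Agent.KO98afb64.k51 | exact True : Prop) := by first | (delta _root_.Cfsg.Agent.KO98afb64.k51; exact @Subtype.property _ (fun g => @Cfsg.Agent.H916.SpSix.ptc = @g) _) | rfl | trivial
private noncomputable def _root_.Cfsg.Agent.KO98afb64.k53.{ku0} : type_of% @List.instDecidableMemOfLawfulBEq.{ku0} := @(fun x0 x1 x2 x3 x4 => @Decidable.rec.{1} _ @(fun x5 => @Decidable (@Membership.mem.{ku0, ku0} _ _ _ @x4 @x3)) @(fun x5 => @Decidable.isFalse _ (@decidable_of_decidable_of_iff._proof_1 _ _ (@List.instDecidableMemOfLawfulBEq._proof_1.{ku0} _ _ _ @x3 @x4) @x5)) @(fun x5 => @Decidable.isTrue _ (@Iff.mp _ _ (@List.instDecidableMemOfLawfulBEq._proof_1.{ku0} _ _ _ @x3 @x4) @x5)) (@Cfsg.Agent.KO98afb64.k3 (@List.elem.{ku0} _ @x1 @x3 @x4) @Bool.true))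
private theorem _root_.Cfsg.Agent.KO98afb64.e53.{ku0} : @List.instDecidableMemOfLawfulBEq.{ku0} = @_root_.Cfsg.Agent.KO98afb64.k53.{ku0} := by delta _root_.Cfsg.Agent.KO98afb64.k53; rewrite [← Cfsg.Agent.KO98afb64.e3]; rfl'

theorem orb_cases : ∀ m : Fin 128, par m = false → m ≠ 0 →
    14 ≤ (orb2 m).toFinset.card ∨ ((∃ i, (m : ℕ) = ptc i) ∧ ∀ i, ptc i ∈ orb2 m) ∨
      ((∃ l, (m : ℕ) = lnc l) ∧ ∀ l, lnc l ∈ orb2 m) := by
  (first | (refine of_decide_eq_true ?_; rewrite [Cfsg.Agent.KO98afb64.e0, Cfsg.Agent.KO98afb64.e2, Cfsg.Agent.KO98afb64.e34, Cfsg.Agent.KO98afb64.e4, Cfsg.Agent.KO98afb64.e36, Cfsg.Agent.KO98afb64.e33, Cfsg.Agent.KO98afb64.e37, Cfsg.Agent.KO98afb64.e20, Cfsg.Agent.KO98afb64.e39.{0}, Cfsg.Agent.KO98afb64.e48, Cfsg.Agent.KO98afb64.e19, Cfsg.Agent.KO98afb64.e50, Cfsg.Agent.KO98afb64.e51, Cfsg.Agent.KO98afb64.e53.{0}]; decide +kernel) | decide +kernel)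

end masks

section lin

variable {k V : Type*} [Field k] [AddCommGroup V] [Module k V]

/-- a simultaneous eigenvector in an invariant subspace -/
theorem exists_joint (h2 : (2 : k) ≠ 0) {n : ℕ} (T : Fin n → Module.End k V) (hT : ∀ i, T i * T i = 1)
    (hc : ∀ i j, T i * T j = T j * T i) (W : Submodule k V) (hW : ∀ i, ∀ w ∈ W, T i w ∈ W) {v : V}
    (hv : v ≠ 0) (hvW : v ∈ W) :
    ∃ (w : V) (ε : Fin n → Bool), w ∈ W ∧ w ≠ 0 ∧ ∀ i, T i w = if ε i then -w else w := by
  classical
  have key : ∀ s : Finset (Fin n), ∃ w : V, w ∈ W ∧ w ≠ 0 ∧ ∀ i ∈ s, T i w = w ∨ T i w = -w := by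
    intro s
    induction s using Finset.induction_on with
    | empty => exact ⟨v, hvW, hv, fun i hi => absurd hi (Finset.notMem_empty i)⟩
    | insert j s hj ih =>
      obtain ⟨w, hwW, hw, hws⟩ := ih
      have hjj : T j (T j w) = w := by
        have := LinearMap.congr_fun (hT j) w
        simpa using this
      have hcomm : ∀ i, T i (T j w) = T j (T i w) := fun i => LinearMap.congr_fun (hc i j) w
      by_cases h : w + T j w = 0
      · have h3 : T j w = -w := by rw [eq_neg_iff_add_eq_zero, add_comm]; exact h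
        refine ⟨w, hwW, hw, fun i hi => ?_⟩
        rcases Finset.mem_insert.1 hi with rfl | hi
        · exact Or.inr h3
        · exact hws i hi
      · refine ⟨w + T j w, W.add_mem hwW (hW j w hwW), h, fun i hi => ?_⟩
        rcases Finset.mem_insert.1 hi with rfl | hi
        · left; rw [map_add, hjj]; abel
        · rcases hws i hi with h' | h'
          · left; rw [map_add, hcomm, h']
          · right; rw [map_add, hcomm, h', map_neg]; abel
  obtain ⟨w, hwW, hw, hws⟩ := key Finset.univ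
  have hne : w ≠ -w := by
    intro h
    have : (2 : k) • w = 0 := by rw [two_smul]; nth_rewrite 2 [h]; abel
    rcases smul_eq_zero.1 this with h' | h'
    · exact h2 h'
    · exact hw h'
  refine ⟨w, fun i => decide (T i w = -w), hwW, hw, fun i => ?_⟩
  by_cases h : T i w = -w
  · simp [h]
  · have := (hws i (Finset.mem_univ i)).resolve_right h
    simp only [this]
    rw [if_neg]
    simpa using hne

/-- the sign pattern `m` occurs -/
def Pat (T : Fin 7 → Module.End k V) (m : ℕ) : Prop :=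
  ∃ v : V, v ≠ 0 ∧ ∀ i : Fin 7, T i v = (if m.testBit i then (-1 : k) else 1) • v

theorem card_le [FiniteDimensional k V] (h2 : (2 : k) ≠ 0) {T : Fin 7 → Module.End k V}
    (hc : ∀ i j, T i * T j = T j * T i) (S : Finset ℕ) (hS : ∀ m ∈ S, m < 128 ∧ Pat T m) :
    S.card ≤ Module.finrank k V := by
  have hind := Module.End.independent_iInf_maxGenEigenspace_of_forall_mapsTo T
    (fun i j φ => Module.End.mapsTo_maxGenEigenspace_of_comm (hc j i) φ)
  choose v hv0 hv using fun m : S => (hS m m.2).2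
  let χ : S → (Fin 7 → k) := fun m i => if (m : ℕ).testBit i then (-1 : k) else 1
  have hχ : Function.Injective χ := by
    intro a b hab
    apply Subtype.ext
    have h1 : ∀ i : Fin 7, (a : ℕ).testBit i = (b : ℕ).testBit i := by
      intro i
      have h3 := congrFun hab i
      simp only [χ] at h3
      have hne : (-1 : k) ≠ 1 := by
        intro h
        exact h2 (by linear_combination -h)
      by_cases ha : (a : ℕ).testBit i = true <;> by_cases hb : (b : ℕ).testBit i = true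
      · rw [ha, hb]
      · rw [if_pos ha, if_neg hb] at h3; exact absurd h3 hne
      · rw [if_neg ha, if_pos hb] at h3; exact absurd h3.symm hne
      · rw [Bool.not_eq_true] at ha hb; rw [ha, hb]
    apply Nat.eq_of_testBit_eq
    intro j
    by_cases hj : j < 7
    · exact h1 ⟨j, hj⟩
    · rw [Nat.testBit_lt_two_pow (lt_of_lt_of_le (hS a a.2).1 (by
        calc 128 = 2 ^ 7 := by norm_num
          _ ≤ 2 ^ j := Nat.pow_le_pow_right (by norm_num) (by omega))),
        Nat.testBit_lt_two_pow (lt_of_lt_of_le (hS b b.2).1 (by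
        calc 128 = 2 ^ 7 := by norm_num
          _ ≤ 2 ^ j := Nat.pow_le_pow_right (by norm_num) (by omega)))]
  have hind2 := hind.comp hχ
  have hli : LinearIndependent k v := by
    refine hind2.linearIndependent _ (fun m => ?_) hv0
    show v m ∈ ⨅ i, (T i).maxGenEigenspace (χ m i)
    rw [Submodule.mem_iInf]
    intro i
    apply Module.End.eigenspace_le_maxGenEigenspace
    rw [Module.End.mem_eigenspace_iff]
    exact hv m i
  have := hli.fintype_card_le_finrank
  rwa [Fintype.card_coe] at this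

end lin

end Cfsg.Agent.H916.SpSix
end

-- part: H916/SpSixE
section
/-!
# Seven commuting involutions permuted like the points of the Fano plane, in dimension at most 13
-/

set_option autoImplicit false
set_option linter.unusedSectionVars false
set_option linter.unusedVariables false

namespace Cfsg.Agent.H916.SpSix

variable {k V : Type*} [Field k] [AddCommGroup V] [Module k V]

/-- the data -/
structure FanoE (T : Fin 7 → Module.End k V) (g1 g2 : Module.End k V) : Prop where
  sq : ∀ i, T i * T i = 1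
  comm : ∀ i j, T i * T j = T j * T i
  prod : T 0 * T 1 * T 2 * T 3 * T 4 * T 5 * T 6 = 1
  c1 : ∀ i, g1 * T i = T (s1 i) * g1
  c2 : ∀ i, g2 * T i = T (s2 i) * g2
  i1 : Function.Injective g1
  i2 : Function.Injective g2

theorem pat_map {T : Fin 7 → Module.End k V} {g : Module.End k V} {s : Fin 7 → Fin 7}
    (hs : Function.Surjective s) (hg : ∀ i, g * T i = T (s i) * g) (hi : Function.Injective g)
    {m : ℕ} (hm : m < 128)
    (hpm : ∀ i : Fin 7, (pm s m).testBit (s i) = m.testBit i)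
    (h : Pat T m) : Pat T (pm s m) := by
  obtain ⟨v, hv, h⟩ := h
  refine ⟨g v, ?_, fun j => ?_⟩
  · intro h0
    exact hv (hi (by rw [h0, map_zero]))
  · obtain ⟨i, rfl⟩ := hs j
    rw [hpm, ← Module.End.mul_apply, ← hg, Module.End.mul_apply, h i, map_smul]

theorem pat_orb {T : Fin 7 → Module.End k V} {g1 g2 : Module.End k V} (D : FanoE T g1 g2) {m : ℕ}
    (hm : m < 128) (h : Pat T m) : ∀ x ∈ orb2 m, x < 128 ∧ Pat T x := by
  have step : ∀ l : List ℕ, (∀ x ∈ l, x < 128 ∧ Pat T x) → ∀ x ∈ stepL l, x < 128 ∧ Pat T x := by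
    intro l hl x hx
    rw [stepL, List.mem_eraseDups, List.mem_append, List.mem_append, List.mem_map, List.mem_map] at hx
    rcases hx with (hx | ⟨y, hy, rfl⟩) | ⟨y, hy, rfl⟩
    · exact hl x hx
    · obtain ⟨hy1, hy2⟩ := hl y hy
      exact ⟨(pm_lt ⟨y, hy1⟩).1, pat_map s1_surj D.c1 D.i1 hy1 (fun i => pm_s1 ⟨y, hy1⟩ i) hy2⟩
    · obtain ⟨hy1, hy2⟩ := hl y hy
      exact ⟨(pm_lt ⟨y, hy1⟩).2, pat_map s2_surj D.c2 D.i2 hy1 (fun i => pm_s2 ⟨y, hy1⟩ i) hy2⟩
  have h0 : ∀ x ∈ [m], x < 128 ∧ Pat T x := by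
    intro x hx
    rw [List.mem_singleton] at hx
    subst hx
    exact ⟨hm, h⟩
  exact step _ (step _ (step _ (step _ (step _ (step _ (step _ (step _ h0)))))))

theorem ptc_lt : ∀ i, ptc i < 128 := by decide

theorem lnc_lt : ∀ i, lnc i < 128 := by decide

theorem ptc_bit : ∀ i j : Fin 7, (ptc i).testBit j = !(decide (i = j)) := by decide +kernel

theorem lnc_bits : ∀ l l' : Fin 7, (((lnc l).testBit (lines l' 0) ^^ (lnc l).testBit (lines l' 1)) ^^
    (lnc l).testBit (lines l' 2)) = false := by decide +kernel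

theorem both_card : ((List.ofFn ptc) ++ (List.ofFn lnc)).toFinset.card = 14 := by decide +kernel

/-- an even pattern -/
theorem pat_par (h2 : (2 : k) ≠ 0) {T : Fin 7 → Module.End k V} {g1 g2 : Module.End k V} (D : FanoE T g1 g2)
    {m : Fin 128} (h : Pat T m) : par m = false := by
  obtain ⟨w, hw, hsg⟩ := h
  have h1 := congrArg (fun g => g w) D.prod
  simp only [Module.End.mul_apply, Module.End.one_apply] at h1
  simp only [hsg, map_smul, smul_smul] at h1
  by_contra hpt
  rw [Bool.not_eq_false] at hpt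
  have hne1 : (-1 : k) ≠ 1 := by
    intro h
    exact h2 (by linear_combination -h)
  have h4 : (-1 : k) • w = w := by
    rw [← h1]
    congr 1
    have hval : ∀ b0 b1 b2 b3 b4 b5 b6 : Bool,
        (((b0 ^^ b1) ^^ (b2 ^^ b3)) ^^ ((b4 ^^ b5) ^^ b6)) = true →
        (-1 : k) = (if b6 = true then (-1 : k) else 1) * (if b5 = true then (-1 : k) else 1) *
          (if b4 = true then (-1 : k) else 1) * (if b3 = true then (-1 : k) else 1) *
          (if b2 = true then (-1 : k) else 1) * (if b1 = true then (-1 : k) else 1) *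
          (if b0 = true then (-1 : k) else 1) := by
      intro b0 b1 b2 b3 b4 b5 b6 hb
      cases b0 <;> cases b1 <;> cases b2 <;> cases b3 <;> cases b4 <;> cases b5 <;> cases b6 <;>
        first | (exfalso; revert hb; decide) | (simp)
    exact hval _ _ _ _ _ _ _ hpt
  have h5 : (2 : k) • w = 0 := by
    rw [two_smul]
    nth_rewrite 1 [← h4]
    rw [neg_one_smul, neg_add_cancel]
  rcases smul_eq_zero.1 h5 with h' | h'
  · exact h2 h'
  · exact hw h'

theorem pat_of_sub (h2 : (2 : k) ≠ 0) {T : Fin 7 → Module.End k V} {g1 g2 : Module.End k V} (D : FanoE T g1 g2)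
    (W : Submodule k V) (hW : ∀ i, ∀ w ∈ W, T i w ∈ W) {v : V} (hv : v ≠ 0) (hvW : v ∈ W) :
    ∃ (m : Fin 128) (w : V), w ≠ 0 ∧ w ∈ W ∧ ∀ i : Fin 7, T i w = (if (m : ℕ).testBit i then (-1 : k) else 1) • w := by
  obtain ⟨w, ε, hwW, hw, hε⟩ := exists_joint h2 T D.sq D.comm W hW hv hvW
  obtain ⟨m, hm⟩ := exists_mask ε
  refine ⟨m, w, hw, hwW, fun i => ?_⟩
  rw [hε i, hm i]
  split_ifs
  · rw [neg_one_smul]
  · rw [one_smul]

/-- **The patterns in dimension at most 13.** -/
theorem fano_cases [FiniteDimensional k V] (h2 : (2 : k) ≠ 0) (hfin : Module.finrank k V ≤ 13)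
    {T : Fin 7 → Module.End k V} {g1 g2 : Module.End k V} (D : FanoE T g1 g2) (hl : T 0 * T 1 * T 2 ≠ 1) :
    (∀ i, Pat T (ptc i)) ∧ ∀ m : Fin 128, Pat T m → m = 0 ∨ ∃ i, (m : ℕ) = ptc i := by
  have hcases : ∀ m : Fin 128, Pat T m → m = 0 ∨ ((∃ i, (m : ℕ) = ptc i) ∧ ∀ i, Pat T (ptc i)) ∨
      ((∃ l, (m : ℕ) = lnc l) ∧ ∀ i, Pat T (lnc i)) := by
    intro m hm
    by_cases hm0 : m = 0
    · exact Or.inl hm0
    right
    have horb := pat_orb D m.2 hm
    rcases orb_cases m (pat_par h2 D hm) hm0 with h | ⟨h, h'⟩ | ⟨h, h'⟩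
    · exfalso
      have h9 := card_le h2 D.comm (orb2 m).toFinset (fun x hx => horb x (List.mem_toFinset.1 hx))
      omega
    · exact Or.inl ⟨h, fun i => (horb _ (h' i)).2⟩
    · exact Or.inr ⟨h, fun i => (horb _ (h' i)).2⟩
  -- a pattern odd on the first line
  obtain ⟨m, hm, hodd⟩ : ∃ m : Fin 128, Pat T m ∧
      (((m : ℕ).testBit (0 : Fin 7) ^^ (m : ℕ).testBit (1 : Fin 7)) ^^ (m : ℕ).testBit (2 : Fin 7)) = true := by
    obtain ⟨x, hx⟩ : ∃ x, (T 0 * T 1 * T 2) x ≠ x := by
      by_contra hcon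
      push Not at hcon
      exact hl (LinearMap.ext hcon)
    have hA : (T 0 * T 1 * T 2) * (T 0 * T 1 * T 2) = 1 := by
      have c01 := D.comm 0 1
      have c02 := D.comm 0 2
      have c12 := D.comm 1 2
      calc (T 0 * T 1 * T 2) * (T 0 * T 1 * T 2) = T 0 * T 1 * (T 2 * T 0) * T 1 * T 2 := by
            simp only [mul_assoc]
        _ = T 0 * (T 1 * T 0) * (T 2 * T 1) * T 2 := by rw [← c02]; simp only [mul_assoc]
        _ = (T 0 * T 0) * (T 1 * T 1) * (T 2 * T 2) := by rw [← c01, ← c12]; simp only [mul_assoc]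
        _ = 1 := by rw [D.sq, D.sq, D.sq, one_mul, one_mul]
    set A := T 0 * T 1 * T 2 with hAdef
    have hAT : ∀ i, A * T i = T i * A := by
      intro i
      rw [hAdef]
      calc T 0 * T 1 * T 2 * T i = T 0 * T 1 * (T 2 * T i) := by simp only [mul_assoc]
        _ = T 0 * (T 1 * T i) * T 2 := by rw [D.comm 2 i]; simp only [mul_assoc]
        _ = (T 0 * T i) * T 1 * T 2 := by rw [D.comm 1 i]; simp only [mul_assoc]
        _ = _ := by rw [D.comm 0 i]; simp only [mul_assoc]
    let W : Submodule k V := LinearMap.ker (A + 1)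
    have hmem : ∀ w, w ∈ W ↔ A w = -w := by
      intro w
      rw [LinearMap.mem_ker, LinearMap.add_apply, Module.End.one_apply, eq_neg_iff_add_eq_zero]
    have hW : ∀ i, ∀ w ∈ W, T i w ∈ W := by
      intro i w hw
      rw [hmem] at hw ⊢
      rw [← Module.End.mul_apply, hAT, Module.End.mul_apply, hw, map_neg]
    obtain ⟨m, w, hw, hwW, hm⟩ := pat_of_sub h2 D W hW (v := x - A x) (fun h => hx (sub_eq_zero.1 h).symm)
      ((hmem _).2 (by
        rw [map_sub, ← Module.End.mul_apply, hA, Module.End.one_apply, neg_sub]))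
    refine ⟨m, ⟨w, hw, hm⟩, ?_⟩
    rw [hmem, hAdef, Module.End.mul_apply, Module.End.mul_apply, hm, map_smul, hm, map_smul, map_smul, hm,
      smul_smul, smul_smul] at hwW
    by_contra hpt
    rw [Bool.not_eq_true] at hpt
    have hval : ∀ b0 b1 b2 : Bool, ((b0 ^^ b1) ^^ b2) = false →
        (if b2 = true then (-1 : k) else 1) * (if b1 = true then (-1 : k) else 1) *
        (if b0 = true then (-1 : k) else 1) = 1 := by
      intro b0 b1 b2 hb
      cases b0 <;> cases b1 <;> cases b2 <;> first | (exfalso; revert hb; decide) | (simp)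
    rw [hval _ _ _ hpt, one_smul] at hwW
    have : (2 : k) • w = 0 := by rw [two_smul]; nth_rewrite 2 [hwW]; abel
    rcases smul_eq_zero.1 this with h' | h'
    · exact h2 h'
    · exact hw h'
  have hall : ∀ i, Pat T (ptc i) := by
    rcases hcases m hm with h | ⟨-, h⟩ | ⟨⟨l, h⟩, -⟩
    · exfalso
      rw [h] at hodd
      simp at hodd
    · exact h
    · exfalso
      rw [h] at hodd
      have := lnc_bits l 0
      rw [show lines 0 0 = 0 from rfl, show lines 0 1 = 1 from rfl, show lines 0 2 = 2 from rfl] at this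
      rw [this] at hodd
      exact absurd hodd (by simp)
  refine ⟨hall, fun m hm => ?_⟩
  rcases hcases m hm with h | ⟨h, -⟩ | ⟨-, h⟩
  · exact Or.inl h
  · exact Or.inr h
  · exfalso
    have h9 := card_le h2 D.comm ((List.ofFn ptc) ++ (List.ofFn lnc)).toFinset (fun x hx => by
      rw [List.mem_toFinset, List.mem_append, List.mem_ofFn, List.mem_ofFn] at hx
      rcases hx with ⟨i, rfl⟩ | ⟨i, rfl⟩
      · exact ⟨ptc_lt i, hall i⟩
      · exact ⟨lnc_lt i, h i⟩)
    rw [both_card] at h9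
    omega

end Cfsg.Agent.H916.SpSix
end

-- part: H916/SpSixF
section
/-!
# Seven commuting involutions permuted like the points of the Fano plane: the decomposition of the space
-/

set_option autoImplicit false
set_option linter.unusedSectionVars false
set_option linter.unusedVariables false

namespace Cfsg.Agent.H916.SpSix

variable {k V : Type*} [Field k] [AddCommGroup V] [Module k V]

/-- the common fixed space -/
def ZZ (T : Fin 7 → Module.End k V) : Submodule k V where
  carrier := {x | ∀ j, T j x = x}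
  add_mem' := by
    intro a b ha hb j
    rw [map_add, ha j, hb j]
  zero_mem' := fun j => map_zero _
  smul_mem' := by
    intro c x hx j
    rw [map_smul, hx j]

/-- the space of the point `u` -/
def EE (T : Fin 7 → Module.End k V) (u : Fin 7) : Submodule k V where
  carrier := {x | ∀ j, T j x = if j = u then x else -x}
  add_mem' := by
    intro a b ha hb j
    rw [map_add, ha j, hb j]
    split_ifs
    · rfl
    · abel
  zero_mem' := fun j => by rw [map_zero]; simp
  smul_mem' := by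
    intro c x hx j
    rw [map_smul, hx j]
    split_ifs
    · rfl
    · rw [smul_neg]

theorem eq_zero_of_eq_neg (h2 : (2 : k) ≠ 0) {x : V} (h : x = -x) : x = 0 := by
  have : (2 : k) • x = 0 := by rw [two_smul]; nth_rewrite 2 [h]; abel
  rcases smul_eq_zero.1 this with h' | h'
  · exact absurd h' h2
  · exact h'

variable [FiniteDimensional k V] (h2 : (2 : k) ≠ 0) (hfin : Module.finrank k V ≤ 13)
    {T : Fin 7 → Module.End k V} {g1 g2 : Module.End k V} (D : FanoE T g1 g2) (hl : T 0 * T 1 * T 2 ≠ 1)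

include D in
theorem FanoE.sq' (i : Fin 7) (x : V) : T i (T i x) = x := by
  rw [← Module.End.mul_apply, D.sq, Module.End.one_apply]

include D in
theorem FanoE.comm' (i j : Fin 7) (x : V) : T i (T j x) = T j (T i x) := by
  rw [← Module.End.mul_apply, D.comm, Module.End.mul_apply]

include h2 hfin D hl

/-- a vector fixed by two of the involutions is fixed by all -/
theorem ZZ_of_two {u u' : Fin 7} (huu : u ≠ u') {x : V} (hu : T u x = x) (hu' : T u' x = x) : x ∈ ZZ T := by
  intro j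
  by_contra hx
  let W : Submodule k V := LinearMap.ker (T u - 1) ⊓ LinearMap.ker (T u' - 1) ⊓ LinearMap.ker (T j + 1)
  have hmem : ∀ w, w ∈ W ↔ (T u w = w ∧ T u' w = w) ∧ T j w = -w := by
    intro w
    rw [Submodule.mem_inf, Submodule.mem_inf, LinearMap.mem_ker, LinearMap.mem_ker, LinearMap.mem_ker,
      LinearMap.sub_apply, LinearMap.sub_apply, LinearMap.add_apply, Module.End.one_apply,
      eq_neg_iff_add_eq_zero, sub_eq_zero, sub_eq_zero]
  have hW : ∀ i, ∀ w ∈ W, T i w ∈ W := by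
    intro i w hw
    rw [hmem] at hw ⊢
    obtain ⟨⟨a, b⟩, c⟩ := hw
    refine ⟨⟨?_, ?_⟩, ?_⟩
    · rw [D.comm', a]
    · rw [D.comm', b]
    · rw [D.comm', c, map_neg]
  obtain ⟨m, w, hw, hwW, hm⟩ := pat_of_sub h2 D W hW (v := x - T j x) (fun h => hx (sub_eq_zero.1 h).symm)
    ((hmem _).2 ⟨⟨by rw [map_sub, D.comm', hu], by rw [map_sub, D.comm', hu']⟩, by
      rw [map_sub, D.sq', neg_sub]⟩)
  rw [hmem] at hwW
  obtain ⟨⟨a, b⟩, c⟩ := hwW
  have hb : ∀ i : Fin 7, T i w = w → (m : ℕ).testBit i = false := by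
    intro i hi
    by_contra hb
    rw [Bool.not_eq_false] at hb
    have h1 := hm i
    rw [if_pos hb, hi, neg_one_smul] at h1
    exact hw (eq_zero_of_eq_neg h2 h1)
  have hj : (m : ℕ).testBit j = true := by
    by_contra hb
    have h1 := hm j
    rw [if_neg hb, c, one_smul] at h1
    exact hw (eq_zero_of_eq_neg h2 h1.symm)
  rcases (fano_cases h2 hfin D hl).2 m ⟨w, hw, hm⟩ with h | ⟨i, h⟩
  · rw [h] at hj
    simp at hj
  · have h3 := hb u a
    have h4 := hb u' b
    rw [h, ptc_bit] at h3 h4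
    simp only [Bool.not_eq_false', decide_eq_true_eq] at h3 h4
    exact huu (h3.symm.trans h4)

theorem exists_decomp {u : Fin 7} {x : V} (hu : T u x = x) : ∃ z ∈ ZZ T, ∃ e ∈ EE T u, x = z + e := by
  obtain ⟨j, hj⟩ : ∃ j : Fin 7, j ≠ u := by
    by_cases h : u = 0
    · exact ⟨1, by rw [h]; decide⟩
    · exact ⟨0, fun h' => h h'.symm⟩
  have hpl : ∀ (y : V) (i : Fin 7), T u y = y → i ≠ u → y + T i y ∈ ZZ T := by
    intro y i hy hi
    apply ZZ_of_two h2 hfin D hl (u := u) (u' := i) (Ne.symm hi)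
    · rw [map_add, D.comm', hy]
    · rw [map_add, D.sq', add_comm]
  refine ⟨(2 : k)⁻¹ • (x + T j x), (ZZ T).smul_mem _ (hpl x j hu hj), (2 : k)⁻¹ • (x - T j x),
    (EE T u).smul_mem _ ?_, ?_⟩
  · have h0 : T u (x - T j x) = x - T j x := by rw [map_sub, D.comm', hu]
    intro i
    by_cases hi : i = u
    · rw [if_pos hi, hi, h0]
    · rw [if_neg hi]
      have h3 := hpl _ i h0 hi j
      have h4 : T j (x - T j x) = -(x - T j x) := by rw [map_sub, D.sq', neg_sub]
      rw [map_add, D.comm', h4, map_neg] at h3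
      have h5 : (x - T j x) + T i (x - T j x) = 0 := by
        apply eq_zero_of_eq_neg h2
        nth_rewrite 1 [← h3]
        abel
      exact eq_neg_of_add_eq_zero_right h5
  · rw [← smul_add, add_add_sub_cancel, ← two_smul k x, smul_smul, inv_mul_cancel₀ h2, one_smul]

omit [FiniteDimensional k V] h2 hfin D hl in
theorem mem_EE_self {u : Fin 7} {x : V} (h : x ∈ EE T u) : T u x = x := by
  have := h u
  rwa [if_pos rfl] at this

omit [FiniteDimensional k V] h2 hfin D hl in
theorem mem_EE_ne {u j : Fin 7} {x : V} (h : x ∈ EE T u) (hj : j ≠ u) : T j x = -x := by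
  have := h j
  rwa [if_neg hj] at this

omit [FiniteDimensional k V] h2 hfin D hl in
/-- the sum map -/
def Phi (T : Fin 7 → Module.End k V) : (ZZ T × ((u : Fin 7) → EE T u)) →ₗ[k] V :=
  LinearMap.coprod (ZZ T).subtype (∑ u, (EE T u).subtype ∘ₗ LinearMap.proj u)

omit [FiniteDimensional k V] h2 hfin D hl in
theorem Phi_apply (p : ZZ T × ((u : Fin 7) → EE T u)) : Phi T p = (p.1 : V) + ∑ u, (p.2 u : V) := by
  simp only [Phi, LinearMap.coprod_apply, LinearMap.sum_apply, _root_.Submodule.subtype_apply, _root_.LinearMap.coe_comp, _root_.Submodule.coe_subtype, _root_.LinearMap.coe_proj, _root_.Function.comp_apply, _root_.Function.eval]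

omit [FiniteDimensional k V] hfin hl in
theorem Phi_inj : Function.Injective (Phi T) := by
  rw [← LinearMap.ker_eq_bot, LinearMap.ker_eq_bot']
  rintro ⟨z, x⟩ h
  rw [Phi_apply] at h
  simp only at h
  have key : ∀ w : Fin 7, (z : V) = 0 ∧ (x w : V) = 0 := by
    intro w
    have hz : T w z = z := z.2 w
    have h3 := congrArg (T w) h
    rw [map_zero, map_add, map_sum, hz, ← Finset.add_sum_erase _ _ (Finset.mem_univ w),
      mem_EE_self (x w).2, Finset.sum_congr rfl (fun u hu => mem_EE_ne (x u).2 (Ne.symm (Finset.ne_of_mem_erase hu))),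
      Finset.sum_neg_distrib] at h3
    rw [← Finset.add_sum_erase _ _ (Finset.mem_univ w)] at h
    set s := ∑ u ∈ Finset.univ.erase w, (x u : V)
    have h4 : (2 : k) • ((z : V) + x w) = 0 := by
      have h5 : ((z : V) + (x w + s)) + (z + (x w + -s)) = 0 := by rw [h, h3, add_zero]
      rw [two_smul]
      calc ((z : V) + x w) + (z + x w) = ((z : V) + (x w + s)) + (z + (x w + -s)) := by abel
        _ = 0 := h5
    have h6 : (z : V) + x w = 0 := by
      rcases smul_eq_zero.1 h4 with h' | h'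
      · exact absurd h' h2
      · exact h'
    obtain ⟨j, hj⟩ : ∃ j : Fin 7, j ≠ w := by
      by_cases h : w = 0
      · exact ⟨1, by rw [h]; decide⟩
      · exact ⟨0, fun h' => h h'.symm⟩
    have h7 := congrArg (T j) h6
    rw [map_zero, map_add, z.2 j, mem_EE_ne (x w).2 hj] at h7
    have h8 : (z : V) = x w := by rw [← sub_eq_zero, sub_eq_add_neg]; exact h7
    rw [h8] at h6
    have h9 : (x w : V) = 0 := by
      apply eq_zero_of_eq_neg h2
      rw [eq_neg_iff_add_eq_zero]
      exact h6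
    exact ⟨h8.trans h9, h9⟩
  rw [Prod.mk_eq_zero]
  refine ⟨Subtype.ext (key 0).1, ?_⟩
  funext w
  exact Subtype.ext (key w).2

theorem Phi_surj : Function.Surjective (Phi T) := by
  rw [← LinearMap.range_eq_top, eq_top_iff]
  intro x _
  set M := LinearMap.range (Phi T)
  have hZ : ∀ z ∈ ZZ T, z ∈ M := fun z hz => ⟨(⟨z, hz⟩, 0), by rw [Phi_apply]; simp⟩
  have hE : ∀ u, ∀ e ∈ EE T u, e ∈ M := by
    intro u e he
    refine ⟨(0, Pi.single u ⟨e, he⟩), ?_⟩
    rw [Phi_apply]
    simp only [ZeroMemClass.coe_zero, zero_add]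
    rw [Finset.sum_eq_single u]
    · simp
    · intro b _ hb
      rw [Pi.single_eq_of_ne hb]
      rfl
    · intro h
      exact absurd (Finset.mem_univ u) h
  have hD : ∀ u y, T u y = y → y ∈ M := by
    intro u y hy
    obtain ⟨z, hz, e, he, rfl⟩ := exists_decomp h2 hfin D hl hy
    exact M.add_mem (hZ z hz) (hE u e he)
  have hred : ∀ (i : Fin 7) (y : V), y - T i y ∈ M → y ∈ M := by
    intro i y hy
    have h3 : y + T i y ∈ M := hD i _ (by rw [map_add, D.sq', add_comm])
    have h4 := M.smul_mem (2 : k)⁻¹ (M.add_mem h3 hy)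
    rwa [add_add_sub_cancel, ← two_smul k y, smul_smul, inv_mul_cancel₀ h2, one_smul] at h4
  apply hred 0
  apply hred 1
  apply hred 2
  apply hred 3
  apply hred 4
  apply hred 5
  apply hred 6
  -- the last vector is negated by all involutions
  have hneg : ∀ (i : Fin 7) (y : V), T i (y - T i y) = -(y - T i y) := by
    intro i y
    rw [map_sub, D.sq', neg_sub]
  have hkeep : ∀ (i j : Fin 7) (y : V), T i y = -y → T i (y - T j y) = -(y - T j y) := by
    intro i j y h
    rw [map_sub, D.comm', h, map_neg]; abel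
  set y0 := x - T 0 x
  set y1 := y0 - T 1 y0
  set y2 := y1 - T 2 y1
  set y3 := y2 - T 3 y2
  set y4 := y3 - T 4 y3
  set y5 := y4 - T 5 y4
  set y6 := y5 - T 6 y5
  have e6 : T 6 y6 = -y6 := hneg 6 y5
  have e5 : T 5 y6 = -y6 := hkeep _ _ _ (hneg 5 y4)
  have e4 : T 4 y6 = -y6 := hkeep _ _ _ (hkeep _ _ _ (hneg 4 y3))
  have e3 : T 3 y6 = -y6 := hkeep _ _ _ (hkeep _ _ _ (hkeep _ _ _ (hneg 3 y2)))
  have e2 : T 2 y6 = -y6 := hkeep _ _ _ (hkeep _ _ _ (hkeep _ _ _ (hkeep _ _ _ (hneg 2 y1))))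
  have e1 : T 1 y6 = -y6 := hkeep _ _ _ (hkeep _ _ _ (hkeep _ _ _ (hkeep _ _ _ (hkeep _ _ _ (hneg 1 y0)))))
  have e0 : T 0 y6 = -y6 :=
    hkeep _ _ _ (hkeep _ _ _ (hkeep _ _ _ (hkeep _ _ _ (hkeep _ _ _ (hkeep _ _ _ (hneg 0 x))))))
  have hp := LinearMap.congr_fun D.prod y6
  simp only [Module.End.mul_apply, Module.End.one_apply, e6, e5, e4, e3, e2, e1, e0, map_neg, neg_neg] at hp
  have h0 : y6 = 0 := eq_zero_of_eq_neg h2 hp.symm
  rw [h0]
  exact M.zero_mem

theorem finrank_EE (u : Fin 7) : Module.finrank k (EE T u) = 1 := by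
  have hle : ∀ (g : Module.End k V) (s : Fin 7 → Fin 7) (hs : Function.Injective s)
      (hg : ∀ i, g * T i = T (s i) * g) (hi : Function.Injective g) (hsur : Function.Surjective s) (v : Fin 7),
      Module.finrank k (EE T v) ≤ Module.finrank k (EE T (s v)) := by
    intro g s hs hg hi hsur v
    let f : EE T v →ₗ[k] EE T (s v) := LinearMap.restrict g (by
      intro x hx j
      obtain ⟨i, rfl⟩ := hsur j
      rw [← Module.End.mul_apply, ← hg, Module.End.mul_apply, hx i]
      by_cases h : i = v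
      · rw [if_pos h, if_pos (by rw [h])]
      · rw [if_neg h, if_neg (fun h' => h (hs h')), map_neg])
    apply LinearMap.finrank_le_finrank_of_injective (f := f)
    intro a b hab
    apply Subtype.ext
    apply hi
    exact congrArg Subtype.val hab
  have i1 : Function.Injective s1 := by decide
  have i2 : Function.Injective s2 := by decide
  have a := hle g1 s1 i1 D.c1 D.i1 s1_surj
  have b := hle g2 s2 i2 D.c2 D.i2 s2_surj
  have a0 : Module.finrank k (EE T 0) ≤ Module.finrank k (EE T 1) := a 0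
  have a1 : Module.finrank k (EE T 1) ≤ Module.finrank k (EE T 3) := a 1
  have a2 : Module.finrank k (EE T 2) ≤ Module.finrank k (EE T 5) := a 2
  have a3 : Module.finrank k (EE T 3) ≤ Module.finrank k (EE T 0) := a 3
  have a4 : Module.finrank k (EE T 4) ≤ Module.finrank k (EE T 2) := a 4
  have a5 : Module.finrank k (EE T 5) ≤ Module.finrank k (EE T 4) := a 5
  have b0 : Module.finrank k (EE T 0) ≤ Module.finrank k (EE T 2) := b 0
  have b2 : Module.finrank k (EE T 2) ≤ Module.finrank k (EE T 0) := b 2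
  have b4 : Module.finrank k (EE T 4) ≤ Module.finrank k (EE T 6) := b 4
  have b6 : Module.finrank k (EE T 6) ≤ Module.finrank k (EE T 4) := b 6
  have hsum : Module.finrank k ((u : Fin 7) → EE T u) ≤ 13 := by
    have h3 := LinearMap.finrank_le_finrank_of_injective (Phi_inj h2 D)
    rw [Module.finrank_prod] at h3
    omega
  rw [Module.finrank_pi_fintype, Fin.sum_univ_seven] at hsum
  obtain ⟨v, hv, hpat⟩ := (fano_cases h2 hfin D hl).1 0
  have hpos : 0 < Module.finrank k (EE T 0) := by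
    rw [Module.finrank_pos_iff]
    refine nontrivial_of_ne (⟨v, ?_⟩ : EE T 0) 0 ?_
    · intro j
      rw [hpat j, ptc_bit]
      by_cases h : j = 0
      · rw [if_pos h]; simp [h]
      · rw [if_neg h]; simp [Ne.symm h]
    · intro h
      exact hv (congrArg Subtype.val h)
  (revert u; simp only [Fin.mk_one, Fin.zero_eta, Fin.reduceFinMk, _root_.Fin.forall_fin_succ, Fin.isValue, _root_.Fin.succ_zero_eq_one, _root_.Fin.succ_one_eq_two, Fin.reduceSucc, _root_.IsEmpty.forall_iff, _root_.and_true]) <;> (repeat' with_reducible apply And.intro) <;> omega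

theorem finrank_eq : Module.finrank k V = Module.finrank k (ZZ T) + 7 := by
  have h3 := LinearEquiv.finrank_eq (LinearEquiv.ofBijective (Phi T) ⟨Phi_inj h2 D, Phi_surj h2 hfin D hl⟩)
  rw [Module.finrank_prod, Module.finrank_pi_fintype] at h3
  rw [← h3, Finset.sum_congr rfl (fun u _ => finrank_EE h2 hfin D hl u)]
  simp

end Cfsg.Agent.H916.SpSix
end

-- part: H916/SpSixG
section
/-!
# The commuting case for `Sp₆(2)`: the common fixed space
-/

set_option autoImplicit false
set_option linter.unusedSectionVars false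
set_option linter.unusedVariables false

namespace Cfsg.Agent.H916.SpSix

section words

variable {M : Type*} [Monoid M]

/-- product of reflections -/
def pl (S : Fin 7 → M) : List ℕ → M
  | [] => 1
  | x :: l => Ga S x * pl S l

/-- action of a product of reflections -/
def al : List ℕ → ℕ → ℕ
  | [], v => v
  | x :: l, v => rf x (al l v)

/-- admissible words -/
def Adm (l : List ℕ) : Prop := ∀ x ∈ l, 0 < x ∧ x < 64

theorem Adm.head {x : ℕ} {l : List ℕ} (h : Adm (x :: l)) : 0 < x ∧ x < 64 := h x List.mem_cons_self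

theorem Adm.tail {x : ℕ} {l : List ℕ} (h : Adm (x :: l)) : Adm l := fun y hy => h y (List.mem_cons_of_mem _ hy)

theorem Adm.reverse {l : List ℕ} (h : Adm l) : Adm l.reverse := fun x hx => h x (List.mem_reverse.1 hx)

theorem al_pos {l : List ℕ} {v : ℕ} (h0 : 0 < v) : 0 < al l v := by
  induction l with
  | nil => exact h0
  | cons x l ih => exact rf_pos ih

theorem al_lt {l : List ℕ} (hl : Adm l) {v : ℕ} (h0 : v < 64) : al l v < 64 := by
  induction l with
  | nil => exact h0
  | cons x l ih => exact rf_lt hl.head.2 (ih hl.tail)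

theorem pl_append (S : Fin 7 → M) (l l' : List ℕ) : pl S (l ++ l') = pl S l * pl S l' := by
  induction l with
  | nil => rw [List.nil_append, pl, one_mul]
  | cons x l ih => rw [List.cons_append, pl, pl, ih, mul_assoc]

variable {S : Fin 7 → M} (C : Cox S)

include C

theorem pl_rev_mul (l : List ℕ) : pl S l.reverse * pl S l = 1 := by
  induction l with
  | nil => rw [List.reverse_nil, pl, one_mul]
  | cons x l ih =>
    rw [List.reverse_cons, pl_append, pl, pl, pl, mul_one]
    calc pl S l.reverse * Ga S x * (Ga S x * pl S l) = pl S l.reverse * (Ga S x * Ga S x) * pl S l := by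
          simp only [mul_assoc]
      _ = 1 := by rw [ga_sq C, mul_one, ih]

theorem pl_move {l : List ℕ} (hl : Adm l) {v : ℕ} (h0 : 0 < v) (hv : v < 64) :
    pl S l * Ga S v = Ga S (al l v) * pl S l := by
  induction l with
  | nil => rw [pl, one_mul, mul_one, al]
  | cons x l ih =>
    rw [pl, al, mul_assoc, ih hl.tail, ← mul_assoc, ga_move C hl.head.1 hl.head.2 (al_pos h0) (al_lt hl.tail hv),
      mul_assoc]

end words

section fano

variable {k V : Type*} [Field k] [AddCommGroup V] [Module k V] {S : Fin 7 → Module.End k V} (C : Cox S)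

/-- the seven commuting reflections -/
def TT (S : Fin 7 → Module.End k V) (i : Fin 7) : Module.End k V := Ga S (i + 1)

def w1 : List ℕ := [3, 24, 27, 6, 48, 54]

def w2 : List ℕ := [2, 8, 10]

theorem adm_w1 : Adm w1 := by unfold Adm; decide

theorem adm_w2 : Adm w2 := by unfold Adm; decide

theorem al_w1 : ∀ i : Fin 7, al w1 (i + 1) = (s1 i : ℕ) + 1 := by decide +kernel

theorem al_w2 : ∀ i : Fin 7, al w2 (i + 1) = (s2 i : ℕ) + 1 := by decide +kernel

include C in
theorem fanoE (hp : Ga S 1 * Ga S 2 * Ga S 3 * Ga S 4 * Ga S 5 * Ga S 6 * Ga S 7 = 1) :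
    FanoE (TT S) (pl S w1) (pl S w2) where
  sq i := ga_sq C _
  comm i j := by
    apply (ga_comm C (Nat.succ_pos _) (by omega) (Nat.succ_pos _) (by omega) ?_).eq
    fin_cases i <;> fin_cases j <;> rfl
  prod := hp
  c1 i := by
    unfold TT
    rw [pl_move C adm_w1 (Nat.succ_pos _) (by omega), al_w1]
  c2 i := by
    unfold TT
    rw [pl_move C adm_w2 (Nat.succ_pos _) (by omega), al_w2]
  i1 := by
    intro a b hab
    have h := pl_rev_mul C w1
    have := congrArg (fun y => (pl S w1.reverse) y) hab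
    rwa [← Module.End.mul_apply, ← Module.End.mul_apply, h] at this
  i2 := by
    intro a b hab
    have h := pl_rev_mul C w2
    have := congrArg (fun y => (pl S w2.reverse) y) hab
    rwa [← Module.End.mul_apply, ← Module.End.mul_apply, h] at this

theorem two_orth : ∀ v : Fin 64, ∃ a b : Fin 7, a ≠ b ∧ om (a + 1) v = false ∧ om (b + 1) v = false := by
  (set_option synthInstance.maxSize 2000 in open scoped Cfsg.Agent.Lib.Hoist Cfsg.Agent.Lib.HoistLin in decide +kernel)

theorem from_U : ∀ v : Fin 64, 8 ≤ v → ∃ a : Fin 7, rf ((a + 1) ^^^ v) (a + 1) = v ∧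
    0 < (a + 1 : ℕ) ^^^ v ∧ (a + 1 : ℕ) ^^^ v < 64 := by
  decide +kernel

variable [FiniteDimensional k V] (h2 : (2 : k) ≠ 0) (hfin : Module.finrank k V ≤ 13)
  (hp : Ga S 1 * Ga S 2 * Ga S 3 * Ga S 4 * Ga S 5 * Ga S 6 * Ga S 7 = 1)
  (hl : Ga S 1 * Ga S 2 * Ga S 3 ≠ 1)

include C h2 hfin hp hl

/-- the common fixed space is invariant -/
theorem Z_inv {x : V} (hx : x ∈ ZZ (TT S)) {v : ℕ} (h0 : 0 < v) (hv : v < 64) : Ga S v x ∈ ZZ (TT S) := by
  obtain ⟨a, b, hab, ha, hb⟩ := two_orth ⟨v, hv⟩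
  have key : ∀ a : Fin 7, om (a + 1) v = false → TT S a (Ga S v x) = Ga S v x := by
    intro a ha
    have hc := ga_comm C (Nat.succ_pos (a : ℕ)) (by omega) h0 hv ha
    unfold TT
    rw [← Module.End.mul_apply, show Ga S ((a : ℕ) + 1) * Ga S v = Ga S v * Ga S ((a : ℕ) + 1) from hc.eq,
      Module.End.mul_apply]
    congr 1
    exact hx a
  exact ZZ_of_two h2 hfin (fanoE C hp) hl hab (key a ha) (key b hb)

/-- all reflections are trivial on the common fixed space -/
theorem Z_fix {x : V} (hx : x ∈ ZZ (TT S)) {v : ℕ} (h0 : 0 < v) (hv : v < 64) : Ga S v x = x := by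
  by_cases h8 : v < 8
  · have := hx ⟨v - 1, by omega⟩
    unfold TT at this
    rwa [Nat.sub_add_cancel h0] at this
  · obtain ⟨a, h1, h2', h3⟩ := from_U ⟨v, hv⟩ (by show 8 ≤ v; omega)
    simp only at h1 h2' h3
    have h4 := ga_conj C h2' h3 (Nat.succ_pos (a : ℕ)) (by omega)
    rw [h1] at h4
    have h5 := Z_inv C h2 hfin hp hl hx h2' h3
    have h6 : Ga S ((a : ℕ) + 1) (Ga S (((a : ℕ) + 1) ^^^ v) x) = Ga S (((a : ℕ) + 1) ^^^ v) x := h5 a
    rw [← h4, Module.End.mul_apply, Module.End.mul_apply, h6, ← Module.End.mul_apply, ga_sq C, Module.End.one_apply]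

/-- a vector fixed by two commuting reflections is fixed by all -/
theorem Z_of_orth {v w : ℕ} (hv0 : 0 < v) (hv : v < 64) (hw0 : 0 < w) (hw : w < 64) (hvw : v ≠ w)
    (ho : om v w = false) {x : V} (h3 : Ga S v x = x) (h4 : Ga S w x = x) : x ∈ ZZ (TT S) := by
  have key : ∀ (l : List ℕ) (hl' : Adm l) {v w : ℕ}, 0 < v → v < 64 → 0 < w → w < 64 →
      (∀ y : V, Ga S (act l v) y = y → Ga S (act l w) y = y → y ∈ ZZ (TT S)) →
      ∀ y : V, Ga S v y = y → Ga S w y = y → y ∈ ZZ (TT S) := by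
    intro l
    induction l with
    | nil => intro _ v w _ _ _ _ h; exact h
    | cons x l ih =>
      intro hl' v w hv0 hv hw0 hw h y hy hy'
      have hx0 := hl'.head.1
      have hx := hl'.head.2
      have h5 := ih hl'.tail (rf_pos hv0 (x := x)) (rf_lt hx hv) (rf_pos hw0 (x := x)) (rf_lt hx hw) h
        (Ga S x y) (by
          rw [← Module.End.mul_apply, ← ga_move C hx0 hx hv0 hv, Module.End.mul_apply, hy]) (by
          rw [← Module.End.mul_apply, ← ga_move C hx0 hx hw0 hw, Module.End.mul_apply, hy'])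
      have h6 := Z_inv C h2 hfin hp hl h5 hx0 hx
      rwa [← Module.End.mul_apply, ga_sq C, Module.End.one_apply] at h6
  obtain ⟨p1, p2, p3⟩ := pth_ok ⟨v, hv⟩ ⟨w, hw⟩ (by rw [Ne, Fin.ext_iff]; simp; omega)
    (by rw [Ne, Fin.ext_iff]; simp; omega) (by rw [Ne, Fin.ext_iff]; exact hvw) ho
  simp only at p1 p2 p3
  rw [List.all_eq_true] at p3
  refine key (pth v w) (fun x hx => by simpa using p3 x hx) hv0 hv hw0 hw ?_ x h3 h4
  rw [p1, p2]
  intro y hy hy'
  exact ZZ_of_two h2 hfin (fanoE C hp) hl (u := 0) (u' := 1) (by decide) hy hy'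

end fano

end Cfsg.Agent.H916.SpSix
end

-- part: H916/TreeTrace
section
/-!
# Traces of words in (negatives of) the simple reflections of a Cartan matrix
-/

set_option autoImplicit false
set_option linter.unusedSectionVars false
set_option linter.unusedVariables false

namespace Cfsg.Agent.H916.TreeTrace

open Matrix

section words

variable {M : Type*} [Monoid M] {ι : Type*}

/-- words -/
def pS (S : ι → M) : List ι → M
  | [] => 1
  | i :: l => S i * pS S l

theorem pS_append (S : ι → M) (l l' : List ι) : pS S (l ++ l') = pS S l * pS S l' := by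
  induction l with
  | nil => rw [List.nil_append, pS, one_mul]
  | cons x l ih => rw [List.cons_append, pS, pS, ih, mul_assoc]

theorem pS_rev_mul {S : ι → M} (hS : ∀ i, S i * S i = 1) (l : List ι) : pS S l.reverse * pS S l = 1 := by
  induction l with
  | nil => rw [List.reverse_nil, pS, one_mul]
  | cons x l ih =>
    rw [List.reverse_cons, pS_append, pS, pS, pS, mul_one]
    calc pS S l.reverse * S x * (S x * pS S l) = pS S l.reverse * (S x * S x) * pS S l := by
          simp only [mul_assoc]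
      _ = 1 := by rw [hS, mul_one, ih]

theorem pS_mul_rev {S : ι → M} (hS : ∀ i, S i * S i = 1) (l : List ι) : pS S l * pS S l.reverse = 1 := by
  have h := pS_rev_mul hS l.reverse
  rwa [List.reverse_reverse] at h

theorem eq_rev {S : ι → M} (hS : ∀ i, S i * S i = 1) {l : List ι} {y : M} (h : y * pS S l = 1) :
    y = pS S l.reverse := by
  calc y = y * (pS S l * pS S l.reverse) := by rw [pS_mul_rev hS, mul_one]
    _ = pS S l.reverse := by rw [← mul_assoc, h, one_mul]

end words

section perfect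

variable {k V : Type*} [Field k] [AddCommGroup V] [Module k V] {ι : Type*} {S : ι → Module.End k V}

/-- a perfect group of scalar multiples of words consists of words -/
theorem word_of_perfect {L : Type*} [Group L] (ρ : L →* Module.End k V) (hperf : commutator L = ⊤)
    (hS : ∀ i, S i * S i = 1) (h : ∀ g, ∃ c : k, c ≠ 0 ∧ ∃ l, ρ g = c • pS S l) :
    ∀ g, ∃ l, ρ g = pS S l := by
  let H : Subgroup L :=
    { carrier := {g | ∃ l, ρ g = pS S l}
      mul_mem' := by
        rintro a b ⟨l, hl⟩ ⟨l', hl'⟩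
        exact ⟨l ++ l', by rw [map_mul, hl, hl', pS_append]⟩
      one_mem' := ⟨[], by rw [map_one]; rfl⟩
      inv_mem' := by
        rintro a ⟨l, hl⟩
        exact ⟨l.reverse, eq_rev hS (by rw [← hl, ← map_mul, inv_mul_cancel, map_one])⟩ }
  have hinv : ∀ {g : L} {c : k} {l : List ι}, c ≠ 0 → ρ g = c • pS S l → ρ g⁻¹ = c⁻¹ • pS S l.reverse := by
    intro g c l hc hg
    have h1 : ρ g⁻¹ * ρ g = 1 := by rw [← map_mul, inv_mul_cancel, map_one]
    rw [hg, mul_smul_comm, ← smul_mul_assoc] at h1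
    have h2 := eq_rev hS h1
    rw [← h2, smul_smul, inv_mul_cancel₀ hc, one_smul]
  have hH : commutator L ≤ H := by
    rw [commutator_def, Subgroup.commutator_le]
    intro a _ b _
    obtain ⟨c, hc, l, hl⟩ := h a
    obtain ⟨c', hc', l', hl'⟩ := h b
    refine ⟨l ++ l' ++ l.reverse ++ l'.reverse, ?_⟩
    rw [commutatorElement_def, map_mul, map_mul, map_mul, hinv hc hl, hinv hc' hl', hl, hl', pS_append, pS_append,
      pS_append]
    simp only [smul_mul_assoc, mul_smul_comm, smul_smul]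
    rw [show c'⁻¹ * (c⁻¹ * (c' * c)) = 1 by field_simp, one_smul]
  intro g
  have : g ∈ H := hH (by rw [hperf]; trivial)
  exact this

end perfect

section mat

variable {ι : Type*} [Fintype ι] [DecidableEq ι]

/-- matrix of the negative of a simple reflection -/
def rM (C : Matrix ι ι ℤ) (i : ι) : Matrix ι ι ℤ :=
  Matrix.of fun l j => (if l = i then C i j else 0) - (if l = j then 1 else 0)

theorem rM_sym {C : Matrix ι ι ℤ} (hC : Cᵀ = C) (i : ι) : (rM C i)ᵀ * C = C * rM C i := by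
  have hs : ∀ a b, C a b = C b a := fun a b => congrFun (congrFun hC b) a
  ext l j
  simp only [Matrix.mul_apply, Matrix.transpose_apply, rM, Matrix.of_apply, sub_mul, mul_sub, ite_mul, mul_ite,
    zero_mul, mul_zero, one_mul, mul_one, Finset.sum_sub_distrib, Finset.sum_ite_eq', Finset.sum_ite_eq,
    Finset.mem_univ, if_true]
  rw [hs l i]

theorem pS_sym {C : Matrix ι ι ℤ} (hC : Cᵀ = C) (l : List ι) :
    (pS (rM C) l)ᵀ * C = C * pS (rM C) l.reverse := by
  induction l with
  | nil => rw [List.reverse_nil, pS, Matrix.transpose_one, one_mul, mul_one]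
  | cons i l ih =>
    rw [pS, Matrix.transpose_mul, Matrix.mul_assoc, rM_sym hC, ← Matrix.mul_assoc, ih, List.reverse_cons, pS_append,
      pS, pS, mul_one, Matrix.mul_assoc]

theorem trace_rev {C D : Matrix ι ι ℤ} (hC : Cᵀ = C) {n : ℤ} (hn : n ≠ 0) (hCD : C * D = n • 1) (hDC : D * C = n • 1)
    (l : List ι) : (pS (rM C) l.reverse).trace = (pS (rM C) l).trace := by
  have h1 : n • pS (rM C) l.reverse = D * ((pS (rM C) l)ᵀ * C) := by
    rw [pS_sym hC, ← Matrix.mul_assoc, hDC, Matrix.smul_mul, Matrix.one_mul]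
  have h2 := congrArg Matrix.trace h1
  rw [Matrix.trace_smul, Matrix.trace_mul_comm, Matrix.mul_assoc, hCD, Matrix.mul_smul, Matrix.mul_one,
    Matrix.trace_smul, Matrix.trace_transpose] at h2
  exact smul_right_injective ℤ hn h2

end mat

section lin

variable {k V : Type*} [Field k] [AddCommGroup V] [Module k V] {ι : Type*} [Fintype ι] [DecidableEq ι]
  (b : Module.Basis ι k V) {S : ι → Module.End k V} {C D : Matrix ι ι ℤ}

theorem toMatrix_word (hS : ∀ i j, S i (b j) = -b j + (C i j : k) • b i) (l : List ι) :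
    LinearMap.toMatrix b b (pS S l) = (pS (rM C) l).map (Int.castRingHom k) := by
  induction l with
  | nil =>
    rw [pS, pS, LinearMap.toMatrix_one, Matrix.map_one _ (map_zero _) (map_one _)]
  | cons i l ih =>
    rw [pS, pS, LinearMap.toMatrix_mul, ih, Matrix.map_mul]
    congr 1
    ext a c
    rw [LinearMap.toMatrix_apply, hS, map_add, map_neg, map_smul, Finsupp.add_apply, Finsupp.neg_apply,
      Finsupp.smul_apply, Module.Basis.repr_self_apply, Module.Basis.repr_self_apply, Matrix.map_apply, rM,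
      Matrix.of_apply, smul_eq_mul]
    by_cases h1 : c = a
    · by_cases h2 : i = a
      · simp [h1, h2]; ring
      · simp only [h1, h2, Ne.symm h2, ↓ _root_.reduceIte, _root_.MulZeroClass.mul_zero, _root_.add_zero, _root_.zero_sub, _root_.Int.reduceNeg, _root_.eq_intCast, _root_.Int.cast_neg, _root_.Int.cast_one]
    · by_cases h2 : i = a
      · simp [h1, h2, Ne.symm h1]
      · simp [h1, h2, Ne.symm h1, Ne.symm h2]

include b in
/-- **Traces of words are integers, and inverse words have the same trace.** -/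
theorem trace_word (hS : ∀ i j, S i (b j) = -b j + (C i j : k) • b i) (hC : Cᵀ = C) {n : ℤ} (hn : n ≠ 0)
    (hCD : C * D = n • 1) (hDC : D * C = n • 1) (l : List ι) :
    ∃ z : ℤ, LinearMap.trace k V (pS S l) = z ∧ LinearMap.trace k V (pS S l.reverse) = z := by
  have h : ∀ l, LinearMap.trace k V (pS S l) = ((pS (rM C) l).trace : ℤ) := by
    intro l
    rw [LinearMap.trace_eq_matrix_trace k b, toMatrix_word b hS]
    exact (AddMonoidHom.map_trace (Int.castRingHom k : ℤ →+ k) _).symm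
  refine ⟨(pS (rM C) l).trace, h l, ?_⟩
  rw [h, trace_rev hC hn hCD hDC]

end lin

end Cfsg.Agent.H916.TreeTrace
end

-- part: H916/SpSixH
section
/-!
# The commuting case for `Sp₆(2)`, irreducible: dimension 7 and the reflection representation of type `E₇`
-/

set_option autoImplicit false
set_option linter.unusedSectionVars false
set_option linter.unusedVariables false

namespace Cfsg.Agent.H916.SpSix

open TreeTrace Matrix

/-- Cartan matrix of type `E₇` -/
def C7 : Matrix (Fin 7) (Fin 7) ℤ :=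
  !![2, -1, 0, 0, 0, 0, 0; -1, 2, -1, 0, 0, 0, 0; 0, -1, 2, -1, 0, 0, -1; 0, 0, -1, 2, -1, 0, 0;
    0, 0, 0, -1, 2, -1, 0; 0, 0, 0, 0, -1, 2, 0; 0, 0, -1, 0, 0, 0, 2]

def D7 : Matrix (Fin 7) (Fin 7) ℤ :=
  !![4, 6, 8, 6, 4, 2, 4; 6, 12, 16, 12, 8, 4, 8; 8, 16, 24, 18, 12, 6, 12; 6, 12, 18, 15, 10, 5, 9;
    4, 8, 12, 10, 8, 4, 6; 2, 4, 6, 5, 4, 3, 3; 4, 8, 12, 9, 6, 3, 7]

theorem C7_symm : C7ᵀ = C7 := by decide +kernel

theorem C7_D7 : C7 * D7 = (2 : ℤ) • 1 := by decide +kernel

theorem D7_C7 : D7 * C7 = (2 : ℤ) • 1 := by decide +kernel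

theorem C7_diag : ∀ i, C7 i i = 2 := by decide

theorem C7_non : ∀ i j : Fin 7, i ≠ j → om (sr i) (sr j) = false → (C7 i j : ℤ) = 0 := by
  intro i j
  fin_cases i <;> fin_cases j <;> decide

theorem C7_adj : ∀ i j : Fin 7, om (sr i) (sr j) = true → (C7 i j : ℤ) = -1 := by
  intro i j
  fin_cases i <;> fin_cases j <;> decide

theorem adj_cases : ∀ i j, om (sr i) (sr j) = true → (i = 0 ∧ j = 1) ∨ (i = 1 ∧ j = 0) ∨ (i = 1 ∧ j = 2) ∨
    (i = 2 ∧ j = 1) ∨ (i = 2 ∧ j = 3) ∨ (i = 3 ∧ j = 2) ∨ (i = 3 ∧ j = 4) ∨ (i = 4 ∧ j = 3) ∨ (i = 4 ∧ j = 5) ∨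
    (i = 5 ∧ j = 4) ∨ (i = 2 ∧ j = 6) ∨ (i = 6 ∧ j = 2) := by decide +kernel

theorem toOne_ok : ∀ v : Fin 64, v ≠ 0 → act (toOne v) v = 1 ∧
    (toOne v).all (fun x => decide (0 < x ∧ x < 64)) = true := by
  decide +kernel

section irr

variable {k V : Type*} [Field k] [AddCommGroup V] [Module k V] {S : Fin 7 → Module.End k V} (C : Cox S)
  [FiniteDimensional k V] (h2 : (2 : k) ≠ 0) (hfin : Module.finrank k V ≤ 13)
  (hp : Ga S 1 * Ga S 2 * Ga S 3 * Ga S 4 * Ga S 5 * Ga S 6 * Ga S 7 = 1)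
  (hl : Ga S 1 * Ga S 2 * Ga S 3 ≠ 1)
  (hirr : ∀ W : Submodule k V, (∀ i, ∀ w ∈ W, S i w ∈ W) → W = ⊥ ∨ W = ⊤)

include C h2 hfin hp hl hirr

theorem ZZ_bot : ZZ (TT S) = ⊥ := by
  rcases hirr (ZZ (TT S)) (fun i w hw => by
    have h := Z_inv C h2 hfin hp hl hw (sr_pos i) (sr_lt i)
    rwa [ga_sr] at h) with h | h
  · exact h
  · exfalso
    apply hl
    ext x
    have hx : x ∈ ZZ (TT S) := by rw [h]; trivial
    rw [Module.End.mul_apply, Module.End.mul_apply, Z_fix C h2 hfin hp hl hx (by norm_num) (by norm_num),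
      Z_fix C h2 hfin hp hl hx (by norm_num) (by norm_num), Z_fix C h2 hfin hp hl hx (by norm_num) (by norm_num)]
    rfl

theorem finrank_seven : Module.finrank k V = 7 := by
  rw [finrank_eq h2 hfin (fanoE C hp) hl, ZZ_bot C h2 hfin hp hl hirr, finrank_bot]

theorem fix_line {v : ℕ} (hv0 : 0 < v) (hv : v < 64) :
    ∃ e : V, e ≠ 0 ∧ Ga S v e = e ∧ ∀ x : V, Ga S v x = x → ∃ c : k, x = c • e := by
  have key : ∀ (l : List ℕ) (hl' : Adm l) {v : ℕ}, 0 < v → v < 64 →
      (∃ e : V, e ≠ 0 ∧ Ga S (act l v) e = e ∧ ∀ x : V, Ga S (act l v) x = x → ∃ c : k, x = c • e) →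
      ∃ e : V, e ≠ 0 ∧ Ga S v e = e ∧ ∀ x : V, Ga S v x = x → ∃ c : k, x = c • e := by
    intro l
    induction l with
    | nil => intro _ v _ _ h; exact h
    | cons x l ih =>
      intro hl' v hv0 hv h
      have hx0 := hl'.head.1
      have hx := hl'.head.2
      obtain ⟨e, he0, he, hall⟩ := ih hl'.tail (rf_pos hv0 (x := x)) (rf_lt hx hv) h
      have hsq : ∀ y, Ga S x (Ga S x y) = y := fun y => by
        rw [← Module.End.mul_apply, ga_sq C, Module.End.one_apply]
      have hmv : ∀ y, Ga S x (Ga S v y) = Ga S (rf x v) (Ga S x y) := fun y => by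
        rw [← Module.End.mul_apply, ga_move C hx0 hx hv0 hv, Module.End.mul_apply]
      refine ⟨Ga S x e, ?_, ?_, ?_⟩
      · intro h0
        apply he0
        rw [← hsq e, h0, map_zero]
      · have h3 := hmv (Ga S x e)
        rw [hsq, he] at h3
        have h4 := congrArg (fun y => Ga S x y) h3
        rwa [hsq] at h4
      · intro y hy
        obtain ⟨c, hc⟩ := hall (Ga S x y) (by rw [← hmv, hy])
        refine ⟨c, ?_⟩
        rw [← map_smul, ← hc, hsq]
  obtain ⟨p1, p3⟩ := toOne_ok ⟨v, hv⟩ (by rw [Ne, Fin.ext_iff]; simp; omega)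
  simp only at p1 p3
  rw [List.all_eq_true] at p3
  refine key (toOne v) (fun x hx => by simpa using p3 x hx) hv0 hv ?_
  rw [p1]
  have h1 := finrank_EE h2 hfin (fanoE C hp) hl 0
  rw [finrank_eq_one_iff'] at h1
  obtain ⟨e, he0, hall⟩ := h1
  refine ⟨e, fun h => he0 (Subtype.ext h), show TT S 0 (e : V) = e from mem_EE_self e.2, fun x hx => ?_⟩
  obtain ⟨z, hz, e', he', rfl⟩ := exists_decomp h2 hfin (fanoE C hp) hl (u := 0) (x := x) hx
  rw [ZZ_bot C h2 hfin hp hl hirr, Submodule.mem_bot] at hz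
  obtain ⟨c, hc⟩ := hall ⟨e', he'⟩
  refine ⟨c, ?_⟩
  rw [hz, zero_add]
  exact (congrArg Subtype.val hc).symm

/-- root vectors and structure constants -/
theorem exists_roots : ∃ (e : Fin 7 → V) (a : Fin 7 → Fin 7 → k), (∀ i j, S i (e j) = -e j + a i j • e i) ∧
    (∀ i, a i i = 2) ∧ (∀ i j, i ≠ j → om (sr i) (sr j) = false → a i j = 0) ∧
    (∀ i j, om (sr i) (sr j) = true → a i j * a j i = 1) ∧ LinearIndependent k e := by
  choose e he0 hee hall using fun i : Fin 7 => fix_line C h2 hfin hp hl hirr (sr_pos i) (sr_lt i)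
  simp only [ga_sr] at hee hall
  have hsq : ∀ i y, S i (S i y) = y := fun i y => by
    rw [← Module.End.mul_apply, C.sq, Module.End.one_apply]
  choose a ha using fun i j : Fin 7 => hall i (e j + S i (e j)) (by rw [map_add, hsq, add_comm])
  have haS : ∀ i j, S i (e j) = -e j + a i j • e i := by
    intro i j
    rw [← ha i j]; abel
  have hind : LinearIndependent k e := by
    rw [linearIndependent_iff_card_eq_finrank_span, Fintype.card_fin]
    rcases hirr (Submodule.span k (Set.range e)) (fun i w hw => by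
      induction hw using Submodule.span_induction with
      | mem w hw =>
        obtain ⟨j, rfl⟩ := hw
        rw [haS]
        exact Submodule.add_mem _ (Submodule.neg_mem _ (Submodule.subset_span ⟨j, rfl⟩))
          (Submodule.smul_mem _ _ (Submodule.subset_span ⟨i, rfl⟩))
      | zero => rw [map_zero]; exact Submodule.zero_mem _
      | add x y _ _ hx hy => rw [map_add]; exact Submodule.add_mem _ hx hy
      | smul c x _ hx => rw [map_smul]; exact Submodule.smul_mem _ _ hx) with h | h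
    · exfalso
      apply he0 0
      rw [← Submodule.mem_bot k, ← h]
      exact Submodule.subset_span ⟨0, rfl⟩
    · rw [Set.finrank, h, finrank_top, finrank_seven C h2 hfin hp hl hirr]
  refine ⟨e, a, haS, ?_, ?_, ?_, hind⟩
  · intro i
    have h := ha i i
    rw [hee, ← two_smul k (e i)] at h
    exact (smul_left_injective k (he0 i) h).symm
  · intro i j hij ho
    have hm : ∀ {i j : Fin 7}, sr i = sr j → i = j := by decide
    have h3 := Z_of_orth C h2 hfin hp hl (sr_pos i) (sr_lt i) (sr_pos j) (sr_lt j) (fun h => hij (hm h)) ho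
      (x := a i j • e i) (by rw [ga_sr, map_smul, hee]) (by
        rw [ga_sr, ← ha i j, map_add, hee, ← Module.End.mul_apply, ← C.comm i j ho, Module.End.mul_apply, hee])
    rw [ZZ_bot C h2 hfin hp hl hirr, Submodule.mem_bot] at h3
    rcases smul_eq_zero.1 h3 with h | h
    · exact h
    · exact absurd h (he0 i)
  · intro i j ho
    have hij : i ≠ j := by
      rintro rfl
      revert ho
      (revert i; decide +kernel)
    have h3 := LinearMap.congr_fun (C.braid i j ho) (e j)
    simp only [Module.End.mul_apply] at h3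
    rw [hee j] at h3
    simp only [haS i j, haS j i, hee i, hee j, map_add, map_neg, map_smul] at h3
    have h4 : (2 * (a i j * a j i - 1)) • e j + (-(a i j * (a i j * a j i - 1))) • e i = 0 := by
      have h6 := sub_eq_zero.2 h3.symm
      rw [← h6]
      module
    have h5 := linearIndependent_iff'.1 hind {j, i} (fun l => if l = j then 2 * (a i j * a j i - 1) else
      -(a i j * (a i j * a j i - 1))) (by
        rw [Finset.sum_pair (Ne.symm hij), if_pos rfl, if_neg hij]
        exact h4) j (by simp)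
    simp only [if_true] at h5
    rcases mul_eq_zero.1 h5 with h | h
    · exact absurd h h2
    · exact sub_eq_zero.1 h

/-- **The reflection representation.** -/
theorem exists_basis : ∃ b : Module.Basis (Fin 7) k V, ∀ i j, S i (b j) = -b j + (C7 i j : k) • b i := by
  obtain ⟨e, a, hS, h2', h0, h1, hind⟩ := exists_roots C h2 hfin hp hl hirr
  have hfr := finrank_seven C h2 hfin hp hl hirr
  let b0 := basisOfLinearIndependentOfCardEqFinrank hind (by rw [hfr, Fintype.card_fin])
  have hb0 : ∀ i, b0 i = e i := fun i => by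
    rw [coe_basisOfLinearIndependentOfCardEqFinrank]
  have a01 := h1 0 1 rfl
  have a12 := h1 1 2 rfl
  have a23 := h1 2 3 rfl
  have a34 := h1 3 4 rfl
  have a45 := h1 4 5 rfl
  have a26 := h1 2 6 rfl
  have nz : ∀ {x y : k}, x * y = 1 → y ≠ 0 := fun h h' => by rw [h', mul_zero] at h; exact zero_ne_one h
  let d : Fin 7 → k := ![1, -a 1 0, a 1 0 * a 2 1, -(a 1 0 * a 2 1 * a 3 2), a 1 0 * a 2 1 * a 3 2 * a 4 3,
    -(a 1 0 * a 2 1 * a 3 2 * a 4 3 * a 5 4), -(a 1 0 * a 2 1 * a 6 2)]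
  have hd : ∀ i, d i ≠ 0 := by
    have n1 := nz a01
    have n2 := nz a12
    have n3 := nz a23
    have n4 := nz a34
    have n5 := nz a45
    have n6 := nz a26
    intro i
    fin_cases i
    · exact one_ne_zero
    · exact neg_ne_zero.2 n1
    · exact mul_ne_zero n1 n2
    · exact neg_ne_zero.2 (mul_ne_zero (mul_ne_zero n1 n2) n3)
    · exact mul_ne_zero (mul_ne_zero (mul_ne_zero n1 n2) n3) n4
    · exact neg_ne_zero.2 (mul_ne_zero (mul_ne_zero (mul_ne_zero (mul_ne_zero n1 n2) n3) n4) n5)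
    · exact neg_ne_zero.2 (mul_ne_zero (mul_ne_zero n1 n2) n6)
  have hda : ∀ i j, d j * a i j = (C7 i j : k) * d i := by
    intro i j
    by_cases hij : i = j
    · rw [← hij, h2', C7_diag]
      push_cast
      ring
    by_cases ho : om (sr i) (sr j) = false
    · rw [h0 i j hij ho, C7_non i j hij ho]
      push_cast
      ring
    rw [Bool.not_eq_false] at ho
    rw [C7_adj i j ho]
    push_cast
    rcases adj_cases i j ho with ⟨rfl, rfl⟩ | ⟨rfl, rfl⟩ | ⟨rfl, rfl⟩ | ⟨rfl, rfl⟩ | ⟨rfl, rfl⟩ | ⟨rfl, rfl⟩ |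
      ⟨rfl, rfl⟩ | ⟨rfl, rfl⟩ | ⟨rfl, rfl⟩ | ⟨rfl, rfl⟩ | ⟨rfl, rfl⟩ | ⟨rfl, rfl⟩
    · show (-a 1 0) * a 0 1 = -1 * 1
      linear_combination -a01
    · show 1 * a 1 0 = -1 * (-a 1 0)
      ring
    · show (a 1 0 * a 2 1) * a 1 2 = -1 * (-a 1 0)
      linear_combination a 1 0 * a12
    · show (-a 1 0) * a 2 1 = -1 * (a 1 0 * a 2 1)
      ring
    · show (-(a 1 0 * a 2 1 * a 3 2)) * a 2 3 = -1 * (a 1 0 * a 2 1)
      linear_combination -(a 1 0 * a 2 1) * a23
    · show (a 1 0 * a 2 1) * a 3 2 = -1 * (-(a 1 0 * a 2 1 * a 3 2))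
      ring
    · show (a 1 0 * a 2 1 * a 3 2 * a 4 3) * a 3 4 = -1 * (-(a 1 0 * a 2 1 * a 3 2))
      linear_combination (a 1 0 * a 2 1 * a 3 2) * a34
    · show (-(a 1 0 * a 2 1 * a 3 2)) * a 4 3 = -1 * (a 1 0 * a 2 1 * a 3 2 * a 4 3)
      ring
    · show (-(a 1 0 * a 2 1 * a 3 2 * a 4 3 * a 5 4)) * a 4 5 = -1 * (a 1 0 * a 2 1 * a 3 2 * a 4 3)
      linear_combination -(a 1 0 * a 2 1 * a 3 2 * a 4 3) * a45
    · show (a 1 0 * a 2 1 * a 3 2 * a 4 3) * a 5 4 = -1 * (-(a 1 0 * a 2 1 * a 3 2 * a 4 3 * a 5 4))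
      ring
    · show (-(a 1 0 * a 2 1 * a 6 2)) * a 2 6 = -1 * (a 1 0 * a 2 1)
      linear_combination -(a 1 0 * a 2 1) * a26
    · show (a 1 0 * a 2 1) * a 6 2 = -1 * (-(a 1 0 * a 2 1 * a 6 2))
      ring
  refine ⟨b0.unitsSMul (fun i => Units.mk0 (d i) (hd i)), fun i j => ?_⟩
  rw [Module.Basis.unitsSMul_apply, Module.Basis.unitsSMul_apply, hb0, hb0]
  simp only [Units.smul_def, Units.val_mk0, map_smul]
  rw [hS, smul_add, smul_neg, smul_smul, smul_smul, hda]

end irr

end Cfsg.Agent.H916.SpSix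
end

-- part: H916/SpSixI
section
/-!
# `Sp₆(2)` as the simple group of a core: the commuting case
-/

set_option autoImplicit false
set_option linter.unusedSectionVars false
set_option linter.unusedVariables false

namespace Cfsg.Agent.H916.SpSix

open TreeTrace Cfsg Cfsg.Geo Cfsg.Agent.H915.LD Matrix

universe u v

section prep

variable {k V : Type*} [Field k] [AddCommGroup V] [Module k V] [Nontrivial V] {L T : Type*} [Group L] [Group T]

/-- the projective representation of a central extension -/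
def PRep.ofHom (ρ : L →* Module.End k V) (π : L →* T) (hπ : Function.Surjective π)
    (h1 : ∀ g, π g = 1 → ∃ c : k, ρ g = c • 1) (h2 : ∀ (g : L) (c : k), ρ g = c • 1 → π g = 1) : PRep T k V where
  L s := {A | ∃ (g : L) (c : k), c ≠ 0 ∧ π g = s ∧ A = c • ρ g}
  mul := by
    rintro s t A B ⟨g, c, hc, rfl, rfl⟩ ⟨g', c', hc', rfl, rfl⟩
    exact ⟨g * g', c * c', mul_ne_zero hc hc', map_mul _ _ _, by rw [map_mul, smul_mul_smul_comm]⟩
  smul := by
    rintro t A d hd ⟨g, c, hc, rfl, rfl⟩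
    exact ⟨g, d * c, mul_ne_zero hd hc, rfl, by rw [smul_smul]⟩
  ex := by
    intro t
    obtain ⟨g, rfl⟩ := hπ t
    exact ⟨ρ g, g, 1, one_ne_zero, rfl, by rw [one_smul]⟩
  one := by
    rintro A ⟨g, c, hc, hg, rfl⟩
    obtain ⟨d, hd⟩ := h1 g hg
    refine ⟨c * d, mul_ne_zero hc ?_, by rw [hd, smul_smul]⟩
    rintro rfl
    have h3 : ρ g⁻¹ * ρ g = 1 := by rw [← map_mul, inv_mul_cancel, map_one]
    rw [hd, zero_smul, mul_zero] at h3
    exact zero_ne_one h3
  inj := by
    rintro t c ⟨g, d, hd, rfl, h⟩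
    apply h2 g (d⁻¹ * c)
    rw [mul_smul, h, smul_smul, inv_mul_cancel₀ hd, one_smul]

end prep

section words

variable {M : Type*} [Monoid M]

theorem cw_eq (S : Fin 7 → M) (l : List (Fin 7)) (x : M) : cw S l x = pS S l * x * pS S l.reverse := by
  induction l with
  | nil => rw [List.reverse_nil, pS, cw, one_mul, mul_one]
  | cons i l ih =>
    rw [cw, ih, List.reverse_cons, pS_append, pS, pS, pS, mul_one]
    simp only [mul_assoc]

theorem ga_eq (S : Fin 7 → M) (v : ℕ) : Ga S v = pS S (wd v ++ [bs v] ++ (wd v).reverse) := by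
  rw [Ga, cw_eq, pS_append, pS_append, pS, pS, mul_one]

variable {T k V : Type*} [Group T] [Field k] [AddCommGroup V] [Module k V] (R : PRep T k V)
  {t : ℕ → T} (D : SpData t) {S : Fin 7 → Module.End k V} (hA : CA R t S)

include D hA

theorem CA.word (gen : Subgroup.closure {x | ∃ v, 0 < v ∧ v < 64 ∧ x = t v} = ⊤) (s : T) :
    ∃ l : List (Fin 7), pS S l ∈ R.L s := by
  have hs : s ∈ Subgroup.closure {x | ∃ v, 0 < v ∧ v < 64 ∧ x = t v} := by rw [gen]; trivial
  have hone : (1 : Module.End k V) ∈ R.L 1 := by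
    have h := R.mul (hA.mem 0) (hA.mem 0)
    rwa [hA.cox.sq, D.sq (sr_pos 0) (sr_lt 0)] at h
  induction hs using Subgroup.closure_induction with
  | mem x hx =>
    obtain ⟨v, h0, h, rfl⟩ := hx
    exact ⟨_, by rw [← ga_eq]; exact D.ga_mem R hA.mem h0 h⟩
  | one => exact ⟨[], hone⟩
  | mul x y _ _ hx hy =>
    obtain ⟨l, hl⟩ := hx
    obtain ⟨l', hl'⟩ := hy
    exact ⟨l ++ l', by rw [pS_append]; exact R.mul hl hl'⟩
  | inv x _ hx =>
    obtain ⟨l, hl⟩ := hx
    refine ⟨l.reverse, ?_⟩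
    obtain ⟨B, hB⟩ := R.ex x⁻¹
    have h1 := R.mul hB hl
    rw [inv_mul_cancel] at h1
    obtain ⟨c, hc, h1⟩ := R.one h1
    have h2 : c⁻¹ • B = pS S l.reverse := by
      apply eq_rev hA.cox.sq
      rw [smul_mul_assoc, h1, smul_smul, inv_mul_cancel₀ hc, one_smul]
    rw [← h2]
    exact R.smul (inv_ne_zero hc) hB

end words

section core

variable {ι : Type} [Fintype ι] [DecidableEq ι] {F : Type u} [Field F] {P : Subgroup (GL ι F)}
  {T : Type v} [Group T]

/-- the projective representation of the simple group of a core over the algebraic closure -/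
noncomputable def coreRep (hC : Core P) (e : Soc P ≃* T) :
    PRep T (AlgebraicClosure F) (ι → AlgebraicClosure F) :=
  have : Nonempty ι := hC.nonempty
  PRep.ofHom (H911.Five.rep P) (e.toMonoidHom.comp (toSoc P)) (e.surjective.comp (toSoc_surjective P))
    (by
      intro g hg
      have h1 : g ∈ (e.toMonoidHom.comp (toSoc P)).ker := hg
      rw [ker_comp, Subgroup.mem_subgroupOf, mem_scalars_iff] at h1
      obtain ⟨c, hc⟩ := h1
      refine ⟨algebraMap F (AlgebraicClosure F) c, ?_⟩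
      ext1 x
      ext i
      rw [LinearMap.comp_apply, H911.Five.rep_apply, hc]
      simp only [Matrix.smul_one_eq_diagonal, Matrix.diagonal_map, Matrix.mulVec_diagonal, Pi.single_apply,
        Algebra.algebraMap_eq_smul_one, _root_.zero_smul, _root_.LinearMap.coe_single, _root_.mul_ite, _root_.mul_one, _root_.MulZeroClass.mul_zero, _root_.smul_assoc, _root_.one_smul, _root_.LinearMap.coe_comp, _root_.LinearMap.coe_smul, _root_.Function.comp_apply, _root_.Pi.smul_apply, _root_.Module.End.one_apply, _root_.smul_ite, _root_.smul_zero])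
    (by
      intro g c hg
      have h1 : g ∈ (e.toMonoidHom.comp (toSoc P)).ker := by
        rw [ker_comp, Subgroup.mem_subgroupOf, mem_scalars_iff]
        obtain ⟨d, hd⟩ := hC.absIrred.2 ((g : GL ι F) : Matrix ι ι F) (by
          rintro s ⟨h, hh, rfl⟩
          have h2 : g * ⟨h, hh⟩ = ⟨h, hh⟩ * g := by
            apply H911.Five.rep_injective P
            rw [map_mul, map_mul, hg, smul_mul_assoc, mul_smul_comm, one_mul, mul_one]
          have h3 := congrArg (fun x : P => ((x : GL ι F) : Matrix ι ι F)) h2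
          simpa only [_root_.Subgroup.coe_mul, _root_.Units.val_mul] using h3)
        have hd0 : d ≠ 0 := by
          rintro rfl
          rw [zero_smul] at hd
          have h5 : (((g : GL ι F)⁻¹ : GL ι F) : Matrix ι ι F) * ((g : GL ι F) : Matrix ι ι F) = 1 := by
            rw [← Units.val_mul, inv_mul_cancel, Units.val_one]
          rw [hd, Matrix.mul_zero] at h5
          exact zero_ne_one h5
        exact ⟨Units.mk0 d hd0, hd⟩
      exact h1)

theorem mem_coreRep (hC : Core P) (e : Soc P ≃* T) (g : P) :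
    H911.Five.rep P g ∈ (coreRep hC e).L (e (toSoc P g)) :=
  ⟨g, 1, one_ne_zero, rfl, by rw [one_smul]⟩

theorem tr_rep (g : P) : LinearMap.trace _ _ (H911.Five.rep P g) = algebraMap F (AlgebraicClosure F) (tr (g : GL ι F)) :=
  H911.Five.trace_rep P g

/-- irreducibility for a family of lifts generating everything -/
theorem irr_of_word {κ : Type*} (hC : Core P) (e : Soc P ≃* T) {S : κ → Module.End (AlgebraicClosure F) (ι → AlgebraicClosure F)}
    (hw : ∀ s, ∃ l, pS S l ∈ (coreRep hC e).L s) (W : Submodule (AlgebraicClosure F) (ι → AlgebraicClosure F))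
    (hW : ∀ i, ∀ w ∈ W, S i w ∈ W) : W = ⊥ ∨ W = ⊤ := by
  apply H911.Five.rep_irr hC.absIrred
  intro g w hw'
  obtain ⟨l, hl⟩ := hw (e (toSoc P g))
  obtain ⟨c, -, h⟩ := (coreRep hC e).prop_of (mem_coreRep hC e g) hl
  rw [h, LinearMap.smul_apply]
  apply W.smul_mem
  clear hl h
  induction l with
  | nil => exact hw'
  | cons i l ih => exact hW i _ ih

/-- **The commuting case.** -/
theorem core_comm (hC : Core P) (e : Soc P ≃* T) {t : ℕ → T} (D : SpData t)
    (gen : Subgroup.closure {x | ∃ v, 0 < v ∧ v < 64 ∧ x = t v} = ⊤) (h2 : (2 : F) ≠ 0)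
    (hn : Fintype.card ι ≤ 13) (hc : (coreRep hC e).CommL (t 1) (t 2)) :
    Fintype.card ι = 7 ∧ ∀ g ∈ P, ∃ z : ℤ, tr g = z ∧ tr g⁻¹ = z := by
  have : Nonempty ι := hC.nonempty
  obtain ⟨S, hA⟩ := D.exists_CA (coreRep hC e) hc
  have hw := hA.word (coreRep hC e) D gen
  have h2' : (2 : AlgebraicClosure F) ≠ 0 := by
    intro h
    apply h2
    apply (algebraMap F (AlgebraicClosure F)).injective
    rw [map_zero, map_ofNat, h]
  have hfin : Module.finrank (AlgebraicClosure F) (ι → AlgebraicClosure F) ≤ 13 := by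
    rw [Module.finrank_fintype_fun_eq_card]; exact hn
  have hl : Ga S 1 * Ga S 2 * Ga S 3 ≠ 1 := by
    intro h
    have hm : ∀ {v}, 0 < v → v < 64 → Ga S v ∈ (coreRep hC e).L (t v) := fun h0 h => D.ga_mem _ hA.mem h0 h
    have h3 := (coreRep hC e).mul ((coreRep hC e).mul (hm (v := 1) (by norm_num) (by norm_num))
      (hm (v := 2) (by norm_num) (by norm_num))) (hm (v := 3) (by norm_num) (by norm_num))
    rw [h, ← one_smul (AlgebraicClosure F) (1 : Module.End (AlgebraicClosure F) (ι → AlgebraicClosure F))] at h3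
    exact D.ne ((coreRep hC e).inj h3)
  have hirr := irr_of_word hC e hw
  have h7 := finrank_seven hA.cox h2' hfin hA.prod hl hirr
  rw [Module.finrank_fintype_fun_eq_card] at h7
  refine ⟨h7, ?_⟩
  obtain ⟨b, hb⟩ := exists_basis hA.cox h2' hfin hA.prod hl hirr
  have hexact := word_of_perfect (H911.Five.rep P) hC.commutator_top hA.cox.sq (fun g => by
    obtain ⟨l, hl⟩ := hw (e (toSoc P g))
    obtain ⟨c, hc, h⟩ := (coreRep hC e).prop_of (mem_coreRep hC e g) hl
    exact ⟨c, hc, l, h⟩)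
  intro g hg
  obtain ⟨l, hl⟩ := hexact ⟨g, hg⟩
  obtain ⟨z, hz1, hz2⟩ := trace_word b hb C7_symm (n := 2) (by norm_num) C7_D7 D7_C7 l
  have hinv : H911.Five.rep P (⟨g, hg⟩ : P)⁻¹ = pS S l.reverse :=
    eq_rev hA.cox.sq (by rw [← hl, ← map_mul, inv_mul_cancel, map_one])
  refine ⟨z, ?_, ?_⟩
  · apply (algebraMap F (AlgebraicClosure F)).injective
    rw [← tr_rep ⟨g, hg⟩, hl, hz1, map_intCast]
  · apply (algebraMap F (AlgebraicClosure F)).injective
    have := tr_rep (⟨g, hg⟩ : P)⁻¹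
    rw [Subgroup.coe_inv] at this
    rw [← this, hinv, hz2, map_intCast]

end core

end Cfsg.Agent.H916.SpSix
end

-- part: H916/Halving
section
/-!
# Anticommuting operators and divisibility of the dimension
-/

set_option autoImplicit false
set_option linter.unusedSectionVars false
set_option linter.unusedVariables false

namespace Cfsg.Agent.H916.Halving

variable {k V : Type*} [Field k] [AddCommGroup V] [Module k V]

/-- the eigenspace of `A` in `W` -/
def eig (W : Submodule k V) (A : Module.End k V) (a : k) : Submodule k V := W ⊓ LinearMap.ker (A - a • 1)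

theorem mem_eig {W : Submodule k V} {A : Module.End k V} {a : k} {x : V} :
    x ∈ eig W A a ↔ x ∈ W ∧ A x = a • x := by
  rw [eig, Submodule.mem_inf, LinearMap.mem_ker, LinearMap.sub_apply, LinearMap.smul_apply, Module.End.one_apply,
    sub_eq_zero]

/-- an operator commuting with `A` preserves the eigenspace -/
theorem eig_inv {W : Submodule k V} {A X : Module.End k V} {a : k} (hX : ∀ x ∈ W, X x ∈ W)
    (h : A * X = X * A) : ∀ x ∈ eig W A a, X x ∈ eig W A a := by
  intro x hx
  rw [mem_eig] at hx ⊢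
  refine ⟨hX x hx.1, ?_⟩
  rw [← Module.End.mul_apply, h, Module.End.mul_apply, hx.2, map_smul]

variable [FiniteDimensional k V]

theorem finrank_eig_le {W : Submodule k V} {A B : Module.End k V} {a b : k} (hB : ∀ x ∈ W, B x ∈ W)
    (hb : b ≠ 0) (hB2 : B * B = b • 1) (hAB : A * B = -(B * A)) :
    Module.finrank k (eig W A a) ≤ Module.finrank k (eig W A (-a)) := by
  let f : eig W A a →ₗ[k] eig W A (-a) := LinearMap.restrict B (by
    intro x hx
    rw [mem_eig] at hx ⊢
    refine ⟨hB x hx.1, ?_⟩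
    rw [← Module.End.mul_apply, hAB, LinearMap.neg_apply, Module.End.mul_apply, hx.2, map_smul, neg_smul])
  apply LinearMap.finrank_le_finrank_of_injective (f := f)
  intro x y hxy
  apply Subtype.ext
  have h1 : B x = B y := congrArg Subtype.val hxy
  have h2 : (B * B) (x : V) = (B * B) y := by rw [Module.End.mul_apply, Module.End.mul_apply, h1]
  rw [hB2, LinearMap.smul_apply, LinearMap.smul_apply, Module.End.one_apply, Module.End.one_apply] at h2
  exact smul_right_injective V hb h2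

/-- the two eigenspaces of an involution -/
theorem finrank_add (h2 : (2 : k) ≠ 0) {W : Submodule k V} {A : Module.End k V} {a : k} (ha : a ≠ 0)
    (hA : ∀ x ∈ W, A x ∈ W) (hA2 : A * A = (a * a) • 1) :
    Module.finrank k W = Module.finrank k (eig W A a) + Module.finrank k (eig W A (-a)) := by
  have hsup : eig W A a ⊔ eig W A (-a) = W := by
    apply le_antisymm
    · exact sup_le inf_le_left inf_le_left
    · intro x hx
      rw [Submodule.mem_sup]
      have hAA : A (A x) = (a * a) • x := by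
        rw [← Module.End.mul_apply, hA2, LinearMap.smul_apply, Module.End.one_apply]
      refine ⟨(2 * a)⁻¹ • (a • x + A x), ?_, (2 * a)⁻¹ • (a • x - A x), ?_, ?_⟩
      · rw [mem_eig]
        refine ⟨W.smul_mem _ (W.add_mem (W.smul_mem _ hx) (hA x hx)), ?_⟩
        rw [map_smul, map_add, map_smul, hAA, smul_comm a]
        congr 1
        rw [smul_add, smul_smul, add_comm]
      · rw [mem_eig]
        refine ⟨W.smul_mem _ (W.sub_mem (W.smul_mem _ hx) (hA x hx)), ?_⟩
        rw [map_smul, map_sub, map_smul, hAA, smul_comm (-a)]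
        congr 1
        rw [smul_sub, smul_smul, neg_mul, neg_smul, neg_smul]
        abel
      · rw [← smul_add, add_add_sub_cancel, ← two_smul k (a • x), smul_smul, smul_smul,
          mul_assoc, inv_mul_cancel₀ (mul_ne_zero h2 ha), one_smul]
  have hinf : eig W A a ⊓ eig W A (-a) = ⊥ := by
    rw [eq_bot_iff]
    intro x hx
    rw [Submodule.mem_inf, mem_eig, mem_eig] at hx
    rw [Submodule.mem_bot]
    have h5 := hx.1.2.symm.trans hx.2.2
    have h6 : (2 * a) • x = 0 := by
      rw [two_mul, add_smul]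
      nth_rewrite 1 [h5]
      rw [neg_smul, neg_add_cancel]
    rcases smul_eq_zero.1 h6 with h | h
    · exact absurd h (mul_ne_zero h2 ha)
    · exact h
  have h5 := Submodule.finrank_sup_add_finrank_inf_eq (eig W A a) (eig W A (-a))
  rw [hsup, hinf, finrank_bot, add_zero] at h5
  exact h5

/-- **Halving.** -/
theorem finrank_half (h2 : (2 : k) ≠ 0) {W : Submodule k V} {A B : Module.End k V} {a b : k} (ha : a ≠ 0)
    (hb : b ≠ 0) (hA : ∀ x ∈ W, A x ∈ W) (hB : ∀ x ∈ W, B x ∈ W) (hA2 : A * A = (a * a) • 1)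
    (hB2 : B * B = b • 1) (hAB : A * B = -(B * A)) :
    Module.finrank k W = 2 * Module.finrank k (eig W A a) := by
  have h3 := finrank_eig_le (a := a) hB hb hB2 hAB
  have h4 := finrank_eig_le (a := -a) hB hb hB2 hAB
  rw [neg_neg] at h4
  have h5 := finrank_add h2 ha hA hA2
  omega

/-- conjugate operators -/
theorem finrank_eig_conj {A B G : Module.End k V} {a : k} (hG : Function.Injective G) (h : G * A = B * G) :
    Module.finrank k (eig ⊤ A a) ≤ Module.finrank k (eig ⊤ B a) := by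
  let f : eig ⊤ A a →ₗ[k] eig ⊤ B a := LinearMap.restrict G (by
    intro x hx
    rw [mem_eig] at hx ⊢
    refine ⟨trivial, ?_⟩
    rw [← Module.End.mul_apply, ← h, Module.End.mul_apply, hx.2, map_smul])
  apply LinearMap.finrank_le_finrank_of_injective (f := f)
  intro x y hxy
  exact Subtype.ext (hG (congrArg Subtype.val hxy))

/-- six anticommuting involutions -/
theorem eight_dvd (h2 : (2 : k) ≠ 0) {i : k} (hi : i * i = -1) {g : Fin 6 → Module.End k V}
    (hg : ∀ j, g j * g j = 1) (ha : ∀ a b, a ≠ b → g a * g b = -(g b * g a)) : 8 ∣ Module.finrank k V := by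
  have hi0 : i ≠ 0 := by rintro rfl; rw [mul_zero] at hi; exact absurd hi.symm (neg_ne_zero.2 one_ne_zero)
  -- products of two
  have hsq : ∀ a b, a ≠ b → (g a * g b) * (g a * g b) = (-1 : k) • 1 := by
    intro a b hab
    calc (g a * g b) * (g a * g b) = g a * (g b * g a) * g b := by simp only [mul_assoc]
      _ = -((g a * g a) * (g b * g b)) := by
        rw [ha b a (Ne.symm hab), mul_neg, neg_mul]; simp only [mul_assoc]
      _ = (-1 : k) • 1 := by rw [hg, hg, one_mul, neg_one_smul]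
  have hc1 : ∀ a b c, a ≠ b → a ≠ c → g a * (g b * g c) = (g b * g c) * g a := by
    intro a b c hab hac
    calc g a * (g b * g c) = (g a * g b) * g c := by rw [mul_assoc]
      _ = -(g b * (g a * g c)) := by rw [ha a b hab, neg_mul, mul_assoc]
      _ = (g b * g c) * g a := by rw [ha a c hac, mul_neg, neg_neg, mul_assoc]
  have hc2 : ∀ a b c d, a ≠ c → a ≠ d → b ≠ c → b ≠ d → (g a * g b) * (g c * g d) = (g c * g d) * (g a * g b) := by
    intro a b c d h1 h2 h3 h4
    rw [mul_assoc, hc1 b c d h3 h4, ← mul_assoc, hc1 a c d h1 h2, mul_assoc]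
  have hanti : ∀ a b c, a ≠ b → a ≠ c → b ≠ c → (g a * g b) * (g a * g c) = -((g a * g c) * (g a * g b)) := by
    intro a b c hab hac hbc
    have e1 : (g a * g b) * (g a * g c) = -(g b * g c) := by
      calc (g a * g b) * (g a * g c) = g a * (g b * g a) * g c := by simp only [mul_assoc]
        _ = -((g a * g a) * (g b * g c)) := by
          rw [ha b a (Ne.symm hab), mul_neg, neg_mul]; simp only [mul_assoc]
        _ = _ := by rw [hg, one_mul]
    have e2 : (g a * g c) * (g a * g b) = -(g c * g b) := by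
      calc (g a * g c) * (g a * g b) = g a * (g c * g a) * g b := by simp only [mul_assoc]
        _ = -((g a * g a) * (g c * g b)) := by
          rw [ha c a (Ne.symm hac), mul_neg, neg_mul]; simp only [mul_assoc]
        _ = _ := by rw [hg, one_mul]
    rw [e1, e2, ha b c hbc, neg_neg]
  have s1 := finrank_half h2 (W := ⊤) (A := g 0) (B := g 1) (a := 1) (b := 1) one_ne_zero one_ne_zero
    (fun _ _ => trivial) (fun _ _ => trivial) (by rw [hg, mul_one, one_smul]) (by rw [hg, one_smul])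
    (ha 0 1 (by decide))
  have inv1 : ∀ b c : Fin 6, 0 ≠ b → 0 ≠ c → ∀ x ∈ eig ⊤ (g 0) 1, (g b * g c) x ∈ eig ⊤ (g 0) 1 := by
    intro b c hb hc
    exact eig_inv (fun _ _ => trivial) (hc1 0 b c hb hc)
  have s2 := finrank_half h2 (W := eig ⊤ (g 0) 1) (A := g 1 * g 2) (B := g 1 * g 3) (a := i) (b := -1) hi0
    (neg_ne_zero.2 one_ne_zero) (inv1 1 2 (by decide) (by decide)) (inv1 1 3 (by decide) (by decide))
    (by rw [hsq 1 2 (by decide), hi]) (hsq 1 3 (by decide)) (hanti 1 2 3 (by decide) (by decide) (by decide))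
  have s3 := finrank_half h2 (W := eig (eig ⊤ (g 0) 1) (g 1 * g 2) i) (A := g 3 * g 4) (B := g 3 * g 5) (a := i)
    (b := -1) hi0 (neg_ne_zero.2 one_ne_zero)
    (eig_inv (inv1 3 4 (by decide) (by decide)) (hc2 1 2 3 4 (by decide) (by decide) (by decide) (by decide)))
    (eig_inv (inv1 3 5 (by decide) (by decide)) (hc2 1 2 3 5 (by decide) (by decide) (by decide) (by decide)))
    (by rw [hsq 3 4 (by decide), hi]) (hsq 3 5 (by decide)) (hanti 3 4 5 (by decide) (by decide) (by decide))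
  rw [finrank_top] at s1
  rw [s1, s2, s3]
  exact ⟨Module.finrank k (eig (eig (eig ⊤ (g 0) 1) (g 1 * g 2) i) (g 3 * g 4) i), by ring⟩

end Cfsg.Agent.H916.Halving
end

-- part: H916/SpSixK
section
/-!
# Cores with simple group `Sp₆(2)`, in odd characteristic and dimension at most 12

`spSix_seven` : in dimension 7 the traces are integers and `P` is self-dual (`SD P`, `Fr P p`);
`spSix_dim` : the dimension is 7 or 8.
-/

set_option autoImplicit false
set_option linter.unusedSectionVars false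
set_option linter.unusedVariables false

namespace Cfsg.Agent.H916.SpSix

open TreeTrace Cfsg Cfsg.Geo Cfsg.Agent.H915.LD Matrix

universe u v

variable {ι : Type} [Fintype ι] [DecidableEq ι] {F : Type u} [Field F] {P : Subgroup (GL ι F)}

/-- the anticommuting case -/
theorem core_anti {T : Type v} [Group T] (hC : Core P) (e : Soc P ≃* T) {t : ℕ → T} (D : SpData t)
    (h2 : (2 : F) ≠ 0) (hc : (coreRep hC e).AntiL (t 1) (t 2)) : 8 ∣ Fintype.card ι := by
  have : Nonempty ι := hC.nonempty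
  have h2' : (2 : AlgebraicClosure F) ≠ 0 := by
    intro h
    apply h2
    apply (algebraMap F (AlgebraicClosure F)).injective
    rw [map_zero, map_ofNat, h]
  obtain ⟨i, hi⟩ := IsAlgClosed.exists_pow_nat_eq (-1 : AlgebraicClosure F) (n := 2) (by norm_num)
  rw [sq] at hi
  choose g hg hg2 using fun j : Fin 6 => (coreRep hC e).exists_inv (D.sq (v := j + 1) (by omega) (by omega))
  have h8 := Halving.eight_dvd h2' hi hg2 (fun a b hab => by
    apply D.anti_all (coreRep hC e) hc (v := (a : ℕ) + 1) (w := (b : ℕ) + 1) (by omega) (by omega) (by omega)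
      (by omega) (fun h => hab (by ext; omega)) _ _ (hg a) _ (hg b)
    fin_cases a <;> fin_cases b <;> rfl)
  rwa [Module.finrank_fintype_fun_eq_card] at h8

theorem core_sp {T : Type v} [Group T] (hC : Core P) (e : Soc P ≃* T) {t : ℕ → T} (D : SpData t)
    (gen : Subgroup.closure {x | ∃ v, 0 < v ∧ v < 64 ∧ x = t v} = ⊤) (h2 : (2 : F) ≠ 0)
    (hn : Fintype.card ι ≤ 13) :
    (Fintype.card ι = 7 ∧ ∀ g ∈ P, ∃ z : ℤ, tr g = z ∧ tr g⁻¹ = z) ∨
      (Fintype.card ι = 8 ∧ (coreRep hC e).AntiL (t 1) (t 2)) := by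
  have : Nonempty ι := hC.nonempty
  rcases D.dichotomy (coreRep hC e) with hc | hc
  · exact Or.inl (core_comm hC e D gen h2 hn hc)
  · obtain ⟨m, hm⟩ := core_anti hC e D h2 hc
    have := Fintype.card_pos (α := ι)
    exact Or.inr ⟨by omega, hc⟩

theorem of_int {p : ℕ} [_root_.Fact p.Prime] [CharP F p] (h : ∀ g ∈ P, ∃ z : ℤ, tr g = z ∧ tr g⁻¹ = z) :
    SD P ∧ Fr P p := by
  constructor
  · intro g hg
    obtain ⟨z, h1, h2⟩ := h g hg
    rw [h1, h2]
  · intro g hg
    obtain ⟨z, h1, h2⟩ := h g hg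
    rw [h1, ← frobenius_def, map_intCast]

variable {K : Type v} [Field K] (hK : ∀ x : K, x = 0 ∨ x = 1)

include hK

theorem spSix_dim (hC : Core P) (e : Soc P ≃* PSp 3 K) (h2 : (2 : F) ≠ 0) (hn : Fintype.card ι ≤ 13) :
    Fintype.card ι = 7 ∨ Fintype.card ι = 8 := by
  rcases core_sp hC e (spData hK) (spGen hK) h2 hn with h | h
  · exact Or.inl h.1
  · exact Or.inr h.1

theorem spSix_seven_int (hC : Core P) (e : Soc P ≃* PSp 3 K) (h2 : (2 : F) ≠ 0) (hn : Fintype.card ι = 7) :
    ∀ g ∈ P, ∃ z : ℤ, tr g = z ∧ tr g⁻¹ = z := by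
  rcases core_sp hC e (spData hK) (spGen hK) h2 (by omega) with h | h
  · exact h.2
  · have := h.1; omega

/-- **`Sp₆(2)` in dimension 7: self-dual, over the prime field.** -/
theorem spSix_seven (hC : Core P) (p : ℕ) [_root_.Fact p.Prime] [CharP F p] (e : Soc P ≃* PSp 3 K) (h2 : (2 : F) ≠ 0)
    (hn : Fintype.card ι = 7) : SD P ∧ Fr P p :=
  of_int (spSix_seven_int hK hC e h2 hn)

end Cfsg.Agent.H916.SpSix
end

-- part: H916/OmC
section
/-!
# Projective representations of `Ω₈⁺(2)` in dimension at most 13: the dimension is 8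
-/

set_option autoImplicit false
set_option linter.unusedSectionVars false
set_option linter.unusedVariables false

namespace Cfsg.Agent.H916.Om

open SpSix Halving

section PR

variable {T k V : Type*} [Group T] [Field k] [AddCommGroup V] [Module k V] (R : PRep T k V)

include R in
theorem _root_.Cfsg.Agent.H916.SpSix.PRep.injective {t : T} {A : Module.End k V} (hA : A ∈ R.L t) :
    Function.Injective A := by
  obtain ⟨C, hC⟩ := R.ex t⁻¹
  have h1 := R.mul hC hA
  rw [inv_mul_cancel] at h1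
  obtain ⟨a, ha, h1⟩ := R.one h1
  intro x y hxy
  have h2 : (C * A) x = (C * A) y := by rw [Module.End.mul_apply, Module.End.mul_apply, hxy]
  rw [h1, LinearMap.smul_apply, LinearMap.smul_apply, Module.End.one_apply, Module.End.one_apply] at h2
  exact smul_right_injective V ha h2

include R in
/-- involutive lifts of conjugate involutions are conjugate up to sign -/
theorem _root_.Cfsg.Agent.H916.SpSix.PRep.conj_lift [Nontrivial V] {s g s' : T} {A B G : Module.End k V} (hG : G ∈ R.L g)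
    (hA : A ∈ R.L s) (hA2 : A * A = 1) (hB : B ∈ R.L s') (hB2 : B * B = 1) (hs : g * s = s' * g) :
    G * A = B * G ∨ G * A = -(B * G) := by
  have h1 := R.mul hG hA
  have h2 := R.mul hB hG
  rw [← hs] at h2
  obtain ⟨c, hc, h⟩ := R.prop_of h1 h2
  have h3 : G = (c * c) • G := by
    calc G = (G * A) * A := by rw [mul_assoc, hA2, mul_one]
      _ = (c • (B * G)) * A := by rw [h]
      _ = c • (B * (G * A)) := by rw [smul_mul_assoc, mul_assoc]
      _ = c • (B * (c • (B * G))) := by rw [h]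
      _ = (c * c) • (B * B * G) := by rw [mul_smul_comm, smul_smul, mul_assoc]
      _ = _ := by rw [hB2, one_mul]
  have hG0 : G ≠ 0 := R.ne_zero hG
  have h4 : (1 - c * c) • G = 0 := by rw [sub_smul, one_smul, ← h3, sub_self]
  have h5 : c * c = 1 := by
    rcases smul_eq_zero.1 h4 with h' | h'
    · exact (sub_eq_zero.1 h').symm
    · exact absurd h' hG0
  rcases mul_self_eq_one_iff.1 h5 with h' | h'
  · left; rw [h, h', one_smul]
  · right; rw [h, h', neg_one_smul]

theorem eig_neg {A : Module.End k V} {a : k} : eig ⊤ (-A) a = eig ⊤ A (-a) := by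
  ext x
  rw [mem_eig, mem_eig, LinearMap.neg_apply, neg_smul, neg_eq_iff_eq_neg]

include R in
theorem _root_.Cfsg.Agent.H916.SpSix.PRep.dims [Nontrivial V] [FiniteDimensional k V] (h2 : (2 : k) ≠ 0)
    {s g s' : T} {A B G : Module.End k V}
    (hG : G ∈ R.L g) (hA : A ∈ R.L s) (hA2 : A * A = 1) (hB : B ∈ R.L s') (hB2 : B * B = 1) (hs : g * s = s' * g) :
    Module.finrank k (eig ⊤ B 1) = Module.finrank k (eig ⊤ A 1) ∨
      Module.finrank k (eig ⊤ B 1) = Module.finrank k (eig ⊤ A (-1)) := by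
  have hGi := R.injective hG
  have hA' := finrank_add (W := ⊤) (A := A) (a := 1) h2 one_ne_zero (fun _ _ => trivial) (by
    rw [hA2, mul_one, one_smul])
  have hB' := finrank_add (W := ⊤) (A := B) (a := 1) h2 one_ne_zero (fun _ _ => trivial) (by
    rw [hB2, mul_one, one_smul])
  rcases R.conj_lift hG hA hA2 hB hB2 hs with h | h
  · left
    have h3 := finrank_eig_conj (a := 1) hGi h
    have h4 := finrank_eig_conj (a := -1) hGi h
    omega
  · right
    have h' : G * A = (-B) * G := by rw [h, neg_mul]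
    have h3 := finrank_eig_conj (a := 1) hGi h'
    have h4 := finrank_eig_conj (a := -1) hGi h'
    rw [eig_neg] at h3 h4
    rw [neg_neg] at h4
    omega

end PR

section dims

variable {k V : Type*} [Field k] [AddCommGroup V] [Module k V] [FiniteDimensional k V] (h2 : (2 : k) ≠ 0)
    (hfin : Module.finrank k V ≤ 13)
    {T : Fin 7 → Module.End k V} {g1 g2 : Module.End k V} (D : FanoE T g1 g2) (hl : T 0 * T 1 * T 2 ≠ 1)

include h2 hfin D hl

theorem finrank_plus (u : Fin 7) : Module.finrank k (eig ⊤ (T u) 1) = Module.finrank k (ZZ T) + 1 := by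
  have hsup : ZZ T ⊔ EE T u = eig ⊤ (T u) 1 := by
    apply le_antisymm
    · apply sup_le
      · intro x hx
        rw [mem_eig, one_smul]
        exact ⟨trivial, hx u⟩
      · intro x hx
        rw [mem_eig, one_smul]
        exact ⟨trivial, mem_EE_self hx⟩
    · intro x hx
      rw [mem_eig, one_smul] at hx
      obtain ⟨z, hz, e, he, rfl⟩ := exists_decomp h2 hfin D hl hx.2
      exact Submodule.add_mem_sup hz he
  have hinf : ZZ T ⊓ EE T u = ⊥ := by
    rw [eq_bot_iff]
    intro x hx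
    rw [Submodule.mem_inf] at hx
    obtain ⟨j, hj⟩ : ∃ j : Fin 7, j ≠ u := by
      by_cases h : u = 0
      · exact ⟨1, by rw [h]; decide⟩
      · exact ⟨0, fun h' => h h'.symm⟩
    rw [Submodule.mem_bot]
    apply eq_zero_of_eq_neg h2
    rw [← mem_EE_ne hx.2 hj]
    exact (hx.1 j).symm
  have h := Submodule.finrank_sup_add_finrank_inf_eq (ZZ T) (EE T u)
  rw [hsup, hinf, finrank_bot, add_zero, finrank_EE h2 hfin D hl] at h
  exact h

theorem finrank_prod_minus {u v : Fin 7} (huv : u ≠ v) :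
    Module.finrank k (eig ⊤ (T u * T v) (-1)) = 2 := by
  have hsup : EE T u ⊔ EE T v = eig ⊤ (T u * T v) (-1) := by
    apply le_antisymm
    · apply sup_le
      · intro x hx
        rw [mem_eig, neg_one_smul, Module.End.mul_apply, mem_EE_ne hx (Ne.symm huv), map_neg, mem_EE_self hx]
        exact ⟨trivial, rfl⟩
      · intro x hx
        rw [mem_eig, neg_one_smul, Module.End.mul_apply, mem_EE_self hx, mem_EE_ne hx huv]
        exact ⟨trivial, rfl⟩
    · intro x hx
      rw [mem_eig, neg_one_smul, Module.End.mul_apply] at hx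
      have hx2 := hx.2
      have hv : T v x = -T u x := by
        have := congrArg (T u) hx2
        rwa [D.sq', map_neg] at this
      have key : ∀ {u v : Fin 7} {x : V}, u ≠ v → T v x = -T u x → x + T u x ∈ EE T u := by
        intro u v x huv hv
        have h0 : T u (x + T u x) = x + T u x := by rw [map_add, D.sq', add_comm]
        have h1 : T v (x + T u x) = -(x + T u x) := by
          rw [map_add, D.comm', hv, map_neg, D.sq']; abel
        obtain ⟨z, hz, e, he, hze⟩ := exists_decomp h2 hfin D hl h0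
        rw [hze] at h1 ⊢
        rw [map_add, hz v, mem_EE_ne he (Ne.symm huv)] at h1
        have h3 : z = 0 := by
          apply eq_zero_of_eq_neg h2
          have h4 : z + -e = -z + -e := by rw [h1]; abel
          exact add_right_cancel h4
        rw [h3, zero_add]
        exact he
      have h3 := key huv hv
      have h4 := key (Ne.symm huv) (x := x) (by rw [hv, neg_neg])
      have h5 := (EE T u ⊔ EE T v).smul_mem (2 : k)⁻¹ (Submodule.add_mem_sup h3 h4)
      rw [hv] at h5
      have h6 : x + T u x + (x + -T u x) = (2 : k) • x := by rw [two_smul]; abel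
      rwa [h6, smul_smul, inv_mul_cancel₀ h2, one_smul] at h5
  have hinf : EE T u ⊓ EE T v = ⊥ := by
    rw [eq_bot_iff]
    intro x hx
    rw [Submodule.mem_inf] at hx
    rw [Submodule.mem_bot]
    apply eq_zero_of_eq_neg h2
    rw [← mem_EE_ne hx.2 huv]
    exact (mem_EE_self hx.1).symm
  have h := Submodule.finrank_sup_add_finrank_inf_eq (EE T u) (EE T v)
  rw [hsup, hinf, finrank_bot, add_zero, finrank_EE h2 hfin D hl, finrank_EE h2 hfin D hl] at h
  exact h

end dims

section main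

variable {T k V : Type*} [Group T] [Field k] [IsAlgClosed k] [AddCommGroup V] [Module k V] [FiniteDimensional k V]
  [Nontrivial V] (R : PRep T k V)

/-- non-triviality -/
theorem _root_.Cfsg.Agent.H916.SpSix.CA.ne {t : ℕ → T} (D : SpData t) {R : PRep T k V} {S : Fin 7 → Module.End k V}
    (hA : CA R t S) : Ga S 1 * Ga S 2 * Ga S 3 ≠ 1 := by
  intro h
  have hm : ∀ {v}, 0 < v → v < 64 → Ga S v ∈ R.L (t v) := fun h0 h => D.ga_mem R hA.mem h0 h
  have h3 := R.mul (R.mul (hm (v := 1) (by norm_num) (by norm_num))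
    (hm (v := 2) (by norm_num) (by norm_num))) (hm (v := 3) (by norm_num) (by norm_num))
  rw [h, ← one_smul k (1 : Module.End k V)] at h3
  exact D.ne (R.inj h3)

/-- the anticommuting case -/
theorem _root_.Cfsg.Agent.H916.SpSix.SpData.eight_dvd {t : ℕ → T} (D : SpData t) (h2 : (2 : k) ≠ 0)
    (hc : R.AntiL (t 1) (t 2)) : 8 ∣ Module.finrank k V := by
  obtain ⟨i, hi⟩ := IsAlgClosed.exists_pow_nat_eq (-1 : k) (n := 2) (by norm_num)
  rw [sq] at hi
  choose g hg hg2 using fun j : Fin 6 => R.exists_inv (D.sq (v := j + 1) (by omega) (by omega))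
  exact Halving.eight_dvd h2 hi hg2 (fun a b hab => by
    apply D.anti_all R hc (v := (a : ℕ) + 1) (w := (b : ℕ) + 1) (by omega) (by omega) (by omega)
      (by omega) (fun h => hab (by ext; omega)) _ _ (hg a) _ (hg b)
    fin_cases a <;> fin_cases b <;> rfl)

variable {τ : ℕ → ℕ → T} (D : OmData τ)

include D

theorem OmData.finrank_ZZ (h2 : (2 : k) ≠ 0) (hfin : Module.finrank k V ≤ 13) {S : Fin 7 → Module.End k V}
    (hA : CA R (fun v => τ n0 (lift v)) S) : Module.finrank k (ZZ (TT S)) = 1 := by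
  have hl := hA.ne D.spData
  have FE := fanoE hA.cox hA.prod
  have hm : ∀ {v}, 0 < v → v < 64 → Ga S v ∈ R.L (τ n0 (lift v)) := fun h0 h => D.spData.ga_mem R hA.mem h0 h
  have hA1 : TT S 0 ∈ R.L (τ n0 (lift 1)) := hm (by norm_num) (by norm_num)
  have hB1 : TT S 0 * TT S 1 ∈ R.L (τ (lift 1) (lift 2)) := by
    have h := R.mul (hm (v := 1) (by norm_num) (by norm_num)) (hm (v := 2) (by norm_num) (by norm_num))
    rw [D.symm ns_n0 (by decide : ns (lift 1)) (by decide), D.mul (by decide) ns_n0 (by decide)] at h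
    exact h
  have hA2 : TT S 0 * TT S 0 = 1 := FE.sq 0
  have hB2 : (TT S 0 * TT S 1) * (TT S 0 * TT S 1) = 1 := comm_sq (FE.sq 0) (FE.sq 1) (FE.comm 0 1)
  obtain ⟨G, hG⟩ := R.ex (τ 147 145)
  have hs : τ 147 145 * τ n0 (lift 1) = τ (lift 1) (lift 2) * τ 147 145 := by
    have h := D.conj (a := 147) (b := 145) (n := n0) (m := lift 1) (by decide) (by decide) ns_n0 (by decide)
    rw [show rr 147 (rr 145 n0) = lift 2 from by decide, show rr 147 (rr 145 (lift 1)) = lift 1 from by decide,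
      ← D.symm (n := lift 1) (m := lift 2) (by decide) (by decide) (by decide),
      ← D.inv (n := 147) (m := 145) (by decide) (by decide)] at h
    rw [← h]; group
  have h3 := R.dims h2 hG hA1 hA2 hB1 hB2 hs
  have hAp := finrank_plus h2 hfin FE hl 0
  have hBm := finrank_prod_minus h2 hfin FE hl (u := 0) (v := 1) (by decide)
  have hA' := finrank_add (W := ⊤) (A := TT S 0) (a := 1) h2 one_ne_zero (fun _ _ => trivial) (by
    rw [hA2, mul_one, one_smul])
  have hB' := finrank_add (W := ⊤) (A := TT S 0 * TT S 1) (a := 1) h2 one_ne_zero (fun _ _ => trivial) (by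
    rw [hB2, mul_one, one_smul])
  have hn := finrank_eq h2 hfin FE hl
  rw [finrank_top] at hA' hB'
  omega

include R in
/-- **The dimension is 8.** -/
theorem OmData.finrank_eight (h2 : (2 : k) ≠ 0) (hfin : Module.finrank k V ≤ 13) : Module.finrank k V = 8 := by
  rcases D.spData.dichotomy R with hc | hc
  · obtain ⟨S, hA⟩ := D.spData.exists_CA R hc
    have h3 := D.finrank_ZZ R h2 hfin hA
    have hn := finrank_eq h2 hfin (fanoE hA.cox hA.prod) (hA.ne D.spData)
    omega
  · obtain ⟨m, hm⟩ := D.spData.eight_dvd R h2 hc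
    have := Module.finrank_pos (R := k) (M := V)
    omega

end main

end Cfsg.Agent.H916.Om
end

-- part: H916/OmD
section
/-!
# Cores with simple group `Ω₈⁺(2)` in odd characteristic and dimension at most 13: the dimension is 8
-/

set_option autoImplicit false
set_option linter.unusedSectionVars false
set_option linter.unusedVariables false

namespace Cfsg.Agent.H916.Om

open SpSix Cfsg Cfsg.Geo Cfsg.Agent.H915.LD Matrix Cfsg.Agent.LieClassical.OrthForms

universe u v

variable {ι : Type} [Fintype ι] [DecidableEq ι] {F : Type u} [Field F] {P : Subgroup (GL ι F)}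

theorem core_dim {T : Type v} [Group T] (hC : Core P) (e : Soc P ≃* T) {τ : ℕ → ℕ → T} (D : OmData τ)
    (h2 : (2 : F) ≠ 0) (hn : Fintype.card ι ≤ 13) : Fintype.card ι = 8 := by
  have : Nonempty ι := hC.nonempty
  have h2' : (2 : AlgebraicClosure F) ≠ 0 := by
    intro h
    apply h2
    apply (algebraMap F (AlgebraicClosure F)).injective
    rw [map_zero, map_ofNat, h]
  have h := D.finrank_eight (coreRep hC e) h2' (by rw [Module.finrank_fintype_fun_eq_card]; exact hn)
  rwa [Module.finrank_fintype_fun_eq_card] at h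

/-- **`Ω₈⁺(2)`: dimension 8.** -/
theorem omega_dim {K : Type v} [Field K] (hK : ∀ x : K, x = 0 ∨ x = 1) (hC : Core P)
    (e : Soc P ≃* POmega K (quadFormPlus 4 K)) (h2 : (2 : F) ≠ 0) (hn : Fintype.card ι ≤ 13) :
    Fintype.card ι = 8 := by
  rw [← coe_plusForm] at e
  exact core_dim hC e (omData hK) h2 hn

end Cfsg.Agent.H916.Om
end

private theorem dce_7cb4ace38e5f : _root_.True := by
  try have : _root_.True := by simp only [_root_.Cfsg.Agent.H916.SpSix.stepL.eq_1]
  try have : _root_.True := by simp only [_root_.Cfsg.Agent.H916.SpSix.pl.eq_2]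
  try have : _root_.True := by simp only [_root_.Cfsg.Agent.H916.SpSix.al.eq_1]
  try have : _root_.True := by simp only [_root_.Cfsg.Agent.H916.SpSix.al.eq_2]
  try have : _root_.True := by simp only [_root_.Cfsg.Agent.H916.TreeTrace.pS.eq_1]
  try have : _root_.True := by simp only [_root_.Cfsg.Agent.H916.TreeTrace.pS.eq_def]
  try have : _root_.True := by simp only [_root_.Cfsg.Agent.H916.TreeTrace.pS.eq_2]
  try have : _root_.True := by simp only [_root_.Cfsg.Agent.H916.Halving.eig.eq_1]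
  try have : _root_.True := by simp only [_root_.Cfsg.Agent.H916.SpSix.pl.eq_1]
  try have : _root_.True := by simp only [_root_.Cfsg.Agent.H916.SpSix.al.eq_def]
  try have : _root_.True := by simp only [_root_.Cfsg.Agent.H916.SpSix.Phi.eq_1]
  try have : _root_.True := by simp only [_root_.Cfsg.Agent.H916.TreeTrace.rM.eq_1]
  try have : _root_.True := by simp only [_root_.Cfsg.Agent.H916.SpSix.pl.eq_def]
  try have : _root_.True := by simp only [_root_.Cfsg.Agent.H916.SpSix.Ga.eq_1]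
  exact _root_.True.intro
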